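import Cfsg.Agent.OddHalf.D6.RThree.Facts

/-!
# Transport of `Facts.One` along an isomorphism
-/

set_option autoImplicit false

namespace Cfsg.Agent.OddHalf.D6.RThree.Facts

open Subgroup

section

variable {K L : Type*} [Group K] [Group L] (e : K ≃* L)

theorem congr_apply (α : MulAut K) (x : K) : MulAut.congr e α (e x) = e (α x) := by
  simp [MulAut.congr]

theorem congr_conj (x : K) : MulAut.congr e (MulAut.conj x) = MulAut.conj (e x) := by
  ext y
  obtain ⟨w, rfl⟩ := e.surjective y
  rw [congr_apply, MulAut.conj_apply, MulAut.conj_apply, map_mul, map_mul, map_inv]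

theorem mem_map_iff {Q : Subgroup K} {x : K} : e x ∈ Q.map e.toMonoidHom ↔ x ∈ Q := by
  constructor
  · rintro ⟨y, hy, hyx⟩
    rwa [← e.injective hyx]
  · intro h
    exact ⟨x, h, rfl⟩

theorem triv_congr {Q : Subgroup K} {α : MulAut K} : Triv (Q.map e.toMonoidHom) (MulAut.congr e α) ↔ Triv Q α := by
  constructor
  · intro h q hq
    have := h (e q) ((mem_map_iff e).2 hq)
    rw [congr_apply] at this
    exact e.injective this
  · rintro h _ ⟨q, hq, rfl⟩
    change MulAut.congr e α (e q) = e q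
    rw [congr_apply, h q hq]

theorem inner_congr {Q : Subgroup K} {α : MulAut K} :
    Inner (Q.map e.toMonoidHom) (MulAut.congr e α) ↔ Inner Q α := by
  constructor
  · rintro ⟨_, ⟨r, hr, rfl⟩, h⟩
    refine ⟨r, hr, fun q hq => ?_⟩
    have := h (e q) ((mem_map_iff e).2 hq)
    rw [congr_apply] at this
    change e (α q) = e r * e q * (e r)⁻¹ at this
    rw [← map_mul, ← map_inv, ← map_mul] at this
    exact e.injective this
  · rintro ⟨r, hr, h⟩
    refine ⟨e r, (mem_map_iff e).2 hr, ?_⟩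
    rintro _ ⟨q, hq, rfl⟩
    change MulAut.congr e α (e q) = e r * e q * (e r)⁻¹
    rw [congr_apply, h q hq, map_mul, map_mul, map_inv]

theorem isP_congr {α : MulAut K} (h : IsPGroup 2 (zpowers (MulAut.congr e α))) : IsPGroup 2 (zpowers α) := by
  have h1 : zpowers (MulAut.congr e α) = (zpowers α).map (MulAut.congr e).toMonoidHom :=
    ((MulAut.congr e).toMonoidHom.map_zpowers α).symm
  rw [h1] at h
  exact h.of_equiv ((zpowers α).equivMapOfInjective _ (MulAut.congr e).injective).symm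

theorem isP_map {x : K} (h : IsPGroup 2 (zpowers x)) : IsPGroup 2 (zpowers (e x)) := by
  have h1 : zpowers (e x) = (zpowers x).map e.toMonoidHom := (e.toMonoidHom.map_zpowers x).symm
  rw [h1]
  exact h.map _

theorem isP_map' {x : K} (h : IsPGroup 2 (zpowers (e x))) : IsPGroup 2 (zpowers x) := by
  have := isP_map e.symm h
  rwa [e.symm_apply_apply] at this

theorem mem_J {z x : K} (h : e x ∈ J (e z)) : x ∈ J z := by
  have h1 : J (e z) ≤ (J z).map e.toMonoidHom := by
    refine (closure_le _).2 ?_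
    rintro y ⟨h2, h3⟩
    obtain ⟨w, rfl⟩ := e.surjective y
    refine ⟨w, subset_closure ⟨?_, ?_⟩, rfl⟩
    · rw [← map_mul, ← map_mul] at h2
      exact e.injective h2
    · rwa [e.orderOf_eq] at h3
  exact (mem_map_iff e).1 (h1 h)

theorem One.of_equiv {z : K} {Q : Subgroup K} (h : One z Q) : One (e z) (Q.map e.toMonoidHom) := by
  have hcj : ∀ α : MulAut L, ∃ β : MulAut K, α = MulAut.congr e β := fun α =>
    ⟨(MulAut.congr e).symm α, ((MulAut.congr e).apply_symm_apply α).symm⟩
  have hcz : ∀ {α : MulAut K}, MulAut.congr e α (e z) = e z ↔ α z = z := by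
    intro α
    rw [congr_apply]
    exact ⟨fun h => e.injective h, fun h => by rw [h]⟩
  have hinj : ∀ {α β : MulAut K}, MulAut.congr e α = MulAut.congr e β ↔ α = β := fun {α β} =>
    (MulAut.congr e).injective.eq_iff
  have hcomm : ∀ {x : K}, e x * e z = e z * e x ↔ x * z = z * x := by
    intro x
    rw [← map_mul, ← map_mul]
    exact e.injective.eq_iff
  refine { zz := ?_, z1 := ?_, odd := ?_, zQ := ?_, card := ?_, sq := ?_, aut := ?_, ex := ?_, jQ := ?_, jz := ?_,
           out := ?_, k1 := ?_, k2 := ?_, k3 := ?_, exp := ?_, k5 := ?_, sq4 := ?_, q8 := ?_, big := ?_ }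
  · rw [← map_mul, h.zz, map_one]
  · intro h1
    exact h.z1 (e.injective (by rw [h1, map_one]))
  · have h1 : centralizer ({e z} : Set L) = (centralizer ({z} : Set K)).map e.toMonoidHom := by
      ext y
      obtain ⟨w, rfl⟩ := e.surjective y
      rw [mem_map_iff, mem_centralizer_singleton_iff, mem_centralizer_singleton_iff, hcomm]
    rw [h1]
    have h2 := index_map_of_bijective (f := e.toMonoidHom) e.bijective (centralizer ({z} : Set K))
    rw [h2]
    exact h.odd
  · exact (mem_map_iff e).2 h.zQ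
  · rw [← h.card]
    exact (Nat.card_congr (Q.equivMapOfInjective _ e.injective).toEquiv).symm
  · rintro _ ⟨q, hq, rfl⟩ h1 h2
    change e q * e q = e z
    rw [← map_mul, h.sq q hq (fun h3 => h1 (by rw [h3, map_one])) (fun h3 => h2 (by rw [h3]; rfl))]
  · intro α hα
    obtain ⟨β, rfl⟩ := hcj α
    rintro _ ⟨q, hq, rfl⟩
    change MulAut.congr e β (e q) ∈ _
    rw [congr_apply, mem_map_iff]
    exact h.aut β (hcz.1 hα) q hq
  · obtain ⟨a, h1, h2, h3⟩ := h.ex
    refine ⟨e a, hcomm.2 h1, by rwa [e.orderOf_eq], ?_⟩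
    rintro _ ⟨q, hq, rfl⟩ h4 h5 h6
    refine h3 q hq (fun h => h4 (by rw [h, map_one])) (fun h => h5 (by rw [h]; rfl)) ?_
    change e q * (e a * e q * (e a)⁻¹) = e a * e q * (e a)⁻¹ * e q at h6
    rw [← map_inv, ← map_mul, ← map_mul, ← map_mul, ← map_mul] at h6
    exact e.injective h6
  · intro x hx hc
    obtain ⟨w, rfl⟩ := e.surjective x
    rcases h.jQ w (mem_J e hx) (fun q hq => by
      have := hc (e q) ((mem_map_iff e).2 hq)
      rw [← map_mul, ← map_mul] at this
      exact e.injective this) with h1 | h1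
    · left; rw [h1, map_one]
    · right; rw [h1]
  · intro x hx hc
    obtain ⟨w, rfl⟩ := e.surjective x
    rcases h.jz w (mem_J e hx) (by
      rw [← map_mul, ← map_one e] at hc
      exact e.injective hc) with h1 | h1
    · left; rw [h1, map_one]
    · right; rw [h1]
  · have h1 : (MulAut.conj : L →* MulAut L).range =
        ((MulAut.conj : K →* MulAut K).range).map (MulAut.congr e).toMonoidHom := by
      ext α
      constructor
      · rintro ⟨y, rfl⟩
        obtain ⟨w, rfl⟩ := e.surjective y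
        exact ⟨MulAut.conj w, ⟨w, rfl⟩, congr_conj e w⟩
      · rintro ⟨_, ⟨w, rfl⟩, rfl⟩
        exact ⟨e w, (congr_conj e w).symm⟩
    rw [h1, index_map_of_bijective (f := (MulAut.congr e).toMonoidHom) (MulAut.congr e).bijective]
    exact h.out
  · intro α hα
    obtain ⟨β, rfl⟩ := hcj α
    rcases h.k1 β ((triv_congr e).1 hα) with h1 | h1 | h1
    · left; rw [h1, map_one]
    · right; left; rw [h1, congr_conj]
    · right; right; rw [← map_mul, h1, congr_conj]
  · refine le_trans (le_of_eq ?_) h.k2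
    refine (Nat.card_congr ((MulAut.congr e).toEquiv.subtypeEquiv fun α => ?_)).symm
    exact (triv_congr e).symm
  · intro α hα x hx
    obtain ⟨β, rfl⟩ := hcj α
    obtain ⟨w, rfl⟩ := e.surjective x
    rw [congr_apply, h.k3 β ((triv_congr e).1 hα) w (mem_J e hx)]
  · obtain ⟨p, h1, h2, h3⟩ := h.exp
    refine ⟨e p, hcomm.2 h1, isP_map e h2, fun h4 => h3 ?_⟩
    rw [← congr_conj] at h4
    exact (inner_congr e).1 h4
  · intro α hα hno x hx hx2 hxi h1
    obtain ⟨β, rfl⟩ := hcj α
    obtain ⟨w, rfl⟩ := e.surjective x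
    rw [congr_apply] at h1
    refine h.k5 β ((triv_congr e).1 hα) ?_ w (hcomm.1 hx) (isP_map' e hx2) ?_ (e.injective h1)
    · rintro ⟨g, rfl⟩
      exact hno ⟨e g, (congr_conj e g).symm⟩
    · intro h2
      apply hxi
      rw [← congr_conj]
      exact (inner_congr e).2 h2
  · intro γ κ h1 h2 h3 h4 h5 h6 h7
    obtain ⟨γ', rfl⟩ := hcj γ
    obtain ⟨κ', rfl⟩ := hcj κ
    rw [← map_mul, ← congr_conj, hinj] at h5
    rw [← map_mul, ← map_mul, hinj] at h6
    obtain ⟨r, hr, β, hb1, hb2, hb3⟩ := h.sq4 γ' κ' (hcz.1 h1) (isP_congr e h2)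
      (fun h => h3 ((inner_congr e).2 h)) ((triv_congr e).1 h4) h5 h6 (fun x hx => by
        have := h7 (e x) (hcomm.2 hx)
        rwa [← congr_conj, ← congr_conj, ← map_inv, ← map_mul, ← map_mul, ← map_mul, hinj, hinj] at this)
    refine ⟨e r, (mem_map_iff e).2 hr, MulAut.congr e β, (triv_congr e).2 hb1, ?_, ?_⟩
    · rw [← map_mul, hb2, congr_conj]
    · rw [← map_mul, hb3, map_mul, congr_conj]
  · intro γ κ₁ κ₂ h1 h2 h3 h4 h5 h6
    obtain ⟨γ', rfl⟩ := hcj γ
    obtain ⟨κ₁', rfl⟩ := hcj κ₁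
    obtain ⟨κ₂', rfl⟩ := hcj κ₂
    obtain ⟨κ, hk, hk1, hk2⟩ := h.q8 γ' κ₁' κ₂' (hcz.1 h1) (isP_congr e h2)
      (fun h => h3 ((inner_congr e).2 h)) ((triv_congr e).1 h4) ((triv_congr e).1 h5) (fun h => h6 (by
        rw [← map_mul, ← map_mul, h]))
    refine ⟨MulAut.congr e κ, (triv_congr e).2 hk, ?_, ?_⟩
    · rw [← map_inv, ← map_mul, ← map_mul]
      exact fun h => hk1 (hinj.1 h)
    · rw [← map_inv, ← map_mul, ← map_mul, ← congr_conj, ← map_mul]
      exact fun h => hk2 (hinj.1 h)
  · rw [← Nat.card_congr e.toEquiv]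
    exact h.big

end

end Cfsg.Agent.OddHalf.D6.RThree.Facts
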