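import Cfsg.Agent.OddHalf.D6.RThree.Facts
import Cfsg.Agent.OddHalf.D6.RThree.Transport
import Cfsg.Agent.OddHalf.D4.Small.KL33

/-!
# ODD half, D6, `L₃(3)`: the structure `Facts.One`

`z = diag(1,-1,-1)`, `C(z) = GL₂(3)`, `Q = R = Q₈`. The automorphisms trivial on `Q` are the powers of
`f : x ↦ i · x⁻ᵀ · i⁻¹`, `f(x) = det(x) x` on `C(z)`, `f² = z`.
-/

set_option autoImplicit false
set_option Elab.async false

namespace Cfsg.Agent.OddHalf.D6.RThree.L33Facts

open Matrix Subgroup Cfsg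
open Cfsg.Agent.OddHalf.D4.Small Cfsg.Agent.OddHalf.D4.Small.KL33
open Cfsg.Agent.OddHalf.D6.RThree.Facts
open Cfsg.Agent.ClassicalGeometry.AutPSL.Auto (itr coe_itr itr_mul_itr)
open Cfsg.Agent.GH.L3S.ModelL33 (aut_cases itr_mul_conj itr_mul_transpose not_inn_conj_itr sdf_S)

/-! ### abstract part -/

section Abs

variable {K : Type*} [Group K]

theorem mul_conj (α : MulAut K) (x : K) : α * MulAut.conj x = MulAut.conj (α x) * α := by
  ext y
  simp [MulAut.conj_apply]

theorem pow_two_dvd {G : Type*} [Group G] {x : G} (h : IsPGroup 2 (zpowers x)) : ∃ k, x ^ 2 ^ k = 1 := by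
  obtain ⟨k, hk⟩ := h ⟨x, mem_zpowers x⟩
  exact ⟨k, congrArg Subtype.val hk⟩

theorem comm_of_conj_eq {g h : K} (hc : (MulAut.conj g : MulAut K) = MulAut.conj h) (y : K) :
    (h⁻¹ * g) * y = y * (h⁻¹ * g) := by
  have h1 : g * y * g⁻¹ = h * y * h⁻¹ := by
    have := congrArg (fun α : MulAut K => α y) hc
    simpa [MulAut.conj_apply] using this
  calc h⁻¹ * g * y = h⁻¹ * (g * y * g⁻¹) * g := by group
    _ = y * (h⁻¹ * g) := by rw [h1]; group

/-- the data on `C(z)`: `D x` = "determinant one" -/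
structure Dat (z : K) (R : Subgroup K) (f : MulAut K) (D : K → Prop) (w : K) : Prop where
  cen : ∀ x : K, (∀ g, x * g = g * x) → x = 1
  zz : z * z = 1
  z1 : z ≠ 1
  fz : f z = z
  ff : f * f = MulAut.conj z
  zR : z ∈ R
  Rc : ∀ x ∈ R, x * z = z * x
  RD : ∀ x ∈ R, D x
  D1 : D 1
  Dmul : ∀ x y, x * z = z * x → y * z = z * y → D x → D y → D (x * y)
  Dinv : ∀ x, x * z = z * x → D x → D x⁻¹
  Dn : ∀ x y, x * z = z * x → y * z = z * y → ¬ D x → ¬ D y → D (x * y⁻¹)
  Dodd : ∀ x, x * z = z * x → Odd (orderOf x) → D x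
  fD : ∀ x, x * z = z * x → D x → f x = x
  fN : ∀ x, x * z = z * x → ¬ D x → f x = x * z
  cases : ∀ x, x * z = z * x → D x → x ∈ R ∨ x * x * x = 1 ∨ x * x * x = z
  cent : ∀ x, x * z = z * x → (∀ r ∈ R, x * r = r * x) → x = 1 ∨ x = z
  conjR : ∀ g, g * z = z * g → ∀ x ∈ R, g * x * g⁻¹ ∈ R
  of_cent : ∀ α : MulAut K, (∀ x, x * z = z * x → α x = x) → α = 1 ∨ α = MulAut.conj z
  wc : w * z = z * w
  wD : ¬ D w
  ww : w * w = 1
  fix : ∀ γ : MulAut K, γ z = z → ∃ g, g * z = z * g ∧ (γ = MulAut.conj g ∨ γ = MulAut.conj g * f)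

variable {z : K} {R : Subgroup K} {f : MulAut K} {D : K → Prop} {w : K}

theorem comm_mul' {z x y : K} (hx : x * z = z * x) (hy : y * z = z * y) : x * y * z = z * (x * y) := by
  rw [mul_assoc, hy, ← mul_assoc, hx, mul_assoc]

theorem comm_inv' {z x : K} (hx : x * z = z * x) : x⁻¹ * z = z * x⁻¹ := (show Commute x z from hx).inv_left

namespace Dat

variable (h : Dat z R f D w)
include h

/-- the 2-elements of `SL₂(3)` -/
theorem mem_R_of {x : K} (hx : x * z = z * x) (hd : D x) (k : ℕ) (hk : x ^ 2 ^ k = 1) : x ∈ R := by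
  rcases h.cases x hx hd with h1 | h1 | h1
  · exact h1
  · have h2 : x ^ 3 = 1 := by rw [pow_succ, pow_two]; exact h1
    have h3 : orderOf x ∣ 1 := by
      have h4 : Nat.gcd 3 (2 ^ k) = 1 := Nat.Coprime.pow_right k (by norm_num)
      rw [← h4]
      exact Nat.dvd_gcd (orderOf_dvd_of_pow_eq_one h2) (orderOf_dvd_of_pow_eq_one hk)
    rw [orderOf_eq_one_iff.mp (Nat.dvd_one.mp h3)]
    exact one_mem _
  · -- `(x z)³ = 1`
    have h2 : (x * z) ^ 3 = 1 := by
      rw [(show Commute x z from hx).mul_pow]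
      have e1 : x ^ 3 = z := by rw [pow_succ, pow_two]; exact h1
      have e2 : z ^ 3 = z := by rw [pow_succ, pow_two, h.zz, one_mul]
      rw [e1, e2, h.zz]
    have hk' : (x * z) ^ 2 ^ (k + 1) = 1 := by
      rw [(show Commute x z from hx).mul_pow]
      have e1 : x ^ 2 ^ (k + 1) = 1 := by rw [pow_succ, pow_mul, hk, one_pow]
      have e2 : z ^ 2 ^ (k + 1) = 1 := by rw [pow_succ, mul_comm, pow_mul, pow_two, h.zz, one_pow]
      rw [e1, e2, one_mul]
    have h3 : orderOf (x * z) ∣ 1 := by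
      have h4 : Nat.gcd 3 (2 ^ (k + 1)) = 1 := Nat.Coprime.pow_right (k + 1) (by norm_num)
      rw [← h4]
      exact Nat.dvd_gcd (orderOf_dvd_of_pow_eq_one h2) (orderOf_dvd_of_pow_eq_one hk')
    have h5 := orderOf_eq_one_iff.mp (Nat.dvd_one.mp h3)
    have h6 : x = z := by
      calc x = x * z * z := by rw [mul_assoc, h.zz, mul_one]
        _ = z := by rw [h5, one_mul]
    rw [h6]
    exact h.zR

theorem triv_val {α : MulAut K} (ht : Triv R α) {x : K} (hx : x * z = z * x) : α x = x ∨ α x = x * z := by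
  have hz : α z = z := ht z h.zR
  have hax : α x * z = z * α x := by
    have := congrArg α hx
    rwa [map_mul, map_mul, hz] at this
  have hc : (x⁻¹ * α x) * z = z * (x⁻¹ * α x) := comm_mul' (comm_inv' hx) hax
  have hr : ∀ r ∈ R, (x⁻¹ * α x) * r = r * (x⁻¹ * α x) := by
    intro r hr
    have h1 : x * r * x⁻¹ ∈ R := h.conjR x hx r hr
    have h2 : α x * r = x * r * x⁻¹ * α x := by
      have h3 := ht _ h1
      rw [map_mul, map_mul, map_inv, ht r hr] at h3
      rw [← h3]; group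
    calc x⁻¹ * α x * r = x⁻¹ * (α x * r) := by group
      _ = r * (x⁻¹ * α x) := by rw [h2]; group
  rcases h.cent _ hc hr with h1 | h1
  · left
    calc α x = x * (x⁻¹ * α x) := by group
      _ = x := by rw [h1, mul_one]
  · right
    calc α x = x * (x⁻¹ * α x) := by group
      _ = x * z := by rw [h1]

/-- `α` is trivial on `SL₂(3)` -/
theorem triv_sl {α : MulAut K} (ht : Triv R α) {x : K} (hx : x * z = z * x) (h1 : D x) : α x = x := by
  rcases h.triv_val ht hx with h2 | h2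
  · exact h2
  exfalso
  have hz : α z = z := ht z h.zR
  rcases h.cases x hx h1 with h3 | h3 | h3
  · rw [ht x h3] at h2
    apply h.z1
    calc z = x⁻¹ * (x * z) := by group
      _ = 1 := by rw [← h2]; group
  all_goals
    have h4 : α (x * x * x) = x * x * x * z := by
      rw [map_mul, map_mul, h2]
      calc x * z * (x * z) * (x * z) = x * (z * x) * z * (x * z) := by group
        _ = x * (x * z) * z * (x * z) := by rw [hx]
        _ = x * x * (z * z) * (x * z) := by group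
        _ = x * x * x * z := by rw [h.zz]; group
    rw [h3] at h4
  · rw [map_one, one_mul] at h4
    exact h.z1 h4.symm
  · rw [hz, h.zz] at h4
    exact h.z1 h4

theorem f_conj_z : f * MulAut.conj z = MulAut.conj z * f := by rw [mul_conj, h.fz]

/-- the automorphisms trivial on `R` -/
theorem triv_cases {α : MulAut K} (ht : Triv R α) :
    α = 1 ∨ α = MulAut.conj z ∨ α = f ∨ α = MulAut.conj z * f := by
  -- on the other coset
  have hneg : ∀ x, x * z = z * x → ¬ D x → α x = x * (w⁻¹ * α w) := by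
    intro x hx hd
    have h2 := h.triv_sl ht (comm_mul' hx (comm_inv' h.wc)) (h.Dn x w hx h.wc hd h.wD)
    rw [map_mul, map_inv] at h2
    calc α x = α x * (α w)⁻¹ * α w := by group
      _ = x * (w⁻¹ * α w) := by rw [h2]; group
  rcases h.triv_val ht h.wc with h1 | h1
  · have h2 : ∀ x, x * z = z * x → α x = x := by
      intro x hx
      by_cases hd : D x
      · exact h.triv_sl ht hx hd
      · rw [hneg x hx hd, h1]; group
    rcases h.of_cent α h2 with h3 | h3
    · exact Or.inl h3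
    · exact Or.inr (Or.inl h3)
  · have h2 : ∀ x, x * z = z * x → (f⁻¹ * α) x = x := by
      intro x hx
      have h3 : α x = f x := by
        by_cases hd : D x
        · rw [h.triv_sl ht hx hd, h.fD x hx hd]
        · rw [hneg x hx hd, h1, h.fN x hx hd]; group
      rw [MulAut.mul_apply, h3]
      exact f.symm_apply_apply x
    rcases h.of_cent _ h2 with h3 | h3
    · right; right; left
      rw [inv_mul_eq_one] at h3
      exact h3.symm
    · right; right; right
      rw [inv_mul_eq_iff_eq_mul] at h3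
      rw [h3, h.f_conj_z]

theorem conj_z_sq : (MulAut.conj z * MulAut.conj z : MulAut K) = 1 := by rw [← map_mul, h.zz, map_one]

theorem conj_z_ne : (MulAut.conj z : MulAut K) ≠ 1 := by
  intro h0
  apply h.z1
  apply h.cen
  intro g
  have h1 : MulAut.conj z g = g := by rw [h0]; rfl
  rw [MulAut.conj_apply] at h1
  exact mul_inv_eq_iff_eq_mul.mp h1

theorem zf_sq : (MulAut.conj z * f) * (MulAut.conj z * f) = MulAut.conj z := by
  calc (MulAut.conj z * f) * (MulAut.conj z * f) = MulAut.conj z * (f * MulAut.conj z) * f := by group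
    _ = (MulAut.conj z * MulAut.conj z) * (f * f) := by rw [h.f_conj_z]; group
    _ = MulAut.conj z := by rw [h.conj_z_sq, h.ff, one_mul]

theorem not_inner {x : K} (hx : x * z = z * x) (hd : ¬ D x) : ¬ Inner R (MulAut.conj x) := by
  rintro ⟨r, hr, hq⟩
  have hrc := h.Rc r hr
  have h1 : ∀ q ∈ R, (r⁻¹ * x) * q = q * (r⁻¹ * x) := by
    intro q hqR
    have h2 := hq q hqR
    rw [MulAut.conj_apply] at h2
    calc r⁻¹ * x * q = r⁻¹ * (x * q * x⁻¹) * x := by group
      _ = r⁻¹ * (r * q * r⁻¹) * x := by rw [h2]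
      _ = q * (r⁻¹ * x) := by group
  apply hd
  apply h.RD
  rcases h.cent _ (comm_mul' (comm_inv' hrc) hx) h1 with h4 | h4
  · rw [← inv_mul_eq_one.mp h4]; exact hr
  · rw [inv_mul_eq_iff_eq_mul.mp h4]; exact mul_mem hr h.zR

theorem d_of_not_inner {x : K} (hx : x * z = z * x) (h2 : IsPGroup 2 (zpowers x))
    (hn : ¬ Inner R (MulAut.conj x)) : ¬ D x := by
  intro hd
  obtain ⟨k, hk⟩ := pow_two_dvd h2
  exact hn ⟨x, h.mem_R_of hx hd k hk, fun q _ => rfl⟩

theorem mem_J {x : K} (hx : x ∈ J z) : x * z = z * x ∧ D x := by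
  induction hx using closure_induction with
  | mem x hx => exact ⟨hx.1, h.Dodd x hx.1 hx.2⟩
  | one => exact ⟨by rw [one_mul, mul_one], h.D1⟩
  | mul x y _ _ hx hy => exact ⟨comm_mul' hx.1 hy.1, h.Dmul x y hx.1 hy.1 hx.2 hy.2⟩
  | inv x _ hx => exact ⟨comm_inv' hx.1, h.Dinv x hx.1 hx.2⟩

theorem f_pow_four : f ^ 4 = 1 := by
  calc f ^ 4 = (f * f) * (f * f) := by simp only [pow_succ, pow_zero, one_mul, mul_assoc]
    _ = 1 := by rw [h.ff, h.conj_z_sq]

theorem eq_one_of_conj {g : K} (hg : (MulAut.conj g : MulAut K) = 1) : g = 1 := by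
  apply h.cen
  intro y
  have h1 := comm_of_conj_eq (g := g) (h := 1) (by rw [hg, map_one]) y
  simpa using h1

/-- no 2-element fixing `z`, outer on `R`, commutes with `f` -/
theorem no_comm {γ : MulAut K} (hz : γ z = z) (h2 : IsPGroup 2 (zpowers γ)) (hn : ¬ Inner R γ)
    (hc : γ * f = f * γ) : False := by
  obtain ⟨g, hg, hγ⟩ := h.fix γ hz
  -- `f g = g`
  have hfg : f g = g := by
    have h1 : MulAut.conj (f g) = MulAut.conj g := by
      rcases hγ with rfl | rfl
      · rw [mul_conj] at hc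
        exact (mul_right_cancel hc).symm
      · have h3 : MulAut.conj g * f * f = MulAut.conj (f g) * f * f := by
          calc MulAut.conj g * f * f = f * (MulAut.conj g * f) := hc
            _ = (f * MulAut.conj g) * f := by group
            _ = MulAut.conj (f g) * f * f := by rw [mul_conj]
        exact (mul_right_cancel (mul_right_cancel h3)).symm
    have h2 : g⁻¹ * f g = 1 := h.cen _ (comm_of_conj_eq h1)
    exact (inv_mul_eq_one.mp h2).symm
  have hd : D g := by
    by_contra hd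
    rw [h.fN g hg hd] at hfg
    exact h.z1 (mul_eq_left.mp hfg)
  have hR : g ∉ R := by
    intro hgR
    apply hn
    refine ⟨g, hgR, fun q hq => ?_⟩
    rcases hγ with rfl | rfl
    · rfl
    · rw [MulAut.mul_apply, h.fD q (h.Rc q hq) (h.RD q hq), MulAut.conj_apply]
  -- `g ^ 6 = 1`
  have hg6 : g ^ 6 = 1 := by
    have e : g ^ 6 = (g * g * g) * (g * g * g) := by simp only [pow_succ, pow_zero, one_mul, mul_assoc]
    rcases h.cases g hg hd with h | h | h
    · exact absurd h hR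
    · rw [e, h, one_mul]
    · rw [e, h, ‹Dat z R f D w›.zz]
  have hcf : Commute (MulAut.conj g : MulAut K) f := by
    show MulAut.conj g * f = f * MulAut.conj g
    rw [mul_conj, hfg]
  have hg12 : (MulAut.conj g : MulAut K) ^ 12 = 1 := by
    rw [← map_pow, show (12 : ℕ) = 6 * 2 from rfl, pow_mul, hg6, one_pow, map_one]
  have hf12 : f ^ 12 = 1 := by
    rw [show (12 : ℕ) = 4 * 3 from rfl, pow_mul, h.f_pow_four, one_pow]
  have h12 : γ ^ 12 = 1 := by
    rcases hγ with rfl | rfl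
    · exact hg12
    · rw [hcf.mul_pow, hg12, hf12, one_mul]
  obtain ⟨k, hk⟩ := pow_two_dvd h2
  have h4 : γ ^ 4 = 1 := by
    rw [← orderOf_dvd_iff_pow_eq_one]
    have h5 : orderOf γ ∣ 4 * 3 := orderOf_dvd_of_pow_eq_one h12
    have h6 := orderOf_dvd_of_pow_eq_one hk
    have h7 : Nat.Coprime (orderOf γ) 3 :=
      Nat.Coprime.coprime_dvd_left h6 (Nat.Coprime.pow_left k (by norm_num))
    exact h7.dvd_of_dvd_mul_right h5
  have hg4 : g ^ 4 = 1 := by
    apply h.eq_one_of_conj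
    rw [map_pow]
    rcases hγ with rfl | rfl
    · exact h4
    · rwa [hcf.mul_pow, h.f_pow_four, mul_one] at h4
  exact hR (h.mem_R_of hg hd 2 hg4)

theorem zf_comm : MulAut.conj z * (MulAut.conj z * f) = (MulAut.conj z * f) * MulAut.conj z := by
  rw [mul_assoc, h.f_conj_z]

theorem fzf_comm : f * (MulAut.conj z * f) = (MulAut.conj z * f) * f := by
  rw [← mul_assoc, h.f_conj_z]

theorem triv_comm {α β : MulAut K} (hα : Triv R α) (hβ : Triv R β) : α * β = β * α := by
  have h1 := h.zf_comm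
  have h2 := h.fzf_comm
  have h3 := h.f_conj_z
  rcases h.triv_cases hα with rfl | rfl | rfl | rfl
  · rw [one_mul, mul_one]
  · rcases h.triv_cases hβ with rfl | rfl | rfl | rfl
    · rw [one_mul, mul_one]
    · rfl
    · exact h3.symm
    · exact h1
  · rcases h.triv_cases hβ with rfl | rfl | h4 | rfl
    · rw [one_mul, mul_one]
    · exact h3
    · rw [h4]
    · exact h2
  · rcases h.triv_cases hβ with rfl | rfl | h4 | h4
    · rw [one_mul, mul_one]
    · exact h1.symm
    · rw [h4]; exact h2.symm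
    · rw [h4]

/-- the structure -/
theorem one [Finite K] (odd : Odd (centralizer ({z} : Set K)).index) (card : Nat.card R = 8)
    (sq : ∀ q ∈ R, q ≠ 1 → q ≠ z → q * q = z) (hR : ∀ x, x * x = z → x ∈ R)
    (ex : ∃ a : K, a * z = z * a ∧ Odd (orderOf a) ∧
      ∀ q ∈ R, q ≠ 1 → q ≠ z → q * (a * q * a⁻¹) ≠ a * q * a⁻¹ * q)
    (jz : ∀ x, x * z = z * x → D x → x * x = 1 → x = 1 ∨ x = z)
    (out : (MulAut.conj : K →* MulAut K).range.index ∣ 2)
    (big : 189 ∣ Nat.card K ∨ 351 ∣ Nat.card K) : One z R where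
  zz := h.zz
  z1 := h.z1
  odd := odd
  zQ := h.zR
  card := card
  sq := sq
  aut := by
    intro α hα q hq
    by_cases h1 : q = 1
    · rw [h1, map_one]; exact one_mem _
    by_cases h2 : q = z
    · rw [h2, hα]; exact h.zR
    apply hR
    rw [← map_mul, sq q hq h1 h2, hα]
  ex := ex
  jQ := fun x hx hr => h.cent x (h.mem_J hx).1 hr
  jz := fun x hx h2 => jz x (h.mem_J hx).1 (h.mem_J hx).2 h2
  out := out
  k1 := by
    intro α hα
    rcases h.triv_cases hα with h1 | h1 | h1 | h1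
    · exact Or.inl h1
    · exact Or.inr (Or.inl h1)
    · right; right; rw [h1]; exact h.ff
    · right; right; rw [h1]; exact h.zf_sq
  k2 := by
    have hfin : Finite (MulAut K) :=
      Finite.of_injective (fun α : MulAut K => (α : K → K)) DFunLike.coe_injective
    have hsub : {α : MulAut K | Triv R α} ⊆
        ({1, MulAut.conj z, f, MulAut.conj z * f} : Set (MulAut K)) := by
      intro α hα
      rcases h.triv_cases hα with h1 | h1 | h1 | h1 <;> simp [h1]
    have h1 : ({α : MulAut K | Triv R α}).ncard ≤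
        ({1, MulAut.conj z, f, MulAut.conj z * f} : Set (MulAut K)).ncard :=
      Set.ncard_le_ncard hsub (Set.toFinite _)
    have h2 : ({1, MulAut.conj z, f, MulAut.conj z * f} : Set (MulAut K)).ncard ≤ 4 := by
      refine (Set.ncard_insert_le _ _).trans ?_
      refine (Nat.add_le_add_right (Set.ncard_insert_le _ _) 1).trans ?_
      refine (Nat.add_le_add_right (Nat.add_le_add_right (Set.ncard_insert_le _ _) 1) 1).trans ?_
      rw [Set.ncard_singleton]
    have h3 : Nat.card {α : MulAut K // Triv R α} = ({α : MulAut K | Triv R α}).ncard := rfl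
    omega
  k3 := fun α hα x hx => h.triv_sl hα (h.mem_J hx).1 (h.mem_J hx).2
  exp := by
    refine ⟨w, h.wc, ?_, h.not_inner h.wc h.wD⟩
    rintro ⟨x, hx⟩
    refine ⟨1, ?_⟩
    obtain ⟨m, rfl⟩ := mem_zpowers_iff.1 hx
    apply Subtype.ext
    show (w ^ m) ^ (2 ^ 1) = 1
    rw [pow_one, ← zpow_natCast, ← _root_.zpow_mul, mul_comm, _root_.zpow_mul]
    have : w ^ ((2 : ℕ) : ℤ) = 1 := by
      rw [zpow_natCast, pow_two, h.ww]
    rw [this, _root_.one_zpow]
  k5 := by
    intro α hα hout x hx h2 hn hfx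
    have hd := h.d_of_not_inner hx h2 hn
    have hne : x * z ≠ x := fun h' => h.z1 (mul_eq_left.mp h')
    rcases h.triv_cases hα with h1 | h1 | h1 | h1
    · exact hout ⟨1, by rw [h1, map_one]⟩
    · exact hout ⟨z, h1.symm⟩
    · rw [h1, h.fN x hx hd] at hfx
      exact hne hfx
    · rw [h1, MulAut.mul_apply, h.fN x hx hd, MulAut.conj_apply] at hfx
      apply hne
      calc x * z = z * x := hx
        _ = z * (x * z) * z⁻¹ := by group
        _ = x := hfx
  sq4 := by
    intro γ κ hz h2 hn hκ hκ2 hc _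
    exfalso
    have hcz : γ * MulAut.conj z = MulAut.conj z * γ := by rw [mul_conj, hz]
    rcases h.triv_cases hκ with h1 | h1 | h1 | h1
    · rw [h1, one_mul] at hκ2
      exact h.conj_z_ne hκ2.symm
    · rw [h1, h.conj_z_sq] at hκ2
      exact h.conj_z_ne hκ2.symm
    · rw [h1] at hc
      exact h.no_comm hz h2 hn hc
    · apply h.no_comm hz h2 hn
      rw [h1] at hc
      have h3 : MulAut.conj z * (γ * f) = MulAut.conj z * (f * γ) := by
        calc MulAut.conj z * (γ * f) = (MulAut.conj z * γ) * f := by group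
          _ = γ * (MulAut.conj z * f) := by rw [← hcz]; group
          _ = MulAut.conj z * (f * γ) := by rw [hc]; group
      exact mul_left_cancel h3
  q8 := by
    intro γ κ₁ κ₂ _ _ _ h1 h2 hne
    exact absurd (h.triv_comm h1 h2) hne
  big := big

end Dat

end Abs

/-! ### the centralizer of `z` in `SL₃(3)` -/

/-- matrix of an element of `C(z)` -/
theorem mx_eq {x : SL33} (hx : x * z = z * x) :
    mx x = !![mx x 0 0, 0, 0; 0, mx x 1 1, mx x 1 2; 0, mx x 2 1, mx x 2 2] := by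
  obtain ⟨h1, h2, h3, h4⟩ := pattern hx
  refine Matrix.ext fun i j => ?_
  fin_cases i <;> fin_cases j <;> simp [h1, h2, h3, h4]

theorem det_block {x : SL33} (hx : x * z = z * x) :
    mx x 1 1 * mx x 2 2 - mx x 1 2 * mx x 2 1 = mx x 0 0 := (d_eq_aux _ _ (block_det hx)).1.symm

theorem d_cases {x : SL33} (hx : x * z = z * x) : mx x 0 0 = 1 ∨ mx x 0 0 = -1 :=
  (d_eq_aux _ _ (block_det hx)).2

theorem d_neg {x : SL33} (hx : x * z = z * x) (h : ¬ mx x 0 0 = 1) : mx x 0 0 = -1 :=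
  (d_cases hx).resolve_left h

theorem d_mul {x y : SL33} (hx : x * z = z * x) : mx (x * y) 0 0 = mx x 0 0 * mx y 0 0 := by
  rw [mx_mul_apply, (pattern hx).1, (pattern hx).2.1]
  ring

theorem pow_comm {x : SL33} (hx : x * z = z * x) (n : ℕ) : x ^ n * z = z * x ^ n :=
  (show Commute x z from hx).pow_left n

theorem one00 : mx (1 : SL33) 0 0 = 1 := rfl

theorem d_pow {x : SL33} (hx : x * z = z * x) (n : ℕ) : mx (x ^ n) 0 0 = mx x 0 0 ^ n := by
  induction n with
  | zero => rw [pow_zero, pow_zero]; exact one00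
  | succ n ih => rw [pow_succ, d_mul (pow_comm hx n), ih, pow_succ]

theorem d_inv {x : SL33} (hx : x * z = z * x) : mx x⁻¹ 0 0 = mx x 0 0 := by
  have h1 : mx (x * x⁻¹) 0 0 = mx x 0 0 * mx x⁻¹ 0 0 := d_mul hx
  rw [mul_inv_cancel, one00] at h1
  exact (d_eq_aux _ _ h1.symm).1.symm

theorem d_one_of_odd {x : SL33} (hx : x * z = z * x) (ho : Odd (orderOf x)) : mx x 0 0 = 1 := by
  rcases d_cases hx with h | h
  · exact h
  · exfalso
    have h1 := d_pow hx (orderOf x)
    rw [pow_orderOf_eq_one, h, ho.neg_one_pow, one00] at h1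
    exact absurd h1 (by decide)

theorem z00 : mx z 0 0 = 1 := rfl

theorem R_d {x : SL33} (hx : x ∈ R) : mx x 0 0 = 1 := by
  have h : InR x := hx
  rw [← det_block h.1]
  exact h.2.1

theorem cent_R' {x : SL33} (hx : x * z = z * x) (hr : ∀ r ∈ R, x * r = r * x) : x = 1 ∨ x = z := by
  obtain ⟨s12, s21, s11⟩ := scalar_of hx (hr _ gi_R) (hr _ gj_R)
  have h1 := (cent_R hx hr).1
  have h : InR x := h1
  have h2 := h.2.1
  rw [s12, s21, ← s11] at h2
  have h3 : mx x 1 1 * mx x 1 1 = 1 := by linear_combination h2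
  rcases un_aux _ h3 with h4 | h4
  · exact Or.inl (ext_block hx one_comm h4 s12 s21 (s11.symm.trans h4))
  · exact Or.inr (ext_block hx rfl h4 s12 s21 (s11.symm.trans h4))

theorem sq_aux : ∀ a b c e : ZMod 3, a * a + b * c = -1 → a * b + b * e = 0 → c * a + e * c = 0 →
    c * b + e * e = -1 → PR a b c e := by decide +kernel

theorem mem_R_of_sq {x : SL33} (h : x * x = z) : x ∈ R := by
  have hx : x * z = z * x := by rw [← h, mul_assoc]
  refine ⟨hx, ?_⟩
  obtain ⟨h1, h2, h3, h4⟩ := mul_block (y := x) hx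
  rw [h] at h1 h2 h3 h4
  exact sq_aux _ _ _ _ h1.symm h2.symm h3.symm h4.symm

theorem sl_aux : ∀ a b c e : ZMod 3, a * e - b * c = 1 → PR a b c e ∨
    (((a * a + b * c) * a + (a * b + b * e) * c = 1 ∧ (a * a + b * c) * b + (a * b + b * e) * e = 0 ∧
      (c * a + e * c) * a + (c * b + e * e) * c = 0 ∧ (c * a + e * c) * b + (c * b + e * e) * e = 1) ∨
     ((a * a + b * c) * a + (a * b + b * e) * c = -1 ∧ (a * a + b * c) * b + (a * b + b * e) * e = 0 ∧
      (c * a + e * c) * a + (c * b + e * e) * c = 0 ∧ (c * a + e * c) * b + (c * b + e * e) * e = -1)) := by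
  decide +kernel

/-- the elements of `SL₂(3)` -/
theorem sl_cases {x : SL33} (hx : x * z = z * x) (h : mx x 0 0 = 1) :
    x ∈ R ∨ x * x * x = 1 ∨ x * x * x = z := by
  have hd := det_block hx
  rw [h] at hd
  obtain ⟨h1, h2, h3, h4⟩ := mul_block (y := x) hx
  have hxx := comm_mul hx hx
  obtain ⟨k1, k2, k3, k4⟩ := mul_block (y := x) hxx
  rw [h1, h2] at k1 k2
  rw [h3, h4] at k3 k4
  rcases sl_aux _ _ _ _ hd with h5 | ⟨e1, e2, e3, e4⟩ | ⟨e1, e2, e3, e4⟩
  · exact Or.inl ⟨hx, h5⟩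
  · exact Or.inr (Or.inl (ext_block (comm_mul hxx hx) one_comm (k1.trans e1) (k2.trans e2) (k3.trans e3)
      (k4.trans e4)))
  · exact Or.inr (Or.inr (ext_block (comm_mul hxx hx) rfl (k1.trans e1) (k2.trans e2) (k3.trans e3)
      (k4.trans e4)))

/-! ### the automorphism `f` -/

/-- `f(x) = i x⁻ᵀ i⁻¹` -/
def f : MulAut SL33 := MulAut.conj gi * itr

theorem f_apply (x : SL33) : f x = gi * itr x * gi⁻¹ := rfl

theorem f_eq {x w : SL33} (h : mx w * iM * (mx x)ᵀ = iM) : f x = w := by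
  have h0 : mx (itr x) * (mx x)ᵀ = 1 := itr_mul_transpose x
  have h1 : (mx x)ᵀ * mx (itr x) = 1 := mul_eq_one_comm.mp h0
  rw [f_apply, mul_inv_eq_iff_eq_mul]
  apply mx_ext
  rw [mx_mul, mx_mul]
  have h2 : mx gi = iM := rfl
  rw [h2]
  calc iM * mx (itr x) = mx w * iM * (mx x)ᵀ * mx (itr x) := by rw [h]
    _ = mx w * iM := by rw [mul_assoc, h1, mul_one]

theorem f_aux1 : ∀ a b c e : ZMod 3, a * e - b * c = 1 →
    !![1, 0, 0; 0, a, b; 0, c, e] * iM * (!![1, 0, 0; 0, a, b; 0, c, e])ᵀ = iM := by decide +kernel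

theorem f_aux2 : ∀ a b c e : ZMod 3, a * e - b * c = -1 →
    !![-1, 0, 0; 0, a, b; 0, c, e] * zM * iM * (!![-1, 0, 0; 0, a, b; 0, c, e])ᵀ = iM := by decide +kernel

theorem f_one {x : SL33} (hx : x * z = z * x) (h : mx x 0 0 = 1) : f x = x := by
  apply f_eq
  have hd := det_block hx
  rw [h] at hd
  rw [mx_eq hx, h]
  exact f_aux1 _ _ _ _ hd

theorem f_neg {x : SL33} (hx : x * z = z * x) (h : mx x 0 0 = -1) : f x = x * z := by
  apply f_eq
  have hd := det_block hx
  rw [h] at hd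
  rw [mx_mul, mx_z, mx_eq hx, h]
  exact f_aux2 _ _ _ _ hd

theorem itr_gi : itr gi = gi := by
  have h0 : mx (itr gi) * iMᵀ = 1 := itr_mul_transpose gi
  have h2 : (iM)ᵀ * iM = 1 := by decide +kernel
  apply mx_ext
  have h3 : mx gi = iM := rfl
  rw [h3]
  calc mx (itr gi) = mx (itr gi) * (iMᵀ * iM) := by rw [h2, mul_one]
    _ = iM := by rw [← mul_assoc, h0, one_mul]

theorem gi_sq : gi * gi = z := by
  apply mx_ext
  rw [mx_mul, mx_z]
  show iM * iM = zM
  decide +kernel

theorem ff_aux {K : Type*} [Group K] (g : K) (t : MulAut K) (htt : t * t = 1) (ht : t g = g) :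
    (MulAut.conj g * t) * (MulAut.conj g * t) = MulAut.conj (g * g) := by
  calc MulAut.conj g * t * (MulAut.conj g * t) = MulAut.conj g * (t * MulAut.conj g) * t := by group
    _ = MulAut.conj g * (MulAut.conj (t g) * t) * t := by rw [mul_conj]
    _ = MulAut.conj g * MulAut.conj g * (t * t) := by rw [ht]; group
    _ = MulAut.conj (g * g) := by rw [htt, mul_one, map_mul]

theorem f_f : f * f = MulAut.conj z := by
  have h := ff_aux gi itr itr_mul_itr itr_gi
  rw [gi_sq] at h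
  exact h

theorem fix_aux {K : Type*} [Group K] {z g P : K} {t : MulAut K} (hz : (MulAut.conj g * t) z = z)
    (hP : (MulAut.conj P * t) z = z) : (P * g⁻¹) * z = z * (P * g⁻¹) ∧
      MulAut.conj P * t = MulAut.conj (P * g⁻¹) * (MulAut.conj g * t) := by
  rw [MulAut.mul_apply, MulAut.conj_apply] at hz hP
  have e : t z = g⁻¹ * z * g := by
    calc t z = g⁻¹ * (g * t z * g⁻¹) * g := by group
      _ = g⁻¹ * z * g := by rw [hz]
  rw [e] at hP
  refine ⟨?_, ?_⟩
  · calc P * g⁻¹ * z = (P * (g⁻¹ * z * g) * P⁻¹) * (P * g⁻¹) := by group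
      _ = z * (P * g⁻¹) := by rw [hP]
  · rw [map_mul, map_inv]; group

/-- the automorphisms fixing `z` -/
theorem fix_cases (γ : MulAut SL33) (hz : γ z = z) :
    ∃ g : SL33, g * z = z * g ∧ (γ = MulAut.conj g ∨ γ = MulAut.conj g * f) := by
  rcases aut_cases γ with ⟨P, rfl⟩ | ⟨P, rfl⟩
  · refine ⟨P, ?_, Or.inl rfl⟩
    rw [MulAut.conj_apply] at hz
    exact mul_inv_eq_iff_eq_mul.mp hz
  · have h1 := fix_aux (g := gi) (t := itr) (f_one rfl z00) hz
    exact ⟨P * gi⁻¹, h1.1, Or.inr h1.2⟩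

/-- an automorphism trivial on `C(z)` -/
theorem of_cent (α : MulAut SL33) (h : ∀ x, x * z = z * x → α x = x) : α = 1 ∨ α = MulAut.conj z := by
  have hz : orderOf z = 2 := by
    refine orderOf_eq_prime ?_ coreS.z1
    rw [pow_two]; exact coreS.z2
  exact sdf_S.cent z hz α h

theorem w_z : w * z = z * w := comm_iff.mpr ⟨rfl, rfl, rfl, rfl⟩

theorem w00 : mx w 0 0 = -1 := rfl

theorem ww : w * w = 1 := by
  apply mx_ext
  rw [mx_mul, mx_one]
  show wM * wM = 1
  decide +kernel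

theorem dat : Dat z R f (fun x => mx x 0 0 = 1) w where
  cen := fun x hx => center_eq hx
  zz := coreS.z2
  z1 := coreS.z1
  fz := f_one rfl z00
  ff := f_f
  zR := z_R
  Rc := fun x hx => (show InR x from hx).1
  RD := fun x hx => R_d hx
  D1 := one00
  Dmul := fun x y hx _ h1 h2 => by
    show mx (x * y) 0 0 = 1
    rw [d_mul hx, show mx x 0 0 = 1 from h1, show mx y 0 0 = 1 from h2, one_mul]
  Dinv := fun x hx h1 => by
    show mx x⁻¹ 0 0 = 1
    rw [d_inv hx]
    exact h1
  Dn := fun x y hx hy h1 h2 => by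
    show mx (x * y⁻¹) 0 0 = 1
    rw [d_mul hx, d_inv hy, d_neg hx h1, d_neg hy h2]
    decide
  Dodd := fun x hx ho => d_one_of_odd hx ho
  fD := fun x hx h => f_one hx h
  fN := fun x hx h => f_neg hx (d_neg hx h)
  cases := fun x hx h => sl_cases hx h
  cent := fun x hx h => cent_R' hx h
  conjR := fun g hg x hx => conj_R hg hx
  of_cent := of_cent
  wc := w_z
  wD := by
    show ¬ mx w 0 0 = 1
    rw [w00]
    decide
  ww := ww
  fix := fix_cases

/-! ### the remaining fields -/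

theorem inv_aux : ∀ a b c e : ZMod 3, a * e - b * c = 1 → a * a + b * c = 1 → a * b + b * e = 0 →
    c * a + e * c = 0 → c * b + e * e = 1 → (a = 1 ∧ b = 0 ∧ c = 0 ∧ e = 1) ∨
      (a = -1 ∧ b = 0 ∧ c = 0 ∧ e = -1) := by decide +kernel

theorem jz {x : SL33} (hc : x * z = z * x) (hd : mx x 0 0 = 1) (h2 : x * x = 1) : x = 1 ∨ x = z := by
  have hd' := det_block hc
  rw [hd] at hd'
  obtain ⟨h1, h3, h4, h5⟩ := mul_block (y := x) hc
  rw [h2] at h1 h3 h4 h5
  rcases inv_aux _ _ _ _ hd' h1.symm h3.symm h4.symm h5.symm with ⟨e1, e2, e3, e4⟩ | ⟨e1, e2, e3, e4⟩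
  · exact Or.inl (ext_block hc one_comm e1 e2 e3 e4)
  · exact Or.inr (ext_block hc rfl e1 e2 e3 e4)

theorem mk_good : ∀ a b c e : ZMod 3, PR a b c e → Good !![1, 0, 0; 0, a, b; 0, c, e] := by decide +kernel

theorem card_PR : Fintype.card {p : ZMod 3 × ZMod 3 × ZMod 3 × ZMod 3 // PR p.1 p.2.1 p.2.2.1 p.2.2.2} = 8 := by
  decide +kernel

theorem card_R : Nat.card R = 8 := by
  rw [← card_PR, ← Nat.card_eq_fintype_card]
  refine Nat.card_congr ⟨fun x => ⟨(mx x.1 1 1, mx x.1 1 2, mx x.1 2 1, mx x.1 2 2), (show InR x.1 from x.2).2⟩,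
    fun p => ⟨(mk_good _ _ _ _ p.2).sl, comm_iff.mpr ⟨rfl, rfl, rfl, rfl⟩, p.2⟩, ?_, ?_⟩
  · rintro ⟨x, hx⟩
    apply Subtype.ext
    exact ext_block (comm_iff.mpr ⟨rfl, rfl, rfl, rfl⟩) (show InR x from hx).1 rfl rfl rfl rfl
  · rintro ⟨⟨a, b, c, e⟩, hp⟩
    rfl

theorem index_aux {K : Type*} [Group K] [Finite K] {t : MulAut K}
    (h : ∀ α : MulAut K, (∃ P : K, α = MulAut.conj P) ∨ ∃ P : K, α = MulAut.conj P * t) :
    (MulAut.conj : K →* MulAut K).range.index ∣ 2 := by
  have hfin : Finite (MulAut K) :=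
    Finite.of_injective (fun α : MulAut K => (α : K → K)) DFunLike.coe_injective
  have hle : (MulAut.conj : K →* MulAut K).range.index ≤ 2 := by
    have hs : Function.Surjective (fun b : Bool => (QuotientGroup.mk (if b then t else 1) :
        MulAut K ⧸ (MulAut.conj : K →* MulAut K).range)) := by
      intro q
      obtain ⟨α, rfl⟩ := QuotientGroup.mk_surjective q
      rcases h α with ⟨P, rfl⟩ | ⟨P, rfl⟩
      · refine ⟨false, ?_⟩
        show QuotientGroup.mk (1 : MulAut K) = _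
        rw [QuotientGroup.eq]
        exact ⟨P, by simp⟩
      · refine ⟨true, ?_⟩
        show QuotientGroup.mk t = _
        rw [QuotientGroup.eq]
        refine ⟨t.symm P, ?_⟩
        rw [eq_inv_mul_iff_mul_eq, mul_conj]
        have : t (t.symm P) = P := t.apply_symm_apply P
        rw [this]
    have h1 : Nat.card (MulAut K ⧸ (MulAut.conj : K →* MulAut K).range) ≤ Nat.card Bool :=
      Nat.card_le_card_of_surjective _ hs
    have h2 : Nat.card Bool = 2 := by rw [Nat.card_eq_fintype_card, Fintype.card_bool]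
    rw [h2] at h1
    exact h1
  have h0 : (MulAut.conj : K →* MulAut K).range.index ≠ 0 := Subgroup.index_ne_zero_of_finite
  have h3 : (MulAut.conj : K →* MulAut K).range.index = 1 ∨
      (MulAut.conj : K →* MulAut K).range.index = 2 := by omega
  rcases h3 with h3 | h3 <;> rw [h3]
  exact one_dvd 2

theorem gg3 : gg * gg * gg = 1 := by
  apply mx_ext
  rw [mx_mul, mx_mul, mx_one]
  show gM * gM * gM = 1
  decide +kernel

theorem fin1 : ∀ a b c e : ZMod 3, PR a b c e → a * 1 + b * 0 = 1 * a + 1 * c →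
    a * 1 + b * 1 = 1 * b + 1 * e → c * 1 + e * 0 = 0 * a + 1 * c → c * 1 + e * 1 = 0 * b + 1 * e →
    (a = 1 ∧ b = 0 ∧ c = 0 ∧ e = 1) ∨ (a = -1 ∧ b = 0 ∧ c = 0 ∧ e = -1) := by decide +kernel

theorem fin2 : ∀ a b c e : ZMod 3, PR a b c e →
    a * 1 + b * 0 = (1 * a + 1 * c) * -1 + (1 * b + 1 * e) * 0 →
    a * 1 + b * 1 = (1 * a + 1 * c) * 0 + (1 * b + 1 * e) * -1 →
    c * 1 + e * 0 = (0 * a + 1 * c) * -1 + (0 * b + 1 * e) * 0 →
    c * 1 + e * 1 = (0 * a + 1 * c) * 0 + (0 * b + 1 * e) * -1 → False := by decide +kernel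

theorem g11 : mx gg 1 1 = 1 := rfl
theorem g12 : mx gg 1 2 = 1 := rfl
theorem g21 : mx gg 2 1 = 0 := rfl
theorem g22 : mx gg 2 2 = 1 := rfl
theorem t11 : mx z 1 1 = -1 := rfl
theorem t12 : mx z 1 2 = 0 := rfl
theorem t21 : mx z 2 1 = 0 := rfl
theorem t22 : mx z 2 2 = -1 := rfl

theorem gg_ne {q : SL33} (hq : q ∈ R) (h1 : q ≠ 1) (h2 : q ≠ z) :
    q * gg ≠ gg * q ∧ q * gg ≠ gg * q * z := by
  have hqc := (show InR q from hq).1
  have hPR := (show InR q from hq).2
  obtain ⟨a1, a2, a3, a4⟩ := mul_block (y := gg) hqc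
  obtain ⟨b1, b2, b3, b4⟩ := mul_block (y := q) gg_z
  rw [g11, g21] at a1 a3
  rw [g12, g22] at a2 a4
  rw [g11, g12] at b1 b2
  rw [g21, g22] at b3 b4
  constructor
  · intro h
    rw [h] at a1 a2 a3 a4
    rcases fin1 _ _ _ _ hPR (a1.symm.trans b1) (a2.symm.trans b2) (a3.symm.trans b3) (a4.symm.trans b4) with
      ⟨e1, e2, e3, e4⟩ | ⟨e1, e2, e3, e4⟩
    · exact h1 (ext_block hqc one_comm e1 e2 e3 e4)
    · exact h2 (ext_block hqc rfl e1 e2 e3 e4)
  · intro h
    obtain ⟨c1, c2, c3, c4⟩ := mul_block (y := z) (comm_mul gg_z hqc)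
    rw [t11, t21, b1, b2] at c1
    rw [t12, t22, b1, b2] at c2
    rw [t11, t21, b3, b4] at c3
    rw [t12, t22, b3, b4] at c4
    rw [h] at a1 a2 a3 a4
    exact fin2 _ _ _ _ hPR (a1.symm.trans c1) (a2.symm.trans c2) (a3.symm.trans c3) (a4.symm.trans c4)

theorem ex_aux {K : Type*} [Group K] {z q g : K} (zz : z * z = 1) (hgz : g * z = z * g)
    (h1 : q ≠ 1) (h2 : q ≠ z) (hne : q * g ≠ g * q ∧ q * g ≠ g * q * z)
    (hc : g * q * g⁻¹ = 1 ∨ g * q * g⁻¹ = z ∨ g * q * g⁻¹ = q ∨ g * q * g⁻¹ = q * z) : False := by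
  rcases hc with h | h | h | h
  · apply h1
    calc q = g⁻¹ * (g * q * g⁻¹) * g := by group
      _ = 1 := by rw [h]; group
  · apply h2
    calc q = g⁻¹ * (g * q * g⁻¹) * g := by group
      _ = g⁻¹ * (z * g) := by rw [h]; group
      _ = z := by rw [← hgz]; group
  · apply hne.1
    calc q * g = (g * q * g⁻¹) * g := by rw [h]
      _ = g * q := by group
  · apply hne.2
    calc q * g = q * z * z * g := by rw [mul_assoc q z z, zz, mul_one]
      _ = (g * q * g⁻¹) * (z * g) := by rw [h]; group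
      _ = (g * q * g⁻¹) * (g * z) := by rw [hgz]
      _ = g * q * z := by group

/-- the structure `Facts.One` for `SL₃(3)` -/
theorem one : One z R := by
  refine dat.one ?_ card_R (fun q hq h1 h2 => isQ.sq q hq h1 h2) (fun x hx => mem_R_of_sq hx) ?_
    (fun x hx hd h2 => jz hx hd h2) (index_aux aut_cases) ?_
  · have h1 : S ≤ centralizer ({z} : Set SL33) := by
      intro s hs
      rw [mem_centralizer_singleton_iff]
      exact (coreS.zc s hs)
    exact Odd.of_dvd_nat odd_S (Subgroup.index_dvd_of_le h1)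
  · refine ⟨gg, gg_z, ?_, ?_⟩
    · have h3 : gg ^ 3 = 1 := by rw [pow_succ, pow_two]; exact gg3
      have h4 : orderOf gg ∣ 3 := orderOf_dvd_of_pow_eq_one h3
      rcases (Nat.dvd_prime Nat.prime_three).mp h4 with h | h <;> rw [h] <;> decide
    · intro q hq h1 h2 hc
      exact ex_aux coreS.z2 gg_z h1 h2 (gg_ne hq h1 h2) (isQ.comm_iff hq (conj_R gg_z hq) h1 h2 hc)
  · right
    rw [card_SL]
    norm_num

/-- **the facts on `K ≅ L₃(3)`** -/
theorem exists_one_card {K : Type*} [Group K] [Finite K] {F : Type*} [Field F] [Fintype F]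
    (hF : Fintype.card F = 3) (e : K ≃* Matrix.ProjectiveSpecialLinearGroup (Fin 3) F) :
    ∃ (z : K) (Q : Subgroup K), One z Q ∧ Nat.card K ≤ 6048 := by
  obtain ⟨g⟩ := exists_equiv hF e
  refine ⟨_, _, one.of_equiv g.symm, ?_⟩
  rw [Nat.card_congr g.toEquiv, card_SL]
  norm_num

/-- **`L₃(3)`** -/
theorem exists_one {K : Type*} [Group K] [Finite K] {F : Type*} [Field F] [Fintype F] (hF : Fintype.card F = 3)
    (e : K ≃* Matrix.ProjectiveSpecialLinearGroup (Fin 3) F) : ∃ (z : K) (Q : Subgroup K), One z Q := by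
  obtain ⟨z, Q, h, -⟩ := exists_one_card hF e
  exact ⟨z, Q, h⟩

end Cfsg.Agent.OddHalf.D6.RThree.L33Facts
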