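import Cfsg.Agent.OddHalf.D6.RThree.Transport
import Cfsg.Agent.OddHalf.D4.Small.KU33
import Cfsg.Agent.S0815

/-!
# ODD half, D6, `U₃(3)`: the facts on `K`

`z = diag(1,-1,-1)`, `Q = Q₈`, `c = diag(-1,i,i)`, `f` = (conjugation by `gi`) ∘ (field automorphism). The automorphisms
trivial on `Q` are `c^k`, `c^k f`.
-/

set_option autoImplicit false

namespace Cfsg.Agent.OddHalf.D6.RThree.U33

open Matrix Subgroup Cfsg Facts
open Cfsg.Agent.Classification.RTwo.UThreeThree (K9 card_k9 card_k9' IsGood psuEquiv center_SU)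
open Cfsg.Agent.OddHalf.Small.U33
open Cfsg.Agent.OddHalf.D4.Small.KU33

/-! ### the field automorphism -/

theorem cj_add_aux : ∀ a1 a2 b1 b2 : ZMod 3, cj ((⟨a1, a2⟩ : K9) + ⟨b1, b2⟩) = cj ⟨a1, a2⟩ + cj ⟨b1, b2⟩ := by
  decide +kernel

/-- the automorphism of `F₉` -/
def fr : K9 ≃+* K9 where
  toFun := cj
  invFun := cj
  left_inv := cj_cj
  right_inv := cj_cj
  map_mul' := cj_mul
  map_add' := by
    rintro ⟨a1, a2⟩ ⟨b1, b2⟩
    exact cj_add_aux a1 a2 b1 b2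

/-- the field automorphism of `SU₃(3)` -/
def φ : MulAut SU33 := LieClassical.FieldTransfer.suCongr 3 3 fr

theorem mt_φ (x : SU33) : mt (φ x) = (mt x).map cj := rfl

theorem mt_φ_apply (x : SU33) (i j : Fin 3) : mt (φ x) i j = cj (mt x i j) := rfl

theorem φφ (x : SU33) : φ (φ x) = x := by
  apply mt_ext
  refine Matrix.ext fun i j => ?_
  rw [mt_φ_apply, mt_φ_apply, cj_cj]

theorem φ_gi : φ gi = gi := by
  apply mt_ext
  rw [mt_φ, mt_gi]
  decide +kernel

/-- `f` -/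
def f : MulAut SU33 := MulAut.conj gi * φ

theorem f_apply (x : SU33) : f x = gi * φ x * gi⁻¹ := rfl

theorem gi_t0 : gi * t0 = t0 * gi := comm_of_inQ gi_Q

theorem gi_gi : gi * gi = t0 := by
  apply mt_ext
  rw [mt_mul, mt_gi, mt_t0]
  decide +kernel

theorem f_f : f * f = MulAut.conj t0 := by
  refine MulEquiv.ext fun x => ?_
  rw [MulAut.mul_apply, f_apply, f_apply, MulAut.conj_apply, map_mul, map_mul, map_inv, φ_gi, φφ, ← gi_gi]
  group

/-- the entry `(0,0)` -/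
def D (x : SU33) : K9 := mt x 0 0

theorem D_mul {x y : SU33} (hx : x * t0 = t0 * x) : D (x * y) = D x * D y := by
  unfold D
  rw [mt_mul_apply, (pattern hx).1, (pattern hx).2.1]
  ring

theorem D_one : D 1 = 1 := rfl

theorem D_t0 : D t0 = 1 := rfl

theorem D_unit {x : SU33} (hx : x * t0 = t0 * x) : D x * cj (D x) = 1 := (param hx).1

theorem comm_inv {x : SU33} (hx : x * t0 = t0 * x) : x⁻¹ * t0 = t0 * x⁻¹ :=
  ((show Commute x t0 from hx).inv_left).eq

theorem comm_pow {x : SU33} (hx : x * t0 = t0 * x) (n : ℕ) : x ^ n * t0 = t0 * x ^ n :=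
  ((show Commute x t0 from hx).pow_left n).eq

theorem D_pow {x : SU33} (hx : x * t0 = t0 * x) (n : ℕ) : D (x ^ n) = D x ^ n := by
  induction n with
  | zero => rw [pow_zero, pow_zero, D_one]
  | succ n ih => rw [pow_succ, D_mul (comm_pow hx n), ih, pow_succ]

theorem D_inv {x : SU33} (hx : x * t0 = t0 * x) : D x * D x⁻¹ = 1 := by
  rw [← D_mul hx, mul_inv_cancel, D_one]

theorem D_conj {g x : SU33} (hg : g * t0 = t0 * g) (hx : x * t0 = t0 * x) : D (g * x * g⁻¹) = D x := by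
  rw [D_mul (comm_mul hg hx), D_mul hg]
  linear_combination (D x) * D_inv hg

theorem D_four {x : SU33} (hx : x * t0 = t0 * x) : D x ^ 4 = 1 := by
  have h := D_unit hx
  unfold cj at h
  rw [← h]; ring

theorem f_comm {x : SU33} (hx : x * t0 = t0 * x) : f x * t0 = t0 * f x := by
  have h1 : φ t0 = t0 := by
    apply mt_ext
    rw [mt_φ, mt_t0]
    decide +kernel
  have h2 : φ x * t0 = t0 * φ x := by
    rw [← h1, ← map_mul, hx, map_mul]
  rw [f_apply]
  exact comm_mul (comm_mul gi_t0 h2) (comm_inv gi_t0)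

theorem f_t0 : f t0 = t0 := by
  have h1 : φ t0 = t0 := by
    apply mt_ext
    rw [mt_φ, mt_t0]
    decide +kernel
  rw [f_apply, h1, gi_t0, mul_inv_cancel_right]

theorem D_f {x : SU33} (hx : x * t0 = t0 * x) : D (f x) = cj (D x) := by
  have h1 : φ t0 = t0 := by
    apply mt_ext
    rw [mt_φ, mt_t0]
    decide +kernel
  have h2 : φ x * t0 = t0 * φ x := by
    rw [← h1, ← map_mul, hx, map_mul]
  rw [f_apply, D_conj gi_t0 h2]
  rfl

/-- `f` is trivial on `SU₂(3)` -/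
theorem f_fix {x : SU33} (hx : x * t0 = t0 * x) (hd : D x = 1) : f x = x := by
  rw [f_apply, mul_inv_eq_iff_eq_mul]
  obtain ⟨h01, h02, h10, h20⟩ := pattern hx
  obtain ⟨-, h21, h22, -⟩ := param hx
  have hd' : mt x 0 0 = 1 := hd
  have hc : cj (1 : K9) = 1 := by decide +kernel
  rw [hd', hc] at h21 h22
  apply mt_ext
  rw [mt_mul, mt_mul, mt_φ, mt_gi]
  refine Matrix.ext fun i j => ?_
  simp only [Matrix.mul_apply, Fin.sum_univ_three, Matrix.map_apply]
  fin_cases i <;> fin_cases j <;>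
    simp [iMat, h01, h02, h10, h20, h21, h22, hd', hc, cj_zero, cj_neg, cj_mul, cj_cj]

/-! ### `c` -/

/-- the central element of order 4 -/
def c : SU33 := c_good.su

theorem mt_c : mt c = cMat := rfl

theorem c_t0 : c * t0 = t0 * c := comm_iff.mpr ⟨rfl, rfl, rfl, rfl⟩

theorem c_c : c * c = t0 := by
  apply mt_ext
  rw [mt_mul, mt_t0, mt_c]
  decide +kernel

theorem c_comm {x : SU33} (hx : x * t0 = t0 * x) : c * x = x * c :=
  comm_scalar (x := c) (p := x) c_t0 hx rfl rfl rfl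

theorem D_c : D c = -1 := rfl

theorem f_c : f c = c⁻¹ := by
  have h1 : φ c = c⁻¹ := by
    rw [eq_inv_iff_mul_eq_one]
    apply mt_ext
    rw [mt_mul, mt_φ, mt_c, mt_one]
    decide +kernel
  rw [f_apply, h1]
  have h2 : gi * c⁻¹ = c⁻¹ * gi := ((show Commute gi c from (c_comm gi_t0).symm).inv_right).eq
  rw [h2, mul_inv_cancel_right]

theorem t0_t0 : t0 * t0 = 1 := coreS.z2
theorem t0_ne : t0 ≠ 1 := coreS.z1

theorem c_four : c ^ 4 = 1 := by
  have : c ^ 4 = (c * c) * (c * c) := by simp only [pow_succ, pow_zero, one_mul, mul_assoc]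
  rw [this, c_c, t0_t0]

theorem conj_inj {x y : SU33} (h : MulAut.conj x = MulAut.conj y) : x = y := by
  have h1 : y⁻¹ * x ∈ center SU33 := by
    rw [mem_center_iff]
    intro g
    have h2 := DFunLike.congr_fun h g
    rw [MulAut.conj_apply, MulAut.conj_apply] at h2
    calc g * (y⁻¹ * x) = y⁻¹ * (y * g * y⁻¹) * x := by group
      _ = y⁻¹ * (x * g * x⁻¹) * x := by rw [h2]
      _ = y⁻¹ * x * g := by group
  rw [center_SU card_k9, mem_bot, inv_mul_eq_one] at h1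
  exact h1.symm

/-- `f` is an outer automorphism -/
theorem f_outer : f ∉ (MulAut.conj : SU33 →* MulAut SU33).range := by
  rintro ⟨k, hk⟩
  have h1 : k * t0 * k⁻¹ = t0 := by
    rw [← MulAut.conj_apply, hk, f_t0]
  have h2 : k * c * k⁻¹ = c⁻¹ := by
    rw [← MulAut.conj_apply, hk, f_c]
  have h3 : k * t0 = t0 * k := mul_inv_eq_iff_eq_mul.1 h1
  rw [← c_comm h3, mul_inv_cancel_right] at h2
  have h4 : c * c = 1 := by
    calc c * c = c⁻¹ * c := by rw [← h2]
      _ = 1 := inv_mul_cancel c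
  rw [c_c] at h4
  exact t0_ne h4

/-! ### all automorphisms -/

instance : Finite SU33 := finite_SU33

theorem card_aut : Nat.card (MulAut SU33) = 2 * Nat.card SU33 := by
  haveI : Fact (Nat.Prime 3) := ⟨by norm_num⟩
  have h := S0815.result (F := K9) 3 1 le_rfl (q := 3) (by norm_num) card_k9' 3 le_rfl (by norm_num)
  have h1 : Nat.card (MulAut SU33) = Nat.card (MulAut (PSU 3 K9 3)) :=
    Nat.card_congr (MulAut.congr (psuEquiv card_k9).symm).toEquiv
  have h2 : Nat.card SU33 = Nat.card (PSU 3 K9 3) := Nat.card_congr (psuEquiv card_k9).symm.toEquiv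
  rw [h1, h2, h]
  norm_num

theorem index_inn : (MulAut.conj : SU33 →* MulAut SU33).range.index = 2 := by
  have h1 : Nat.card (MulAut.conj : SU33 →* MulAut SU33).range = Nat.card SU33 :=
    (Nat.card_congr (MonoidHom.ofInjective (f := (MulAut.conj : SU33 →* MulAut SU33))
      (fun x y h => conj_inj h)).toEquiv).symm
  have h2 := (MulAut.conj : SU33 →* MulAut SU33).range.card_mul_index
  rw [h1, card_aut, mul_comm 2] at h2
  exact Nat.eq_of_mul_eq_mul_left Nat.card_pos h2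

theorem aut_cases (α : MulAut SU33) : ∃ g : SU33, α = MulAut.conj g ∨ α = MulAut.conj g * f := by
  by_cases h : α ∈ (MulAut.conj : SU33 →* MulAut SU33).range
  · obtain ⟨g, hg⟩ := h
    exact ⟨g, Or.inl hg.symm⟩
  · have h1 : α * f⁻¹ ∈ (MulAut.conj : SU33 →* MulAut SU33).range := by
      rw [mul_mem_iff_of_index_two index_inn]
      exact iff_of_false h (fun h2 => f_outer (by rw [← inv_inv f]; exact inv_mem h2))
    obtain ⟨g, hg⟩ := h1
    exact ⟨g, Or.inr (by rw [hg]; group)⟩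

theorem fix_cases {α : MulAut SU33} (h : α t0 = t0) :
    ∃ g : SU33, g * t0 = t0 * g ∧ (α = MulAut.conj g ∨ α = MulAut.conj g * f) := by
  obtain ⟨g, hg⟩ := aut_cases α
  refine ⟨g, ?_, hg⟩
  rcases hg with hg | hg
  · rw [hg, MulAut.conj_apply] at h
    exact mul_inv_eq_iff_eq_mul.1 h
  · rw [hg, MulAut.mul_apply, f_t0, MulAut.conj_apply] at h
    exact mul_inv_eq_iff_eq_mul.1 h

/-! ### `Q` -/

theorem mem_Q8 {x : SU33} : x ∈ Q8 ↔ InQ x ∧ D x = 1 := Iff.rfl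

theorem gi_Q8 : gi ∈ Q8 := ⟨gi_Q, rfl⟩
theorem gj_Q8 : gj ∈ Q8 := ⟨gj_Q, rfl⟩
theorem t0_Q8 : t0 ∈ Q8 := isQ.zQ

theorem Q8_comm {q : SU33} (hq : q ∈ Q8) : q * t0 = t0 * q := comm_of_inQ hq.1

theorem f_Q8 {q : SU33} (hq : q ∈ Q8) : f q = q := f_fix (Q8_comm hq) hq.2

theorem conj_Q8 {g q : SU33} (hg : g * t0 = t0 * g) (hq : q ∈ Q8) : g * q * g⁻¹ ∈ Q8 :=
  ⟨Cfsg.Agent.OddHalf.Small.U33.conj_mem hg hq.1, by
    have := D_conj hg (Q8_comm hq)
    exact this.trans hq.2⟩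

theorem scal_aux : ∀ d1 d2 a1 a2 : ZMod 3, (⟨d1, d2⟩ : K9) * cj ⟨d1, d2⟩ = 1 →
    (⟨a1, a2⟩ : K9) * cj ⟨a1, a2⟩ = 1 → (⟨a1, a2⟩ : K9) = cj ⟨d1, d2⟩ * cj ⟨a1, a2⟩ →
    ((⟨d1, d2⟩ : K9) = 1 ∧ (⟨a1, a2⟩ : K9) = 1) ∨ ((⟨d1, d2⟩ : K9) = -1 ∧ (⟨a1, a2⟩ : K9) = ⟨0, 1⟩) ∨
      ((⟨d1, d2⟩ : K9) = 1 ∧ (⟨a1, a2⟩ : K9) = -1) ∨ ((⟨d1, d2⟩ : K9) = -1 ∧ (⟨a1, a2⟩ : K9) = -⟨0, 1⟩) := by
  decide +kernel

/-- the elements of `C(z)` centralising `Q` -/
theorem eq_pow_c {x : SU33} (hx : x * t0 = t0 * x) (hi : x * gi = gi * x) (hj : x * gj = gj * x) :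
    ∃ k : Fin 4, x = c ^ (k : ℕ) := by
  obtain ⟨x01, x02, x10, x20⟩ := pattern hx
  obtain ⟨h00, h21, h22, h11⟩ := param hx
  obtain ⟨s12, s21, s11⟩ := scalar_of hx hi hj
  rw [s12, cj_zero, mul_zero, add_zero] at h11
  have key := scal_aux _ _ _ _ h00 h11 (s11.trans h22)
  have hm : mt x = diagonal ![mt x 0 0, mt x 1 1, mt x 1 1] := by
    refine Matrix.ext fun i j => ?_
    fin_cases i <;> fin_cases j
    · rfl
    · exact x01
    · exact x02
    · exact x10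
    · rfl
    · exact s12
    · exact x20
    · exact s21
    · exact s11.symm
  have hfin : ∀ (k : Fin 4) (d a : K9), mt x 0 0 = d → mt x 1 1 = a →
      diagonal ![d, a, a] = cMat ^ (k : ℕ) → ∃ k : Fin 4, x = c ^ (k : ℕ) := by
    intro k d a h1 h2 h3
    refine ⟨k, ?_⟩
    apply mt_ext
    have h4 : ∀ n : ℕ, mt (c ^ n) = cMat ^ n := by
      intro n
      induction n with
      | zero => rw [pow_zero, pow_zero, mt_one]
      | succ n ih => rw [pow_succ, pow_succ, mt_mul, ih, mt_c]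
    rw [hm, h1, h2, h3, h4]
  rcases key with ⟨h1, h2⟩ | ⟨h1, h2⟩ | ⟨h1, h2⟩ | ⟨h1, h2⟩
  · exact hfin 0 _ _ h1 h2 (by decide +kernel)
  · exact hfin 1 _ _ h1 h2 (by decide +kernel)
  · exact hfin 2 _ _ h1 h2 (by decide +kernel)
  · exact hfin 3 _ _ h1 h2 (by decide +kernel)

theorem triv_cases {α : MulAut SU33} (h : Triv Q8 α) :
    ∃ k : Fin 4, α = MulAut.conj (c ^ (k : ℕ)) ∨ α = MulAut.conj (c ^ (k : ℕ)) * f := by
  obtain ⟨g, hg, hα⟩ := fix_cases (h t0 t0_Q8)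
  have h1 : ∀ q ∈ Q8, g * q = q * g := by
    intro q hq
    have h2 := h q hq
    rcases hα with hα | hα
    · rw [hα, MulAut.conj_apply] at h2
      exact mul_inv_eq_iff_eq_mul.1 h2
    · rw [hα, MulAut.mul_apply, f_Q8 hq, MulAut.conj_apply] at h2
      exact mul_inv_eq_iff_eq_mul.1 h2
  obtain ⟨k, hk⟩ := eq_pow_c hg (h1 gi gi_Q8) (h1 gj gj_Q8)
  rw [hk] at hα
  exact ⟨k, hα⟩

theorem triv_conj_c (k : ℕ) : Triv Q8 (MulAut.conj (c ^ k)) := by
  intro q hq
  rw [MulAut.conj_apply, ((show Commute c q from c_comm (Q8_comm hq)).pow_left k).eq, mul_inv_cancel_right]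

theorem triv_f : Triv Q8 f := fun q hq => f_Q8 hq

theorem f_conj (x : SU33) : f * MulAut.conj x = MulAut.conj (f x) * f := by
  refine MulEquiv.ext fun y => ?_
  rw [MulAut.mul_apply, MulAut.mul_apply, MulAut.conj_apply, MulAut.conj_apply, map_mul, map_mul, map_inv]

theorem f_c_pow (k : ℕ) : f (c ^ k) = (c ^ k)⁻¹ := by
  rw [map_pow, f_c, inv_pow]

/-! ### 2-elements -/

/-- code matrices -/
def cm (d a b : K9) : Matrix (Fin 3) (Fin 3) K9 := !![d, 0, 0; 0, a, b; 0, -(cj d * cj b), cj d * cj a]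

theorem cube_aux : ∀ a1 a2 b1 b2 : ZMod 3, ∀ e : Bool,
    (⟨a1, a2⟩ : K9) * cj ⟨a1, a2⟩ + ⟨b1, b2⟩ * cj ⟨b1, b2⟩ = 1 →
    ((cm (sg e) ⟨a1, a2⟩ ⟨b1, b2⟩ * cm (sg e) ⟨a1, a2⟩ ⟨b1, b2⟩ * cm (sg e) ⟨a1, a2⟩ ⟨b1, b2⟩) 1 1 +
      (cm (sg e) ⟨a1, a2⟩ ⟨b1, b2⟩ * cm (sg e) ⟨a1, a2⟩ ⟨b1, b2⟩ * cm (sg e) ⟨a1, a2⟩ ⟨b1, b2⟩) 2 2 = 0 ∨
    ((cm (sg e) ⟨a1, a2⟩ ⟨b1, b2⟩ * cm (sg e) ⟨a1, a2⟩ ⟨b1, b2⟩ * cm (sg e) ⟨a1, a2⟩ ⟨b1, b2⟩) 1 2 = 0 ∧
      (cm (sg e) ⟨a1, a2⟩ ⟨b1, b2⟩ * cm (sg e) ⟨a1, a2⟩ ⟨b1, b2⟩ * cm (sg e) ⟨a1, a2⟩ ⟨b1, b2⟩) 2 1 = 0 ∧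
      (cm (sg e) ⟨a1, a2⟩ ⟨b1, b2⟩ * cm (sg e) ⟨a1, a2⟩ ⟨b1, b2⟩ * cm (sg e) ⟨a1, a2⟩ ⟨b1, b2⟩) 1 1 =
      (cm (sg e) ⟨a1, a2⟩ ⟨b1, b2⟩ * cm (sg e) ⟨a1, a2⟩ ⟨b1, b2⟩ * cm (sg e) ⟨a1, a2⟩ ⟨b1, b2⟩) 2 2)) := by
  decide +kernel

theorem mt_cm {x : SU33} (hx : x * t0 = t0 * x) {d : K9} (hd : D x = d) : mt x = cm d (mt x 1 1) (mt x 1 2) := by
  obtain ⟨h01, h02, h10, h20⟩ := pattern hx
  obtain ⟨-, h21, h22, -⟩ := param hx
  have hd' : mt x 0 0 = d := hd
  rw [hd'] at h21 h22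
  refine Matrix.ext fun i j => ?_
  fin_cases i <;> fin_cases j
  · exact hd
  · exact h01
  · exact h02
  · exact h10
  · rfl
  · rfl
  · exact h20
  · exact h21
  · exact h22

theorem cube_mem {x : SU33} (hx : x * t0 = t0 * x) {e : Bool} (hd : D x = sg e) : InQ (x ^ 3) := by
  have h3 : x ^ 3 = x * x * x := by simp only [pow_succ, pow_zero, one_mul]
  have hxx := comm_mul (comm_mul hx hx) hx
  obtain ⟨h01, h02, h10, h20⟩ := pattern hxx
  obtain ⟨-, -, -, h11⟩ := param hx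
  rw [h3]
  refine inQ_of h01 h02 h10 h20 e ?_ ?_
  · have h4 : D (x * x * x) = sg e := by
      rw [D_mul (comm_mul hx hx), D_mul hx, hd]
      cases e <;> decide +kernel
    exact h4
  · have h4 : mt (x * x * x) = cm (sg e) (mt x 1 1) (mt x 1 2) * cm (sg e) (mt x 1 1) (mt x 1 2) *
        cm (sg e) (mt x 1 1) (mt x 1 2) := by
      rw [mt_mul, mt_mul, ← mt_cm hx hd]
    rw [h4]
    exact cube_aux _ _ _ _ e h11

theorem inQ_of_two {x : SU33} (hx : x * t0 = t0 * x) (h2 : IsPGroup 2 (zpowers x)) (hd : D x = 1 ∨ D x = -1) :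
    InQ x := by
  haveI : Fact (Nat.Prime 2) := ⟨Nat.prime_two⟩
  obtain ⟨e, he⟩ : ∃ e : Bool, D x = sg e := by
    rcases hd with h | h
    · exact ⟨true, h⟩
    · exact ⟨false, h⟩
  have h3 : x ^ 3 ∈ Q := cube_mem hx he
  obtain ⟨k, hk⟩ := IsPGroup.iff_card.1 h2
  rw [Nat.card_zpowers] at hk
  obtain ⟨m, hm⟩ := exists_pow_eq_self_of_coprime (x := x) (n := 3) (by
    rw [hk]; exact Nat.Coprime.pow_right k (by norm_num))
  have h4 : x ∈ Q := by
    rw [← hm]; exact Q.pow_mem h3 m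
  exact h4

/-- the elements of `Z₄ * Q₈` -/
theorem inQ_cases {x : SU33} (hx : InQ x) : x ∈ Q8 ∨ ∃ r ∈ Q8, x = c⁻¹ * r := by
  rcases isCQ.mem x hx with h | h
  · exact Or.inl h
  · right
    refine ⟨x * c, h, ?_⟩
    rw [← c_comm (comm_of_inQ hx), inv_mul_cancel_left]

theorem inner_of_inQ {x : SU33} (hx : InQ x) : Inner Q8 (MulAut.conj x) := by
  rcases inQ_cases hx with h | ⟨r, hr, h⟩
  · exact ⟨x, h, fun q _ => rfl⟩
  · refine ⟨r, hr, fun q hq => ?_⟩
    rw [MulAut.conj_apply, h]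
    have h1 : c⁻¹ * (r * q * r⁻¹) = r * q * r⁻¹ * c⁻¹ :=
      ((show Commute c (r * q * r⁻¹) from c_comm (Q8_comm (Q8.mul_mem (Q8.mul_mem hr hq) (Q8.inv_mem hr)))).inv_left).eq
    calc c⁻¹ * r * q * (c⁻¹ * r)⁻¹ = (c⁻¹ * (r * q * r⁻¹)) * c := by group
      _ = r * q * r⁻¹ := by rw [h1]; group

theorem not_inner {x : SU33} (hx : x * t0 = t0 * x) (hd : D x * D x = -1) : ¬ Inner Q8 (MulAut.conj x) := by
  rintro ⟨r, hr, h⟩
  have hrc := Q8_comm hr
  have h1 : ∀ q ∈ Q8, (r⁻¹ * x) * q = q * (r⁻¹ * x) := by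
    intro q hq
    have h2 := h q hq
    rw [MulAut.conj_apply] at h2
    calc (r⁻¹ * x) * q = r⁻¹ * (x * q * x⁻¹) * x := by group
      _ = q * (r⁻¹ * x) := by rw [h2]; group
  obtain ⟨k, hk⟩ := eq_pow_c (comm_mul (comm_inv hrc) hx) (h1 gi gi_Q8) (h1 gj gj_Q8)
  have h2 : x = r * c ^ (k : ℕ) := by rw [← hk]; group
  have h3 : D x = (-1) ^ (k : ℕ) := by
    have hr2 : D r = 1 := hr.2
    rw [h2, D_mul hrc, hr2, D_pow c_t0, D_c, one_mul]
  rw [h3, ← pow_add, ← two_mul, pow_mul] at hd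
  norm_num at hd
  exact absurd hd (by decide +kernel)

theorem D_sq {x : SU33} (hx : x * t0 = t0 * x) (h2 : IsPGroup 2 (zpowers x)) (hn : ¬ Inner Q8 (MulAut.conj x)) :
    D x * D x = -1 := by
  have h4 := D_four hx
  have h5 : (D x * D x - 1) * (D x * D x + 1) = 0 := by linear_combination h4
  rcases mul_eq_zero.1 h5 with h6 | h6
  · exfalso
    have h7 : (D x - 1) * (D x + 1) = 0 := by linear_combination h6
    apply hn
    apply inner_of_inQ
    apply inQ_of_two hx h2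
    rcases mul_eq_zero.1 h7 with h8 | h8
    · left; linear_combination h8
    · right; linear_combination h8
  · linear_combination h6

theorem isP_of_pow {H : Type*} [Group H] [Finite H] {x : H} {k : ℕ} (h : x ^ 2 ^ k = 1) :
    IsPGroup 2 (zpowers x) := by
  obtain ⟨m, -, hm⟩ := (Nat.dvd_prime_pow Nat.prime_two).1 (orderOf_dvd_of_pow_eq_one h)
  exact IsPGroup.of_card (n := m) (by rw [Nat.card_zpowers, hm])

theorem gamma {γ : MulAut SU33} (h1 : γ t0 = t0) (h2 : IsPGroup 2 (zpowers γ)) (h3 : ¬ Inner Q8 γ) :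
    ∃ h : SU33, h * t0 = t0 * h ∧ IsPGroup 2 (zpowers h) ∧ D h * D h = -1 ∧
      (γ = MulAut.conj h ∨ γ = MulAut.conj h * f) := by
  obtain ⟨h, hh, hγ⟩ := fix_cases h1
  have hq : ∀ q ∈ Q8, γ q = h * q * h⁻¹ := by
    intro q hq
    rcases hγ with hγ | hγ
    · rw [hγ, MulAut.conj_apply]
    · rw [hγ, MulAut.mul_apply, f_Q8 hq, MulAut.conj_apply]
  have hn : ∀ n : ℕ, ∀ q ∈ Q8, (γ ^ n) q = h ^ n * q * (h ^ n)⁻¹ := by
    intro n
    induction n with
    | zero => intro q _; rw [pow_zero, MulAut.one_apply]; group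
    | succ n ih =>
      intro q hq'
      rw [pow_succ, MulAut.mul_apply, hq q hq', ih _ (conj_Q8 hh hq'), pow_succ]
      group
  obtain ⟨k, hk⟩ := h2 ⟨γ, mem_zpowers γ⟩
  have hk' : γ ^ 2 ^ k = 1 := congrArg Subtype.val hk
  have h4 : ∀ q ∈ Q8, h ^ 2 ^ k * q = q * h ^ 2 ^ k := by
    intro q hq'
    have h5 := hn (2 ^ k) q hq'
    rw [hk', MulAut.one_apply] at h5
    exact (mul_inv_eq_iff_eq_mul.1 h5.symm)
  obtain ⟨j, hj⟩ := eq_pow_c (comm_pow hh _) (h4 gi gi_Q8) (h4 gj gj_Q8)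
  have h5 : IsPGroup 2 (zpowers h) := by
    apply isP_of_pow (k := k + 2)
    rw [pow_add, pow_mul, hj, ← pow_mul, mul_comm (j : ℕ), pow_mul]
    norm_num
    rw [c_four, one_pow]
  have h6 : ¬ Inner Q8 (MulAut.conj h) := by
    rintro ⟨r, hr, h7⟩
    exact h3 ⟨r, hr, fun q hq' => by rw [hq q hq', ← h7 q hq', MulAut.conj_apply]⟩
  exact ⟨h, hh, h5, D_sq hh h5 h6, hγ⟩

/-! ### `J` -/

theorem J_le {x : SU33} (hx : x ∈ J t0) : x * t0 = t0 * x ∧ D x = 1 := by
  let N : Subgroup SU33 :=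
    { carrier := {x | x * t0 = t0 * x ∧ D x = 1}
      mul_mem' := fun {x y} hx hy => ⟨comm_mul hx.1 hy.1, by rw [D_mul hx.1, hx.2, hy.2, one_mul]⟩
      one_mem' := ⟨by rw [one_mul, mul_one], rfl⟩
      inv_mem' := fun {x} hx => ⟨comm_inv hx.1, by
        have := D_inv hx.1
        rwa [hx.2, one_mul] at this⟩ }
  have h : J t0 ≤ N := by
    refine (closure_le _).2 ?_
    rintro y ⟨hy, hodd⟩
    refine ⟨hy, ?_⟩
    have h1 : D y ^ orderOf y = 1 := by rw [← D_pow hy, pow_orderOf_eq_one, D_one]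
    have h2 := pow_gcd_eq_one.2 ⟨h1, D_four hy⟩
    have h3 : Nat.gcd (orderOf y) 4 = 1 := by
      have : Nat.Coprime (orderOf y) (2 ^ 2) := Nat.Coprime.pow_right 2 (Nat.coprime_two_right.2 hodd)
      exact this
    rwa [h3, pow_one] at h2
  exact h hx

/-! ### the elements of `Q₈` -/

/-- the elements of `Q₈` -/
def q8m (s : Fin 8) : Matrix (Fin 3) (Fin 3) K9 :=
  ![1, dg, iMat, iMat * dg, jMat, jMat * dg, iMat * jMat, iMat * jMat * dg] s

theorem q8_good : ∀ s : Fin 8, IsGood (q8m s) := by decide +kernel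

theorem q8_inj : ∀ s t : Fin 8, q8m s = q8m t → s = t := by decide +kernel

theorem q8_mem : ∀ s : Fin 8, (q8_good s).su ∈ Q8 := by
  have h : ∀ s : Fin 8, ∃ x : SU33, x ∈ Q8 ∧ mt x = q8m s := by
    intro s
    fin_cases s
    · exact ⟨1, Q8.one_mem, rfl⟩
    · exact ⟨t0, t0_Q8, rfl⟩
    · exact ⟨gi, gi_Q8, rfl⟩
    · exact ⟨gi * t0, Q8.mul_mem gi_Q8 t0_Q8, rfl⟩
    · exact ⟨gj, gj_Q8, rfl⟩
    · exact ⟨gj * t0, Q8.mul_mem gj_Q8 t0_Q8, rfl⟩
    · exact ⟨gi * gj, Q8.mul_mem gi_Q8 gj_Q8, rfl⟩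
    · exact ⟨gi * gj * t0, Q8.mul_mem (Q8.mul_mem gi_Q8 gj_Q8) t0_Q8, rfl⟩
  intro s
  obtain ⟨x, hx, hm⟩ := h s
  have : (q8_good s).su = x := mt_ext hm.symm
  rw [this]; exact hx

theorem q8_cases {q : SU33} (hq : q ∈ Q8) : ∃ s : Fin 8, mt q = q8m s := by
  obtain ⟨⟨⟨a1, a2⟩, ⟨b1, b2⟩, e, hc, hm⟩, h0⟩ := hq
  have he : sg e = 1 := by
    rw [hm] at h0
    exact h0
  rw [he] at hc hm
  have h8 := q8_aux a1 a2 b1 b2 hc
  simp only [List.mem_cons, List.not_mem_nil, or_false] at h8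
  rw [hm]
  rcases h8 with h | h | h | h | h | h | h | h
  · exact ⟨0, h⟩
  · exact ⟨1, h⟩
  · exact ⟨2, h⟩
  · exact ⟨3, h⟩
  · exact ⟨4, h⟩
  · exact ⟨5, h⟩
  · exact ⟨6, h⟩
  · exact ⟨7, h⟩

theorem card_Q8 : Nat.card Q8 = 8 := by
  have h : Function.Bijective (fun s : Fin 8 => (⟨(q8_good s).su, q8_mem s⟩ : Q8)) := by
    constructor
    · intro s t h
      exact q8_inj s t (congrArg (fun x : Q8 => mt (x : SU33)) h)
    · rintro ⟨q, hq⟩
      obtain ⟨s, hs⟩ := q8_cases hq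
      exact ⟨s, Subtype.ext (mt_ext hs.symm)⟩
  rw [← Nat.card_congr (Equiv.ofBijective _ h), Nat.card_eq_fintype_card, Fintype.card_fin]

/-! ### the elements `a`, `p` -/

/-- an element of order 3 -/
def ga : SU33 := g0_good.su

theorem mt_ga : mt ga = g0M := rfl

theorem ga_t0 : ga * t0 = t0 * ga := comm_iff.mpr ⟨rfl, rfl, rfl, rfl⟩

theorem ga_cube : ga * ga * ga = 1 := by
  apply mt_ext
  rw [mt_mul, mt_mul, mt_ga, mt_one]
  decide +kernel

theorem ga_inv : ga⁻¹ = ga * ga := by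
  rw [inv_eq_iff_mul_eq_one, ← mul_assoc]
  exact ga_cube

theorem e11_ne : ¬ (⟨1, 1⟩ : K9) = 1 := by decide +kernel

theorem ga_order : orderOf ga = 3 := by
  haveI : Fact (Nat.Prime 3) := ⟨by norm_num⟩
  refine orderOf_eq_prime ?_ ?_
  · have : ga ^ 3 = ga * ga * ga := by simp only [pow_succ, pow_zero, one_mul]
    rw [this, ga_cube]
  · intro h
    have h1 : mt ga 1 1 = mt 1 1 1 := by rw [h]
    have h2 : (⟨1, 1⟩ : K9) = 1 := h1
    exact e11_ne h2

theorem ga_aux : ∀ s : Fin 8, s ≠ 0 → s ≠ 1 →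
    q8m s * (g0M * q8m s * (g0M * g0M)) ≠ g0M * q8m s * (g0M * g0M) * q8m s := by decide +kernel

/-- a 2-element inducing an outer automorphism of `Q` -/
def hMat : Matrix (Fin 3) (Fin 3) K9 := !![⟨0, 1⟩, 0, 0; 0, 1, 0; 0, 0, ⟨0, 2⟩]

theorem h_good : IsGood hMat := by decide +kernel

/-- a 2-element inducing an outer automorphism of `Q` -/
def gh : SU33 := h_good.su

theorem gh_t0 : gh * t0 = t0 * gh := comm_iff.mpr ⟨rfl, rfl, rfl, rfl⟩

theorem gh_D : D gh * D gh = -1 := by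
  show (⟨0, 1⟩ : K9) * ⟨0, 1⟩ = -1
  decide +kernel

theorem gh_two : IsPGroup 2 (zpowers gh) := by
  apply isP_of_pow (k := 2)
  have h1 : gh ^ 2 ^ 2 = gh * gh * (gh * gh) := by
    norm_num
    simp only [pow_succ, pow_zero, one_mul, mul_assoc]
  rw [h1]
  apply mt_ext
  rw [mt_mul, mt_mul, mt_one]
  show hMat * hMat * (hMat * hMat) = 1
  decide +kernel

/-! ### the facts -/

theorem D_f_ne {h : SU33} (hh : h * t0 = t0 * h) (hd : D h * D h = -1) : D (f h) ≠ D h := by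
  intro h1
  rw [D_f hh] at h1
  have h2 := D_unit hh
  rw [h1, hd] at h2
  exact absurd h2 (by decide +kernel)

theorem conj_c_f (k : ℕ) : (MulAut.conj (c ^ k) * f) * (MulAut.conj (c ^ k) * f) = MulAut.conj t0 := by
  calc (MulAut.conj (c ^ k) * f) * (MulAut.conj (c ^ k) * f) =
      MulAut.conj (c ^ k) * (f * MulAut.conj (c ^ k)) * f := by group
    _ = (MulAut.conj (c ^ k) * MulAut.conj (c ^ k)⁻¹) * (f * f) := by rw [f_conj, f_c_pow]; group
    _ = MulAut.conj t0 := by rw [← map_mul, mul_inv_cancel, map_one, one_mul, f_f]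

theorem t0_comm_self : t0 * t0 = t0 * t0 := rfl

theorem one : One t0 Q8 where
  zz := t0_t0
  z1 := t0_ne
  odd := by
    have h1 : S ≤ centralizer ({t0} : Set SU33) := fun s hs => mem_centralizer_singleton_iff.2 hs.1
    exact odd_S.of_dvd_nat (index_dvd_of_le h1)
  zQ := t0_Q8
  card := card_Q8
  sq := isQ.sq
  aut := by
    intro α hα q hq
    obtain ⟨g, hg, h | h⟩ := fix_cases hα
    · rw [h, MulAut.conj_apply]; exact conj_Q8 hg hq
    · rw [h, MulAut.mul_apply, f_Q8 hq, MulAut.conj_apply]; exact conj_Q8 hg hq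
  ex := by
    refine ⟨ga, ga_t0, by rw [ga_order]; decide, fun q hq h1 h2 h3 => ?_⟩
    obtain ⟨s, hs⟩ := q8_cases hq
    rw [ga_inv] at h3
    have h4 := congrArg (fun w : SU33 => Cfsg.Agent.OddHalf.Small.U33.mt w) h3
    simp only [mt_mul, mt_ga, hs] at h4
    refine ga_aux s ?_ ?_ h4
    · rintro rfl
      exact h1 (mt_ext hs)
    · rintro rfl
      exact h2 (mt_ext hs)
  jQ := by
    intro x hx hc
    obtain ⟨h1, h2⟩ := J_le hx
    obtain ⟨k, hk⟩ := eq_pow_c h1 (hc gi gi_Q8) (hc gj gj_Q8)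
    rw [hk, D_pow c_t0, D_c] at h2
    have e1 : (-1 : K9) ≠ 1 := by decide +kernel
    fin_cases k
    · left; rw [hk]; exact pow_zero c
    · exfalso
      have h3 : (-1 : K9) ^ 1 = 1 := h2
      apply e1; linear_combination h3
    · right; rw [hk, ← c_c]; exact pow_two c
    · exfalso
      have h3 : (-1 : K9) ^ 3 = 1 := h2
      apply e1; linear_combination h3
  jz := by
    intro x hx hxx
    obtain ⟨h1, h2⟩ := J_le hx
    have h3 : InQ x := inQ_of_two h1 (isP_of_pow (k := 1) (by rw [pow_one, pow_two, hxx])) (Or.inl h2)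
    by_contra hcon
    push Not at hcon
    have h4 := isQ.sq x ⟨h3, h2⟩ hcon.1 hcon.2
    rw [hxx] at h4
    exact t0_ne h4.symm
  out := by rw [index_inn]
  k1 := by
    intro α hα
    obtain ⟨k, h | h⟩ := triv_cases hα
    · fin_cases k
      · left; rw [h]
        show MulAut.conj (c ^ 0) = 1
        rw [pow_zero, map_one]
      · right; right; rw [h, ← map_mul]
        show MulAut.conj (c ^ 1 * c ^ 1) = _
        rw [pow_one, c_c]
      · right; left; rw [h]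
        show MulAut.conj (c ^ 2) = _
        rw [pow_two, c_c]
      · right; right; rw [h, ← map_mul]
        show MulAut.conj (c ^ 3 * c ^ 3) = _
        have : c ^ 3 * c ^ 3 = (c * c) * (c * c) * (c * c) := by simp only [pow_succ, pow_zero, one_mul, mul_assoc]
        rw [this, c_c, t0_t0, one_mul]
    · right; right; rw [h]; exact conj_c_f _
  k2 := by
    let F : Fin 4 × Bool → {α : MulAut SU33 // Triv Q8 α} := fun x =>
      if x.2 then ⟨MulAut.conj (c ^ (x.1 : ℕ)), triv_conj_c _⟩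
      else ⟨MulAut.conj (c ^ (x.1 : ℕ)) * f, fun q hq => by
        rw [MulAut.mul_apply, f_Q8 hq, triv_conj_c _ q hq]⟩
    have hF : Function.Surjective F := by
      rintro ⟨α, hα⟩
      obtain ⟨k, h | h⟩ := triv_cases hα
      · exact ⟨(k, true), Subtype.ext h.symm⟩
      · exact ⟨(k, false), Subtype.ext h.symm⟩
    have h1 := Nat.card_le_card_of_surjective F hF
    have h2 : Nat.card (Fin 4 × Bool) = 8 := by simp
    rwa [h2] at h1
  k3 := by
    intro α hα x hx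
    obtain ⟨h1, h2⟩ := J_le hx
    have h3 : ∀ k : ℕ, MulAut.conj (c ^ k) x = x := by
      intro k
      rw [MulAut.conj_apply, ((show Commute c x from c_comm h1).pow_left k).eq, mul_inv_cancel_right]
    obtain ⟨k, h | h⟩ := triv_cases hα
    · rw [h, h3]
    · rw [h, MulAut.mul_apply, f_fix h1 h2, h3]
  exp := ⟨gh, gh_t0, gh_two, not_inner gh_t0 gh_D⟩
  k5 := by
    intro α hα hno x hx hx2 hxi h1
    have hd := D_sq hx hx2 hxi
    obtain ⟨k, h | h⟩ := triv_cases hα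
    · exact hno ⟨_, h.symm⟩
    · apply D_f_ne hx hd
      rw [h, MulAut.mul_apply, MulAut.conj_apply] at h1
      rw [← D_conj (comm_pow c_t0 k) (f_comm hx), h1]
  sq4 := by
    intro γ κ h1 h2 h3 h4 h5 h6 h7
    obtain ⟨h, hh, hh2, hd, hγ⟩ := gamma h1 h2 h3
    obtain ⟨k, hk | hk⟩ := triv_cases h4
    · -- `κ` inner
      rcases hγ with hγ | hγ
      · have e1 : InQ (h * h) := by
          refine inQ_of_two (comm_mul hh hh) (hh2.to_le (zpowers_le.2 (mul_mem (mem_zpowers h) (mem_zpowers h)))) ?_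
          right
          rw [D_mul hh, hd]
        rcases inQ_cases e1 with e2 | ⟨r, hr, e2⟩
        · exfalso
          have e3 : D (h * h) = 1 := e2.2
          rw [D_mul hh, hd] at e3
          exact absurd e3 (by decide +kernel)
        · refine ⟨r, hr, MulAut.conj c⁻¹, ?_, ?_, ?_⟩
          · intro q hq
            rw [MulAut.conj_apply, inv_inv]
            have e3 : c⁻¹ * q = q * c⁻¹ := ((show Commute c q from c_comm (Q8_comm hq)).inv_left).eq
            rw [e3, inv_mul_cancel_right]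
          · rw [← map_mul, ← _root_.mul_inv_rev, c_c, inv_eq_of_mul_eq_one_right t0_t0]
          · rw [hγ, ← map_mul, e2, map_mul]
      · exfalso
        have e1 : γ (c ^ (k : ℕ)) = c ^ (k : ℕ) := by
          apply conj_inj
          have e2 : γ * MulAut.conj (c ^ (k : ℕ)) * γ⁻¹ = MulAut.conj (γ (c ^ (k : ℕ))) := by
            refine MulEquiv.ext fun x => ?_
            rw [MulAut.mul_apply, MulAut.mul_apply, MulAut.conj_apply, MulAut.conj_apply, map_mul, map_mul, map_inv,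
              MulAut.apply_inv_self]
          rw [← e2, ← hk, h6]
          group
        have e3 : γ (c ^ (k : ℕ)) = (c ^ (k : ℕ))⁻¹ := by
          rw [hγ, MulAut.mul_apply, f_c_pow, MulAut.conj_apply]
          have e4 : (c ^ (k : ℕ))⁻¹ * h = h * (c ^ (k : ℕ))⁻¹ :=
            (((show Commute c h from c_comm hh).pow_left (k : ℕ)).inv_left).eq
          rw [← e4, mul_inv_cancel_right]
        rw [e3] at e1
        have e5 : c ^ (k : ℕ) * c ^ (k : ℕ) = 1 := by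
          nth_rw 1 [← e1]
          exact inv_mul_cancel _
        rw [hk, ← map_mul, e5, map_one] at h5
        have e6 := conj_inj ((map_one (MulAut.conj : SU33 →* MulAut SU33)).trans h5)
        exact t0_ne e6.symm
    · exfalso
      -- `κ` outer
      have key : MulAut.conj gh * κ * (MulAut.conj gh)⁻¹ = MulAut.conj (gh * (κ gh)⁻¹) * κ := by
        refine MulEquiv.ext fun x => ?_
        rw [MulAut.mul_apply, MulAut.mul_apply, MulAut.mul_apply, MulAut.conj_apply, ← map_inv, MulAut.conj_apply,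
          MulAut.conj_apply, map_mul, map_mul, map_inv, inv_inv]
        group
      have hκD : D (κ gh) = D (f gh) := by
        rw [hk, MulAut.mul_apply, MulAut.conj_apply, D_conj (comm_pow c_t0 _) (f_comm gh_t0)]
      have hκc : κ gh * t0 = t0 * κ gh := by
        rw [hk, MulAut.mul_apply, MulAut.conj_apply]
        exact comm_mul (comm_mul (comm_pow c_t0 _) (f_comm gh_t0)) (comm_inv (comm_pow c_t0 _))
      apply D_f_ne gh_t0 gh_D
      rcases h7 gh gh_t0 with e1 | e1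
      · rw [key] at e1
        have e2 : MulAut.conj (gh * (κ gh)⁻¹) = MulAut.conj 1 := by
          rw [map_one]; exact mul_eq_right.1 e1
        have e3 := conj_inj e2
        rw [mul_inv_eq_one] at e3
        rw [← hκD, ← e3]
      · rw [key] at e1
        have e4 : κ * MulAut.conj t0 = MulAut.conj t0 * κ := by rw [← h5, mul_assoc]
        rw [e4] at e1
        have e3 := conj_inj (mul_right_cancel e1)
        rw [mul_inv_eq_iff_eq_mul] at e3
        rw [← hκD]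
        conv_rhs => rw [e3]
        rw [D_mul t0_comm_self, D_t0, one_mul]
  q8 := by
    intro γ κ₁ κ₂ h1 h2 h3 _ _ _
    obtain ⟨h, hh, -, hd, hγ⟩ := gamma h1 h2 h3
    have e0 : γ * f * γ⁻¹ = MulAut.conj (h * (f h)⁻¹) * f := by
      have e1 : MulAut.conj h * f * (MulAut.conj h)⁻¹ = MulAut.conj (h * (f h)⁻¹) * f := by
        refine MulEquiv.ext fun x => ?_
        rw [MulAut.mul_apply, MulAut.mul_apply, MulAut.mul_apply, MulAut.conj_apply, ← map_inv, MulAut.conj_apply,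
          MulAut.conj_apply, map_mul, map_mul, map_inv, inv_inv]
        group
      rcases hγ with hγ | hγ
      · rw [hγ, e1]
      · rw [hγ, ← e1]; group
    refine ⟨f, triv_f, fun e1 => ?_, fun e1 => ?_⟩
    · apply D_f_ne hh hd
      rw [e0] at e1
      have e2 : MulAut.conj (h * (f h)⁻¹) = MulAut.conj 1 := by
        rw [map_one]; exact mul_eq_right.1 e1
      have e3 := conj_inj e2
      rw [mul_inv_eq_one] at e3
      rw [← e3]
    · apply D_f_ne hh hd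
      rw [e0] at e1
      have e4 : f * MulAut.conj t0 = MulAut.conj t0 * f := by rw [← f_f, mul_assoc]
      rw [e4] at e1
      have e3 := conj_inj (mul_right_cancel e1)
      rw [mul_inv_eq_iff_eq_mul] at e3
      conv_rhs => rw [e3]
      rw [D_mul t0_comm_self, D_t0, one_mul]
  big := Or.inl (by rw [card_SU]; norm_num)

end Cfsg.Agent.OddHalf.D6.RThree.U33

namespace Cfsg.Agent.OddHalf.D6.RThree.U33

open Cfsg Facts
open Cfsg.Agent.Classification.RTwo.UThreeThree (K9 card_k9 psuEquiv)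
open Cfsg.Agent.OddHalf.Small.U33

/-- **the facts on `K ≅ U₃(3)`** -/
theorem exists_one_card {K : Type*} [Group K] [Finite K] {F : Type*} [Field F] [Fintype F] (hF : Fintype.card F = 9)
    (e : K ≃* Cfsg.PSU 3 F 3) : ∃ (z : K) (Q : Subgroup K), Facts.One z Q ∧ Nat.card K ≤ 6048 := by
  have hcard : Fintype.card F = Fintype.card K9 := by rw [hF, card_k9]
  let g : F ≃+* K9 := FiniteField.ringEquivOfCardEq hcard
  let e' : SU33 ≃* K := (e.trans ((psuEquiv hF).trans (LieClassical.FieldTransfer.suCongr 3 3 g))).symm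
  exact ⟨_, _, one.of_equiv e', by
    rw [← Nat.card_congr e'.toEquiv, Cfsg.Agent.OddHalf.D4.Small.KU33.card_SU]⟩

theorem exists_one {K : Type*} [Group K] [Finite K] {F : Type*} [Field F] [Fintype F] (hF : Fintype.card F = 9)
    (e : K ≃* Cfsg.PSU 3 F 3) : ∃ (z : K) (Q : Subgroup K), Facts.One z Q := by
  obtain ⟨z, Q, h, -⟩ := exists_one_card hF e
  exact ⟨z, Q, h⟩

end Cfsg.Agent.OddHalf.D6.RThree.U33
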