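import Cfsg.Agent.OddHalf.D6.RThree.Mod

/-!
# ODD half, D6, `L₃(3)` and `U₃(3)`: `Facts.One` from `Mod` (helper56)

The automorphisms `α` trivial on `Q`: `α x = x c^k` for `x ∈ C(z)`; `α w = w` implies `α = conj (c^k)`, `α w = w z`
implies `α² = conj z`.
-/

set_option autoImplicit false

namespace Cfsg.Agent.OddHalf.D6.RThree.Abs

open Subgroup
open Cfsg.Agent.OddHalf.D6.RThree.Facts
open Cfsg.Agent.OddHalf.D6.RThree.Mod (Mod)

variable {K : Type*} [Group K]

/-! ### General -/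

theorem comm_inv' {x z : K} (h : x * z = z * x) : x⁻¹ * z = z * x⁻¹ := (Commute.inv_left (h : Commute x z)).eq

theorem comm_mul' {x y z : K} (hx : x * z = z * x) (hy : y * z = z * y) : x * y * z = z * (x * y) :=
  (Commute.mul_left (hx : Commute x z) hy).eq

theorem comm_pow' {x z : K} (hx : x * z = z * x) (n : ℕ) : x ^ n * z = z * x ^ n :=
  (Commute.pow_left (hx : Commute x z) n).eq

/-- the elements of odd order of `C(z)` are mapped to those of `C(α z)` -/
theorem map_J (α : MulAut K) {z y : K} (h : α z = y) {x : K} (hx : x ∈ J z) : α x ∈ J y := by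
  have h1 : J z ≤ (J y).comap α.toMonoidHom := by
    unfold J
    rw [closure_le]
    rintro a ⟨h1, h2⟩
    apply Subgroup.subset_closure
    refine ⟨?_, ?_⟩
    · show α a * y = y * α a
      rw [← h, ← map_mul, h1, map_mul]
    · show Odd (orderOf (α a))
      rw [MulEquiv.orderOf_eq]; exact h2
  exact h1 hx

theorem J_comm {z x : K} (hx : x ∈ J z) : x * z = z * x := by
  have h1 : J z ≤ centralizer ({z} : Set K) := by
    unfold J
    rw [closure_le]
    rintro a ⟨h1, -⟩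
    exact mem_centralizer_singleton_iff.2 h1
  exact mem_centralizer_singleton_iff.1 (h1 hx)

theorem J_conj {z x y : K} (hx : x * z = z * x) (hy : y ∈ J z) : x * y * x⁻¹ ∈ J z :=
  map_J (MulAut.conj x) (y := z) (by show x * z * x⁻¹ = z; rw [hx]; group) hy

theorem two_pow {n : ℕ} {x : K} (h : x ^ 2 ^ n = 1) : IsPGroup 2 (zpowers x) := by
  rintro ⟨y, hy⟩
  obtain ⟨m, rfl⟩ := mem_zpowers_iff.1 hy
  refine ⟨n, Subtype.ext ?_⟩
  show (x ^ m) ^ 2 ^ n = 1
  rw [← zpow_natCast, ← zpow_mul, mul_comm, zpow_mul, zpow_natCast, h, one_zpow]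

theorem exists_two_pow {x : K} (h : IsPGroup 2 (zpowers x)) : ∃ n : ℕ, x ^ 2 ^ n = 1 := by
  obtain ⟨n, hn⟩ := h ⟨x, mem_zpowers x⟩
  exact ⟨n, congrArg Subtype.val hn⟩

/-- `α x = x` on a generating set -/
theorem eq_of_gen {α β : MulAut K} {S : Set K} (hS : ∀ H : Subgroup K, S ⊆ H → H = ⊤) (h : ∀ x ∈ S, α x = β x) :
    α = β := by
  have h1 := hS (α.toMonoidHom.eqLocus β.toMonoidHom) (fun x hx => h x hx)
  ext x
  have h2 : x ∈ α.toMonoidHom.eqLocus β.toMonoidHom := by rw [h1]; exact mem_top x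
  exact h2

section abs

variable {z c w g j u i q1 q2 : K} {Q : Subgroup K} (M : Mod z c w g j u i q1 q2 Q)

include M

theorem ck_comm {x : K} (hx : x * z = z * x) (k : ℕ) : c ^ k * x = x * c ^ k := comm_pow' (M.cz x hx) k

theorem c4 : c ^ 4 = 1 := by
  have hz := M.zz
  rcases M.cc with h | h
  · rw [h, show 4 = 2 + 2 by norm_num, pow_add, pow_two, hz, one_mul]
  · rw [show 4 = 2 + 2 by norm_num, pow_add, pow_two, h, hz]

theorem ck_two (k : ℕ) : IsPGroup 2 (zpowers (c ^ k)) :=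
  two_pow (n := 2) (by
    show (c ^ k) ^ 4 = 1
    rw [← pow_mul, mul_comm, pow_mul, c4 M, one_pow])

theorem ck_odd {k n : ℕ} (hn : Odd n) (h : (c ^ k) ^ n = 1) : c ^ k = 1 := by
  obtain ⟨m, rfl⟩ := hn
  have h4 : (c ^ k) ^ 4 = 1 := by rw [← pow_mul, mul_comm, pow_mul, c4 M, one_pow]
  -- `(2m+1)` is prime to 4
  have h5 : (c ^ k) ^ Nat.gcd (2 * m + 1) 4 = 1 :=
    orderOf_dvd_iff_pow_eq_one.1 (Nat.dvd_gcd (orderOf_dvd_of_pow_eq_one h) (orderOf_dvd_of_pow_eq_one h4))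
  have h6 : Nat.gcd (2 * m + 1) 4 = 1 := by
    have : Nat.Coprime (2 * m + 1) (2 ^ 2) := Nat.Coprime.pow_right 2 (by simp)
    exact this
  rwa [h6, pow_one] at h5

theorem ck_cases (k : ℕ) : (c ^ k = 1 ∨ c ^ k = z) ∨ c ^ k * c ^ k = z := by
  rcases M.cc with h | h
  · left
    rw [h]
    rcases Nat.even_or_odd' k with ⟨m, rfl | rfl⟩
    · left; rw [pow_mul, pow_two, M.zz, one_pow]
    · right; rw [pow_succ, pow_mul, pow_two, M.zz, one_pow, one_mul]
  · have hz : ∀ m : ℕ, z ^ m = 1 ∨ z ^ m = z := by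
      intro m
      rcases Nat.even_or_odd' m with ⟨l, rfl | rfl⟩
      · left; rw [pow_mul, pow_two, M.zz, one_pow]
      · right; rw [pow_succ, pow_mul, pow_two, M.zz, one_pow, one_mul]
    rcases Nat.even_or_odd' k with ⟨m, rfl | rfl⟩
    · left
      rw [pow_mul, pow_two, h]
      exact hz m
    · right
      rw [← pow_add, show 2 * m + 1 + (2 * m + 1) = 4 * m + 2 by ring, pow_add, pow_mul, c4 M, one_pow, one_mul,
        pow_two, h]

theorem ck_sq {k : ℕ} (h : c ^ k * c ^ k = 1) : c ^ k = 1 ∨ c ^ k = z := by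
  rcases ck_cases M k with h1 | h1
  · exact h1
  · exact absurd (h1.symm.trans h) M.z1

theorem cz' : c * z = z * c := M.cz z rfl

theorem ckz (k : ℕ) : c ^ k * z = z * c ^ k := comm_pow' (cz' M) k

theorem iz : i * z = z * i := M.Qz i M.iQ

theorem jz' : j * z = z * j := M.Qz j M.jm

theorem triv_z {α : MulAut K} (h : Triv Q α) : α z = z := h z M.zQ

theorem w_ne : w * z ≠ w := fun h => M.z1 (mul_eq_left.1 h)

theorem wzw : w * z * z = w := by rw [mul_assoc, M.zz, mul_one]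

theorem map_comm {α : MulAut K} (hα : α z = z) {x : K} (hx : x * z = z * x) : α x * z = z * α x := by
  have h := congrArg α hx
  rwa [map_mul, map_mul, hα] at h

/-- `α x = x c^k` -/
theorem eps {α : MulAut K} (h : Triv Q α) {x : K} (hx : x * z = z * x) : ∃ k : ℕ, α x = x * c ^ k := by
  have hαx := map_comm M (triv_z M h) hx
  obtain ⟨k, hk⟩ := M.cent (x⁻¹ * α x) (comm_mul' (comm_inv' hx) hαx) (by
    intro q hq
    have h1 := h _ (M.Qn x hx q hq)
    rw [map_mul, map_mul, map_inv, h q hq] at h1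
    calc x⁻¹ * α x * q = x⁻¹ * (α x * q * (α x)⁻¹) * α x := by group
      _ = x⁻¹ * (x * q * x⁻¹) * α x := by rw [h1]
      _ = q * (x⁻¹ * α x) := by group)
  exact ⟨k, by rw [← hk]; group⟩

/-- (k3) -/
theorem fix_J {α : MulAut K} (h : Triv Q α) {x : K} (hx : x ∈ J z) : α x = x := by
  have h1 : J z ≤ α.toMonoidHom.eqLocus (MonoidHom.id K) := by
    unfold J
    rw [closure_le]
    rintro a ⟨ha, ho⟩
    show α a = a
    obtain ⟨k, hk⟩ := eps M h ha
    have h2 : (c ^ k) ^ orderOf a = 1 := by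
      have h3 : (a * c ^ k) ^ orderOf a = 1 := by rw [← hk, ← map_pow, pow_orderOf_eq_one, map_one]
      have h4 : Commute a (c ^ k) := (ck_comm M ha k).symm
      rwa [h4.mul_pow, pow_orderOf_eq_one, one_mul] at h3
    rw [hk, ck_odd M ho h2, mul_one]
  exact h1 hx

theorem w_or {α : MulAut K} (h : Triv Q α) : α w = w ∨ α w = w * z := by
  obtain ⟨k, hk⟩ := eps M h M.wz
  have h1 : c ^ k * c ^ k = 1 := by
    have h2 : α w * α w = 1 := by rw [← map_mul, M.ww, map_one]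
    rw [hk] at h2
    calc c ^ k * c ^ k = (w * w) * (c ^ k * c ^ k) := by rw [M.ww, one_mul]
      _ = w * (w * c ^ k) * c ^ k := by group
      _ = w * (c ^ k * w) * c ^ k := by rw [ck_comm M M.wz]
      _ = w * c ^ k * (w * c ^ k) := by group
      _ = 1 := h2
  rcases ck_sq M h1 with h2 | h2
  · left; rw [hk, h2, mul_one]
  · right; rw [hk, h2]

/-- an element of `⟨c⟩ z` commuting with `g` is trivial -/
theorem eq_one_of_g {x : K} (hC : ∀ y, y * z = z * y → x * y = y * x) (hg : x * g = g * x) : x = 1 := by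
  apply M.ctr
  have h := M.gen (centralizer ({x} : Set K))
    (fun y hy => mem_centralizer_singleton_iff.2 (hC y hy).symm) (mem_centralizer_singleton_iff.2 hg.symm)
  intro y
  have h1 : y ∈ centralizer ({x} : Set K) := by rw [h]; exact mem_top y
  exact (mem_centralizer_singleton_iff.1 h1).symm

/-- the element `α g g⁻¹` -/
theorem ag_comm {α : MulAut K} (hz : α z = z) (hw : α w = w) :
    α g * g⁻¹ * z = z * (α g * g⁻¹) ∧ α g * g⁻¹ * w = w * (α g * g⁻¹) := by
  have e1 : g⁻¹ * w = z * g⁻¹ := by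
    calc g⁻¹ * w = g⁻¹ * (w * g) * g⁻¹ := by group
      _ = g⁻¹ * (g * z) * g⁻¹ := by rw [M.gz]
      _ = z * g⁻¹ := by group
  have e2 : g⁻¹ * (w * z) = w * g⁻¹ := by
    calc g⁻¹ * (w * z) = g⁻¹ * (w * z * g) * g⁻¹ := by group
      _ = g⁻¹ * (g * w) * g⁻¹ := by rw [M.gw]
      _ = w * g⁻¹ := by group
  have f1 : α g * z = w * α g := by
    have := congrArg α M.gz
    rwa [map_mul, map_mul, hz, hw] at this
  have f2 : α g * w = w * z * α g := by
    have := congrArg α M.gw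
    rwa [map_mul, map_mul, map_mul, hz, hw] at this
  have hW : α g * g⁻¹ * w = w * (α g * g⁻¹) := by
    calc α g * g⁻¹ * w = α g * (g⁻¹ * w) := by group
      _ = α g * z * g⁻¹ := by rw [e1]; group
      _ = w * (α g * g⁻¹) := by rw [f1]; group
  have hWZ : α g * g⁻¹ * (w * z) = w * z * (α g * g⁻¹) := by
    calc α g * g⁻¹ * (w * z) = α g * (g⁻¹ * (w * z)) := by group
      _ = α g * w * g⁻¹ := by rw [e2]; group
      _ = w * z * (α g * g⁻¹) := by rw [f2]; group
  refine ⟨?_, hW⟩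
  have h1 : α g * g⁻¹ * (w * z) = w * (α g * g⁻¹ * z) := by rw [← mul_assoc, hW]; group
  rw [hWZ, mul_assoc] at h1
  exact (mul_left_cancel h1).symm

/-! ### Case I -/

theorem fix_u {α : MulAut K} (h : Triv Q α) (hw : α w = w) : α u = u := by
  have h1 := map_J α hw M.uJ
  have h2 := M.Jw _ h1 (map_comm M (triv_z M h) M.uz)
  obtain ⟨k, hk⟩ := eps M h M.uz
  rw [hk] at h2 ⊢
  rw [M.cu k h2, mul_one]

theorem fix_C {α : MulAut K} (h : Triv Q α) (hw : α w = w) {x : K} (hx : x * z = z * x) : α x = x := by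
  obtain ⟨k, y, hy, rfl⟩ := M.pJ x hx
  rw [map_mul, map_pow, map_mul, map_inv, fix_u M h hw, h i M.iQ, fix_J M h hy]

theorem caseI {α : MulAut K} (h : Triv Q α) (hw : α w = w) : ∃ k : ℕ, α = MulAut.conj (c ^ k) := by
  obtain ⟨hz1, hw1⟩ := ag_comm M (triv_z M h) hw
  set a := α g * g⁻¹ with ha
  have hag : α g = a * g := by rw [ha]; group
  have hjz := jz' M
  have hjw := M.jw
  have hj1 : j⁻¹ * z = z * j⁻¹ := comm_inv' hjz
  have hj2 : j⁻¹ * w = w * z * j⁻¹ := by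
    have e : j * (w * z) = w * j := by
      calc j * (w * z) = j * w * z := by group
        _ = w * z * (j * z) := by rw [hjw]; group
        _ = w * z * z * j := by rw [hjz]; group
        _ = w * j := by rw [wzw M]
    calc j⁻¹ * w = j⁻¹ * (w * j) * j⁻¹ := by group
      _ = j⁻¹ * (j * (w * z)) * j⁻¹ := by rw [e]
      _ = w * z * j⁻¹ := by group
  have haz : a * (w * z) = w * z * a := by
    calc a * (w * z) = a * w * z := by group
      _ = w * (a * z) := by rw [hw1]; group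
      _ = w * z * a := by rw [hz1]; group
  have bz : j * a * j⁻¹ * z = z * (j * a * j⁻¹) := comm_mul' (comm_mul' hjz hz1) hj1
  have bw : j * a * j⁻¹ * w = w * (j * a * j⁻¹) := by
    calc j * a * j⁻¹ * w = j * a * (j⁻¹ * w) := by group
      _ = j * (a * (w * z)) * j⁻¹ := by rw [hj2]; group
      _ = j * (w * z) * a * j⁻¹ := by rw [haz]; group
      _ = (j * w) * z * a * j⁻¹ := by group
      _ = w * z * (j * z) * a * j⁻¹ := by rw [hjw]; group
      _ = w * z * z * (j * a * j⁻¹) := by rw [hjz]; group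
      _ = w * (j * a * j⁻¹) := by rw [wzw M]
  obtain ⟨k, hk⟩ := M.inv (j * a * j⁻¹) bz bw (by
    have h1 := fix_C M h hw M.hA
    rw [map_mul, map_mul, h j M.jm, hag] at h1
    -- `(j a g)(j a g) = (j g)(j g)`
    have h2 : j * a * j⁻¹ * (j * g * (j * a * j⁻¹)) * (j * g) = j * g * (j * g) := by
      rw [← h1]; group
    have h3 : j * a * j⁻¹ * (j * g * (j * a * j⁻¹)) = j * g := mul_right_cancel h2
    calc j * g * (j * a * j⁻¹) = (j * a * j⁻¹)⁻¹ * (j * a * j⁻¹ * (j * g * (j * a * j⁻¹))) := by group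
      _ = (j * a * j⁻¹)⁻¹ * (j * g) := by rw [h3])
  refine ⟨k, ?_⟩
  have hg : α g = c ^ k * g * (c ^ k)⁻¹ := by
    have h1 : j * (a * g * c ^ k) = j * (c ^ k * g) := by rw [← hk]; group
    have h2 := mul_left_cancel h1
    rw [hag, ← h2]; group
  refine eq_of_gen (S := {x | x * z = z * x} ∪ {g}) (fun H hH => M.gen H (fun x hx => hH (Or.inl hx)) (hH (Or.inr rfl))) ?_
  rintro x (hx | hx)
  · rw [fix_C M h hw hx, MulAut.conj_apply, ck_comm M hx]; group
  · rw [hx, hg]; rfl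

/-! ### Case II -/

theorem fix_inv_u {α : MulAut K} (h : Triv Q α) (hw : α w = w * z) : α (u * i⁻¹) = u⁻¹ := by
  -- `β = α conj(j)` fixes `w`
  have hβw : (α * MulAut.conj j) w = w := by
    show α (j * w * j⁻¹) = w
    rw [M.jw, mul_inv_cancel_right, map_mul, hw, triv_z M h, wzw M]
  have h1 := map_J _ hβw M.uJ
  have e : (α * MulAut.conj j) u = α (u * i⁻¹) := by
    show α (j * u * j⁻¹) = _
    rw [M.ju, mul_inv_cancel_right]
  rw [e] at h1
  have hui : u * i⁻¹ * z = z * (u * i⁻¹) := comm_mul' M.uz (comm_inv' (iz M))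
  have h2 := M.Jw _ h1 (map_comm M (triv_z M h) hui)
  obtain ⟨k, hk⟩ := eps M h hui
  rw [hk] at h2 ⊢
  exact M.bu k h2

theorem alpha_u {α : MulAut K} (h : Triv Q α) (hw : α w = w * z) : α u = u⁻¹ * i := by
  have h1 := fix_inv_u M h hw
  rw [map_mul, map_inv, h i M.iQ] at h1
  rw [← h1]; group

theorem ui' : u⁻¹ * i = i * u⁻¹ := comm_inv' M.ui

theorem iu' : i⁻¹ * u = u * i⁻¹ := comm_inv' M.ui.symm

/-- `c = i (u u)⁻¹` -/
theorem c_eq : c⁻¹ = u * u * i⁻¹ := by rw [← M.ci]; group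

theorem alpha_p {α : MulAut K} (h : Triv Q α) (hw : α w = w * z) : α (u⁻¹ * i) = u⁻¹ * i * c⁻¹ := by
  rw [map_mul, map_inv, alpha_u M h hw, h i M.iQ, c_eq M]
  have h1 := iu' M
  have h2 : u⁻¹ * i * (u * u * i⁻¹) = i⁻¹ * u * i := by
    rw [ui' M]
    calc i * u⁻¹ * (u * u * i⁻¹) = i * (u * i⁻¹) := by group
      _ = i * (i⁻¹ * u) := by rw [h1]
      _ = u := by group
      _ = (u * i⁻¹) * i := by group
      _ = i⁻¹ * u * i := by rw [h1]
  rw [h2]; group

theorem alpha_c {α : MulAut K} (h : Triv Q α) (hw : α w = w * z) : α c = c⁻¹ := by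
  have h1 := congrArg α M.ci
  rw [map_mul, map_mul, alpha_u M h hw, h i M.iQ] at h1
  have h2 : α c = i * (u⁻¹ * i * (u⁻¹ * i))⁻¹ := eq_mul_inv_of_mul_eq h1
  rw [h2, c_eq M]
  have h3 := iu' M
  calc i * (u⁻¹ * i * (u⁻¹ * i))⁻¹ = i * ((i⁻¹ * u) * (i⁻¹ * u)) := by group
    _ = i * ((u * i⁻¹) * (u * i⁻¹)) := by rw [h3]
    _ = i * u * (i⁻¹ * u) * i⁻¹ := by group
    _ = i * u * (u * i⁻¹) * i⁻¹ := by rw [h3]
    _ = i * (u * (u * i⁻¹)) * i⁻¹ := by group
    _ = i * (u * (i⁻¹ * u)) * i⁻¹ := by rw [h3]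
    _ = i * ((u * i⁻¹) * u) * i⁻¹ := by group
    _ = i * ((i⁻¹ * u) * u) * i⁻¹ := by rw [h3]
    _ = u * u * i⁻¹ := by group

theorem caseII {α : MulAut K} (h : Triv Q α) (hw : α w = w * z) : α * α = MulAut.conj z := by
  set β := α * MulAut.conj j with hβ
  have hβx : ∀ x, β x = α (j * x * j⁻¹) := fun x => rfl
  have hβw : β w = w := by
    rw [hβx, M.jw, mul_inv_cancel_right, map_mul, hw, triv_z M h, wzw M]
  have hβz : β z = z := by
    rw [hβx, jz' M, mul_inv_cancel_right, triv_z M h]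
  have hβu : β u = u⁻¹ := by
    rw [hβx, M.ju, mul_inv_cancel_right, fix_inv_u M h hw]
  have hβi : β i = i⁻¹ := by
    rw [hβx, M.ji, mul_inv_cancel_right, h _ (Q.inv_mem M.iQ)]
  obtain ⟨hz1, hw1⟩ := ag_comm M hβz hβw
  obtain ⟨m, n, hmn⟩ := M.A _ hz1 hw1
  have hinv : β (β g * g⁻¹) = (β g * g⁻¹)⁻¹ := by
    rw [hmn, map_mul, map_pow, map_pow, hβu, hβi, mul_inv_rev, inv_pow, inv_pow]
    have hc : Commute (u ^ m) (i ^ n) := (show Commute u i from M.ui).pow_pow m n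
    exact hc.inv_inv.eq
  have hββ : β (β g) = g := by
    have h1 : β g = β g * g⁻¹ * g := by group
    calc β (β g) = β (β g * g⁻¹ * g) := by rw [← h1]
      _ = (β g * g⁻¹)⁻¹ * β g := by rw [map_mul, hinv]
      _ = g := by group
  have hT : Triv Q (α * α) := fun q hq => by
    show α (α q) = q
    rw [h q hq, h q hq]
  obtain ⟨k, hk⟩ := caseI M hT (by
    show α (α w) = w
    rw [hw, map_mul, hw, triv_z M h, wzw M])
  have hαα : ∀ x, α (α x) = c ^ k * x * (c ^ k)⁻¹ := fun x => by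
    have := congrArg (fun γ : MulAut K => γ x) hk
    exact this
  have h2 : β (β g) = c ^ k * (z * g * z⁻¹) * (c ^ k)⁻¹ := by
    rw [← hαα, hβx, hβx]
    have h3 : j * α (j * g * j⁻¹) * j⁻¹ = α (z * g * z⁻¹) := by
      have h4 : α (j * (j * g * j⁻¹) * j⁻¹) = j * α (j * g * j⁻¹) * j⁻¹ := by
        rw [map_mul α (j * (j * g * j⁻¹)) j⁻¹, map_mul α j (j * g * j⁻¹), map_inv, h j M.jm]
      rw [← h4, ← M.jj]
      congr 1
      group
    rw [h3]
  have h5 : c ^ k * z = 1 := by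
    apply eq_one_of_g M
    · intro y hy
      exact comm_mul' (ck_comm M hy k) hy.symm
    · rw [hββ] at h2
      calc c ^ k * z * g = (c ^ k * (z * g * z⁻¹) * (c ^ k)⁻¹) * (c ^ k * z) := by group
        _ = g * (c ^ k * z) := by rw [← h2]
  have h6 : c ^ k = z := by
    rw [mul_eq_one_iff_eq_inv] at h5
    rw [h5]
    exact inv_eq_of_mul_eq_one_left M.zz
  rw [hk, h6]

/-! ### the fields -/

theorem conj_ck_w (k : ℕ) : (MulAut.conj (c ^ k)) w = w := by
  rw [MulAut.conj_apply, ck_comm M M.wz]; group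

theorem q_sq {q : K} (hq : q ∈ Q) : q * q = 1 ∨ q * q = z := by
  by_cases h1 : q = 1
  · left; rw [h1, one_mul]
  · by_cases h2 : q = z
    · left; rw [h2, M.zz]
    · right; exact M.sq q hq h1 h2

theorem q_two {q : K} (hq : q ∈ Q) : IsPGroup 2 (zpowers q) := by
  apply two_pow (n := 2)
  rw [show 2 ^ 2 = 2 + 2 by norm_num, pow_add, pow_two]
  rcases q_sq M hq with h | h
  · rw [h, one_mul]
  · rw [h, M.zz]

/-- (aut) -/
theorem map_Q {α : MulAut K} (hα : α z = z) {q : K} (hq : q ∈ Q) : α q ∈ Q := by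
  apply M.JQ _ (map_J α hα (M.QJ hq))
  obtain ⟨n, hn⟩ := exists_two_pow (q_two M hq)
  apply two_pow (n := n)
  rw [← map_pow, hn, map_one]

theorem inner_comm {k : K} (h : Triv Q (MulAut.conj k)) : ∃ m : ℕ, k = c ^ m := by
  have hc : ∀ q ∈ Q, k * q = q * k := fun q hq => mul_inv_eq_iff_eq_mul.1 (h q hq)
  exact M.cent k (hc z M.zQ) hc

theorem w_of_inner {α : MulAut K} (h : Triv Q α) (hi : α ∈ (MulAut.conj : K →* MulAut K).range) : α w = w := by
  obtain ⟨k, rfl⟩ := hi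
  obtain ⟨m, rfl⟩ := inner_comm M h
  exact conj_ck_w M m

theorem noninner {α : MulAut K} (hw : α w = w * z) (h : Triv Q α) : α ∉ (MulAut.conj : K →* MulAut K).range :=
  fun hi => w_ne M (hw.symm.trans (w_of_inner M h hi))

theorem w_of_noninner {α : MulAut K} (h : Triv Q α) (hi : α ∉ (MulAut.conj : K →* MulAut K).range) :
    α w = w * z := by
  rcases w_or M h with h1 | h1
  · obtain ⟨k, hk⟩ := caseI M h h1
    exact absurd ⟨c ^ k, hk.symm⟩ hi
  · exact h1

theorem triv_mul {α β : MulAut K} (hα : Triv Q α) (hβ : Triv Q β) : Triv Q (α * β) := fun q hq => by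
  show α (β q) = q
  rw [hβ q hq, hα q hq]

theorem triv_inv {α : MulAut K} (hα : Triv Q α) : Triv Q α⁻¹ := fun q hq => by
  have h : α⁻¹ (α q) = q := by
    rw [← MulAut.mul_apply, inv_mul_cancel, MulAut.one_apply]
  rwa [hα q hq] at h

theorem inv_w {α : MulAut K} (hα : Triv Q α) (hw : α w = w * z) : α⁻¹ w = w * z := by
  have h1 := w_or M (triv_inv M hα)
  rcases h1 with h1 | h1
  · exfalso
    have h2 : α (α⁻¹ w) = w := by rw [← MulAut.mul_apply, mul_inv_cancel, MulAut.one_apply]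
    rw [h1, hw] at h2
    exact w_ne M h2
  · exact h1

theorem mul_w {α β : MulAut K} (hα : Triv Q α) (hwα : α w = w * z) (hwβ : β w = w * z) : (α * β) w = w := by
  show α (β w) = w
  rw [hwβ, map_mul, hwα, triv_z M hα, wzw M]

/-- two automorphisms of case II differ by a power of `c` -/
theorem diff {α β : MulAut K} (hα : Triv Q α) (hβ : Triv Q β) (hwα : α w = w * z) (hwβ : β w = w * z) :
    ∃ k : ℕ, β = α * MulAut.conj (c ^ k) := by
  obtain ⟨k, hk⟩ := caseI M (triv_mul M (triv_inv M hα) hβ) (mul_w M (triv_inv M hα) (inv_w M hα hwα) hwβ)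
  exact ⟨k, by rw [← hk]; group⟩

theorem k1 {α : MulAut K} (h : Triv Q α) : α = 1 ∨ α = MulAut.conj z ∨ α * α = MulAut.conj z := by
  rcases w_or M h with hw | hw
  · obtain ⟨k, hk⟩ := caseI M h hw
    rcases ck_cases M k with (h1 | h1) | h1
    · left; rw [hk, h1, map_one]
    · right; left; rw [hk, h1]
    · right; right; rw [hk, ← map_mul, h1]
  · right; right; exact caseII M h hw

theorem ck_mod (k : ℕ) : c ^ k = c ^ (k % 4) := by
  conv_lhs => rw [← Nat.div_add_mod k 4, pow_add, pow_mul, c4 M, one_pow, one_mul]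

theorem k2 : Nat.card {α : MulAut K // Triv Q α} ≤ 8 := by
  classical
  have hck : ∀ k : ℕ, Triv Q (MulAut.conj (c ^ k)) := fun k q hq => by
    rw [MulAut.conj_apply, ck_comm M (M.Qz q hq)]; group
  by_cases hex : ∃ α : MulAut K, Triv Q α ∧ α w = w * z
  · obtain ⟨α, hα, hw⟩ := hex
    let f : Fin 4 × Bool → {α : MulAut K // Triv Q α} := fun p =>
      if p.2 then ⟨MulAut.conj (c ^ (p.1 : ℕ)), hck _⟩ else ⟨α * MulAut.conj (c ^ (p.1 : ℕ)), triv_mul M hα (hck _)⟩
    have hf : Function.Surjective f := by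
      rintro ⟨β, hβ⟩
      rcases w_or M hβ with h1 | h1
      · obtain ⟨k, hk⟩ := caseI M hβ h1
        refine ⟨(⟨k % 4, Nat.mod_lt _ (by norm_num)⟩, true), Subtype.ext ?_⟩
        show MulAut.conj (c ^ (k % 4)) = β
        rw [← ck_mod M, hk]
      · obtain ⟨k, hk⟩ := diff M hα hβ hw h1
        refine ⟨(⟨k % 4, Nat.mod_lt _ (by norm_num)⟩, false), Subtype.ext ?_⟩
        show α * MulAut.conj (c ^ (k % 4)) = β
        rw [← ck_mod M, hk]
    have h1 := Nat.card_le_card_of_surjective f hf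
    have h2 : Nat.card (Fin 4 × Bool) = 8 := by simp
    rwa [h2] at h1
  · push Not at hex
    let f : Fin 4 → {α : MulAut K // Triv Q α} := fun p => ⟨MulAut.conj (c ^ (p : ℕ)), hck _⟩
    have hf : Function.Surjective f := by
      rintro ⟨β, hβ⟩
      rcases w_or M hβ with h1 | h1
      · obtain ⟨k, hk⟩ := caseI M hβ h1
        refine ⟨⟨k % 4, Nat.mod_lt _ (by norm_num)⟩, Subtype.ext ?_⟩
        show MulAut.conj (c ^ (k % 4)) = β
        rw [← ck_mod M, hk]
      · exact absurd h1 (hex β hβ)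
    have h1 := Nat.card_le_card_of_surjective f hf
    have h2 : Nat.card (Fin 4) = 4 := by simp
    rw [h2] at h1
    omega

/-- every automorphism is inner times trivial on `Q` -/
theorem exists_triv_of_fix (α : MulAut K) (hα : α z = z) : ∃ x : K, x * z = z * x ∧ ∃ t : MulAut K, Triv Q t ∧
    α = MulAut.conj x * t := by
  obtain ⟨x, hx, h1, h2⟩ := M.full (α q1) (map_Q M hα M.m1) (α q2) (map_Q M hα M.m2)
    (by rw [← map_mul, M.s1, hα]) (by rw [← map_mul, M.s2, hα]) (by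
      rw [← map_mul, ← map_mul]
      exact fun h => M.n12 (α.injective h))
  refine ⟨x, hx, (MulAut.conj x)⁻¹ * α, ?_, by group⟩
  have e : ∀ y, ((MulAut.conj x)⁻¹ * α) y = x⁻¹ * α y * x := by
    intro y
    rw [MulAut.mul_apply, ← map_inv, MulAut.conj_apply, inv_inv]
  have h3 := M.qgen (((MulAut.conj x)⁻¹ * α).toMonoidHom.eqLocus (MonoidHom.id K)) (by
      show ((MulAut.conj x)⁻¹ * α) q1 = q1
      rw [e, mul_assoc, ← h1]; group) (by
      show ((MulAut.conj x)⁻¹ * α) q2 = q2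
      rw [e, mul_assoc, ← h2]; group)
  exact fun q hq => h3 hq

theorem exists_triv (α : MulAut K) : ∃ x : K, ∃ t : MulAut K, Triv Q t ∧ α = MulAut.conj x * t := by
  obtain ⟨y, hy⟩ := M.cls α
  obtain ⟨x, -, t, ht, h⟩ := exists_triv_of_fix M ((MulAut.conj y)⁻¹ * α) (by
    rw [MulAut.mul_apply, ← map_inv, MulAut.conj_apply, inv_inv, hy]; group)
  refine ⟨y * x, t, ht, ?_⟩
  rw [map_mul, mul_assoc, ← h]; group

theorem conj_swap (t : MulAut K) (x : K) : t * MulAut.conj x = MulAut.conj (t x) * t := by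
  ext y
  show t (x * y * x⁻¹) = t x * t y * (t x)⁻¹
  rw [map_mul, map_mul, map_inv]

theorem out : (MulAut.conj : K →* MulAut K).range.index ∣ 2 := by
  set H := (MulAut.conj : K →* MulAut K).range with hH
  by_cases hall : ∀ α : MulAut K, α ∈ H
  · rw [show H = ⊤ from eq_top_iff.2 fun x _ => hall x, index_top]
    exact one_dvd 2
  · push Not at hall
    obtain ⟨a, ha⟩ := hall
    have h2 : H.index = 2 := by
      rw [Subgroup.index_eq_two_iff]
      refine ⟨a, fun b => ?_⟩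
      by_cases hb : b ∈ H
      · right
        exact ⟨hb, fun h => ha ((H.mul_mem_cancel_left hb).1 h)⟩
      · left
        refine ⟨?_, hb⟩
        obtain ⟨x, t, ht, rfl⟩ := exists_triv M a
        obtain ⟨y, s, hs, rfl⟩ := exists_triv M b
        have ht' : t ∉ H := fun h => ha (H.mul_mem ⟨x, rfl⟩ h)
        have hs' : s ∉ H := fun h => hb (H.mul_mem ⟨y, rfl⟩ h)
        obtain ⟨k, hk⟩ := caseI M (triv_mul M hs ht) (mul_w M hs (w_of_noninner M hs hs') (w_of_noninner M ht ht'))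
        have e : MulAut.conj y * s * (MulAut.conj x * t) = MulAut.conj (y * s x * c ^ k) := by
          rw [map_mul, map_mul, ← hk]
          calc MulAut.conj y * s * (MulAut.conj x * t) = MulAut.conj y * (s * MulAut.conj x) * t := by group
            _ = MulAut.conj y * (MulAut.conj (s x) * s) * t := by rw [conj_swap M]
            _ = _ := by group
        rw [e]
        exact ⟨_, rfl⟩
    rw [h2]

theorem oz_mul {a b : K} (ha : a = 1 ∨ a = z) (hb : b = 1 ∨ b = z) : a * b = 1 ∨ a * b = z := by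
  rcases ha with rfl | rfl <;> rcases hb with rfl | rfl
  · left; rw [mul_one]
  · right; rw [one_mul]
  · right; rw [mul_one]
  · left; exact M.zz

theorem oz_comm {a q : K} (ha : a = 1 ∨ a = z) (hq : q * z = z * q) : a * q = q * a := by
  rcases ha with rfl | rfl
  · rw [one_mul, mul_one]
  · exact hq.symm

theorem oz_sq {a : K} (ha : a = 1 ∨ a = z) : a * a = 1 := by
  rcases ha with rfl | rfl
  · rw [one_mul]
  · exact M.zz

theorem q_conj {r q : K} (hr : r ∈ Q) (hq : q ∈ Q) : r * q * r⁻¹ = q ∨ r * q * r⁻¹ = q * z := by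
  have h1 := q_sq M (Q.mul_mem hr hq)
  have h2 := q_sq M hr
  have h3 := q_sq M hq
  have e1 : r⁻¹ = r * (r * r) := by
    rw [inv_eq_iff_mul_eq_one, ← mul_assoc]
    exact oz_sq M h2
  have e3 : q⁻¹ = q * (q * q) := by
    rw [inv_eq_iff_mul_eq_one, ← mul_assoc]
    exact oz_sq M h3
  have e4 : r * q * r⁻¹ = (r * q * (r * q)) * (q * (q * q)) * (r * r) := by
    rw [e1, ← e3]; group
  have e5 : r * q * r⁻¹ = q * ((r * q * (r * q)) * (q * q) * (r * r)) := by
    rw [e4]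
    calc (r * q * (r * q)) * (q * (q * q)) * (r * r) = ((r * q * (r * q)) * q) * (q * q) * (r * r) := by group
      _ = (q * (r * q * (r * q))) * (q * q) * (r * r) := by rw [oz_comm M h1 (M.Qz q hq)]
      _ = _ := by group
  rcases oz_mul M (oz_mul M h1 h3) h2 with h | h
  · left; rw [e5, h, mul_one]
  · right; rw [e5, h]

theorem jQ {x : K} (hx : x ∈ J z) (h : ∀ q ∈ Q, x * q = q * x) : x = 1 ∨ x = z := by
  obtain ⟨k, hk⟩ := M.cent x (J_comm hx) h
  have hxQ : x ∈ Q := M.JQ x hx (by rw [hk]; exact ck_two M k)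
  by_contra hne
  push Not at hne
  obtain ⟨a, ha, -, h2⟩ := M.ex
  exact h2 x hxQ hne.1 hne.2 (h _ (M.Qn a ha x hxQ))

theorem jz {x : K} (hx : x ∈ J z) (h : x * x = 1) : x = 1 ∨ x = z := by
  have hxQ : x ∈ Q := M.JQ x hx (two_pow (n := 1) (by rw [pow_one, pow_two, h]))
  by_contra hne
  push Not at hne
  exact M.z1 ((M.sq x hxQ hne.1 hne.2).symm.trans h)

/-! ### 2-elements of `C(z)` -/

theorem pz : u⁻¹ * i * z = z * (u⁻¹ * i) := comm_mul' (comm_inv' M.uz) (iz M)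

theorem p_sq : u⁻¹ * i * (u⁻¹ * i) = c * i := by
  have h1 := ui' M
  have h2 : c = i * (u * u)⁻¹ := by rw [← M.ci]; group
  rw [h2]
  calc u⁻¹ * i * (u⁻¹ * i) = (u⁻¹ * i) * (i * u⁻¹) := by rw [h1]
    _ = (i * u⁻¹) * (i * u⁻¹) := by rw [h1]
    _ = i * (u⁻¹ * i) * u⁻¹ := by group
    _ = i * (i * u⁻¹) * u⁻¹ := by rw [h1]
    _ = i * (i * (u⁻¹ * u⁻¹)) := by group
    _ = i * (u⁻¹ * u⁻¹ * i) := by
        congr 1
        calc i * (u⁻¹ * u⁻¹) = (i * u⁻¹) * u⁻¹ := by group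
          _ = (u⁻¹ * i) * u⁻¹ := by rw [h1]
          _ = u⁻¹ * (i * u⁻¹) := by group
          _ = u⁻¹ * (u⁻¹ * i) := by rw [h1]
          _ = u⁻¹ * u⁻¹ * i := by group
    _ = i * (u * u)⁻¹ * i := by group

theorem ci_comm : Commute c i := M.cz i (iz M)

theorem p_even (m : ℕ) : (u⁻¹ * i) ^ (2 * m) = c ^ m * i ^ m := by
  rw [pow_mul, pow_two, p_sq M, (ci_comm M).mul_pow]

theorem iJ : i ∈ J z := M.QJ M.iQ

/-- `x = c^m y` with `y ∈ J z` -/
theorem inner_of_even {x y : K} {m : ℕ} (hx : x = c ^ m * y) (hy : y ∈ J z) (h2 : IsPGroup 2 (zpowers x)) :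
    y ∈ Q := by
  apply M.JQ y hy
  obtain ⟨n, hn⟩ := exists_two_pow h2
  apply two_pow (n := n + 2)
  have hc : Commute (c ^ m) y := ck_comm M (J_comm hy) m
  have h3 : x ^ 2 ^ (n + 2) = 1 := by rw [pow_add, pow_mul, hn, one_pow]
  rw [hx, hc.mul_pow] at h3
  have h4 : (c ^ m) ^ 2 ^ (n + 2) = 1 := by
    rw [← pow_mul, pow_add, show 2 ^ 2 = 4 by norm_num, ← mul_assoc, pow_mul, ← pow_mul, mul_comm, pow_mul, c4 M,
      one_pow]
  rwa [h4, one_mul] at h3

theorem inner_ck {y : K} (m : ℕ) (hy : y ∈ Q) : Inner Q (MulAut.conj (c ^ m * y)) := by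
  refine ⟨y, hy, fun q hq => ?_⟩
  have h1 : y * q * y⁻¹ * z = z * (y * q * y⁻¹) := M.Qz _ (Q.mul_mem (Q.mul_mem hy hq) (Q.inv_mem hy))
  have h2 := ck_comm M h1 m
  show c ^ m * y * q * (c ^ m * y)⁻¹ = _
  calc c ^ m * y * q * (c ^ m * y)⁻¹ = c ^ m * (y * q * y⁻¹) * (c ^ m)⁻¹ := by group
    _ = y * q * y⁻¹ := by rw [h2]; group

/-- a 2-element of `C(z)` which does not act on `Q` as an element of `Q` -/
theorem odd_of {x : K} (hx : x * z = z * x) (h2 : IsPGroup 2 (zpowers x)) (hI : ¬ Inner Q (MulAut.conj x)) :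
    ∃ m : ℕ, ∃ y ∈ J z, x = (u⁻¹ * i) ^ (2 * m + 1) * y := by
  obtain ⟨k, y, hy, hxy⟩ := M.pJ x hx
  rcases Nat.even_or_odd' k with ⟨m, rfl | rfl⟩
  · exfalso
    rw [p_even M, mul_assoc] at hxy
    have h3 : i ^ m * y ∈ J z := (J z).mul_mem ((J z).pow_mem (iJ M) m) hy
    apply hI
    rw [hxy]
    exact inner_ck M m (inner_of_even M hxy h3 h2)
  · exact ⟨m, y, hy, hxy⟩

theorem alpha_pk {α : MulAut K} (h : Triv Q α) (hw : α w = w * z) (k : ℕ) :
    α ((u⁻¹ * i) ^ k) = (u⁻¹ * i) ^ k * (c ^ k)⁻¹ := by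
  have hc : Commute (u⁻¹ * i) c⁻¹ := (show Commute c (u⁻¹ * i) from M.cz _ (pz M)).symm.inv_right
  rw [map_pow, alpha_p M h hw, hc.mul_pow, inv_pow]

theorem k5 {α : MulAut K} (h : Triv Q α) (hn : α ∉ (MulAut.conj : K →* MulAut K).range) {x : K}
    (hx : x * z = z * x) (h2 : IsPGroup 2 (zpowers x)) (hI : ¬ Inner Q (MulAut.conj x)) : α x ≠ x := by
  intro hαx
  have hw := w_of_noninner M h hn
  obtain ⟨k, y, hy, hxy⟩ := M.pJ x hx
  rw [hxy, map_mul, fix_J M h hy] at hαx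
  have h3 := mul_right_cancel hαx
  rw [alpha_pk M h hw, mul_eq_left, inv_eq_one] at h3
  rw [M.ordp k h3, one_mul] at hxy
  have h4 : x ∈ Q := M.JQ x (by rw [hxy]; exact hy) h2
  apply hI
  have := inner_ck M 0 h4
  rwa [pow_zero, one_mul] at this

theorem conj_inj {a b : K} (h : MulAut.conj a = MulAut.conj b) : a = b := by
  have h1 : b⁻¹ * a = 1 := by
    apply M.ctr
    intro y
    have h2 : a * y * a⁻¹ = b * y * b⁻¹ := congrArg (fun γ : MulAut K => γ y) h
    calc b⁻¹ * a * y = b⁻¹ * (a * y * a⁻¹) * a := by group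
      _ = b⁻¹ * (b * y * b⁻¹) * a := by rw [h2]
      _ = y * (b⁻¹ * a) := by group
  exact (inv_mul_eq_one.1 h1).symm

/-- `α conj(z) = conj(z) α` -/
theorem conj_z_comm {α : MulAut K} (hα : α z = z) : α * MulAut.conj z = MulAut.conj z * α := by
  rw [conj_swap M, hα]

theorem conj_ck_triv (k : ℕ) : Triv Q (MulAut.conj (c ^ k)) := fun q hq => by
  rw [MulAut.conj_apply, ck_comm M (M.Qz q hq)]; group

theorem comm_of_cz (hc : c = z) {α β : MulAut K} (hα : Triv Q α) (hβ : Triv Q β) : α * β = β * α := by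
  have hz : ∀ m : ℕ, c ^ m = 1 ∨ c ^ m = z := by
    intro m
    rw [hc]
    rcases Nat.even_or_odd' m with ⟨l, rfl | rfl⟩
    · left; rw [pow_mul, pow_two, M.zz, one_pow]
    · right; rw [pow_succ, pow_mul, pow_two, M.zz, one_pow, one_mul]
  have key : ∀ m (γ : MulAut K), Triv Q γ → γ * MulAut.conj (c ^ m) = MulAut.conj (c ^ m) * γ := by
    intro m γ hγ
    rcases hz m with h | h
    · rw [h, map_one, one_mul, mul_one]
    · rw [h]; exact conj_z_comm M (triv_z M hγ)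
  rcases w_or M hα with h1 | h1
  · obtain ⟨k, hk⟩ := caseI M hα h1
    rw [hk]; exact (key k β hβ).symm
  · rcases w_or M hβ with h2 | h2
    · obtain ⟨k, hk⟩ := caseI M hβ h2
      rw [hk]; exact key k α hα
    · obtain ⟨k, hk⟩ := diff M hα hβ h1 h2
      rw [hk, mul_assoc α (MulAut.conj (c ^ k)) α, ← key k α hα]

/-- the element of a 2-element `γ = conj(x) t` is a 2-element -/
theorem two_of {γ t : MulAut K} {x : K} (hx : x * z = z * x) (ht : Triv Q t) (h : γ = MulAut.conj x * t)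
    (h2 : IsPGroup 2 (zpowers γ)) : IsPGroup 2 (zpowers x) := by
  obtain ⟨n, hn⟩ := exists_two_pow h2
  have h1 : ∀ m : ℕ, ∀ q ∈ Q, (γ ^ m) q = x ^ m * q * (x ^ m)⁻¹ := by
    intro m
    induction m with
    | zero => intro q _; rw [pow_zero, pow_zero]; simp
    | succ m ih =>
      intro q hq
      rw [pow_succ, MulAut.mul_apply]
      have h3 : γ q = x * q * x⁻¹ := by
        rw [h, MulAut.mul_apply, ht q hq]; rfl
      rw [h3, ih _ (M.Qn x hx q hq), pow_succ]
      group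
  obtain ⟨k, hk⟩ := M.cent (x ^ 2 ^ n) (comm_pow' hx _) (fun q hq => by
    have h3 := h1 (2 ^ n) q hq
    rw [hn, MulAut.one_apply] at h3
    exact (mul_inv_eq_iff_eq_mul.1 h3.symm))
  apply two_pow (n := n + 2)
  rw [pow_add, pow_mul, hk, show 2 ^ 2 = 4 by norm_num, ← pow_mul, mul_comm, pow_mul, c4 M, one_pow]

theorem inner_iff {γ t : MulAut K} {x : K} (ht : Triv Q t) (h : γ = MulAut.conj x * t) :
    Inner Q γ ↔ Inner Q (MulAut.conj x) := by
  have h1 : ∀ q ∈ Q, γ q = MulAut.conj x q := fun q hq => by rw [h, MulAut.mul_apply, ht q hq]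
  constructor
  · rintro ⟨r, hr, h2⟩
    exact ⟨r, hr, fun q hq => by rw [← h1 q hq, h2 q hq]⟩
  · rintro ⟨r, hr, h2⟩
    exact ⟨r, hr, fun q hq => by rw [h1 q hq, h2 q hq]⟩

theorem ck_map {α : MulAut K} (h : Triv Q α) (hw : α w = w * z) (k : ℕ) : α (c ^ k) = (c ^ k)⁻¹ := by
  rw [map_pow, alpha_c M h hw, inv_pow]

theorem ck_sq_oz (k : ℕ) : c ^ k * c ^ k = 1 ∨ c ^ k * c ^ k = z := by
  rcases ck_cases M k with h | h
  · left; exact oz_sq M h
  · right; exact h

/-- `t κ t⁻¹` -/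
theorem tk_aux {κ : MulAut K} (hκ : Triv Q κ) (hw : κ w = w * z) (k : ℕ) :
    MulAut.conj (c ^ k) * κ * (MulAut.conj (c ^ k))⁻¹ = κ ∨
      MulAut.conj (c ^ k) * κ * (MulAut.conj (c ^ k))⁻¹ = κ * MulAut.conj z := by
  have e : MulAut.conj (c ^ k) * κ * (MulAut.conj (c ^ k))⁻¹ = MulAut.conj (c ^ k * c ^ k) * κ := by
    rw [← map_inv, mul_assoc, conj_swap M, map_inv, ck_map M hκ hw, inv_inv, ← mul_assoc, ← map_mul]
  rw [e]
  rcases ck_sq_oz M k with h | h
  · left; rw [h, map_one, one_mul]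
  · right; rw [h, conj_z_comm M (triv_z M hκ)]

theorem tk {t κ : MulAut K} (ht : Triv Q t) (hκ : Triv Q κ) (hw : κ w = w * z) :
    t * κ * t⁻¹ = κ ∨ t * κ * t⁻¹ = κ * MulAut.conj z := by
  rcases w_or M ht with h1 | h1
  · obtain ⟨k, hk⟩ := caseI M ht h1
    rw [hk]
    exact tk_aux M hκ hw k
  · obtain ⟨k, hk⟩ := diff M hκ ht hw h1
    have e : t * κ * t⁻¹ = κ * (MulAut.conj (c ^ k) * κ * (MulAut.conj (c ^ k))⁻¹) * κ⁻¹ := by rw [hk]; group
    rw [e]
    rcases tk_aux M hκ hw k with h | h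
    · left; rw [h]; group
    · right
      rw [h]
      calc κ * (κ * MulAut.conj z) * κ⁻¹ = κ * (MulAut.conj z * κ) * κ⁻¹ := by rw [conj_z_comm M (triv_z M hκ)]
        _ = κ * MulAut.conj z := by group

/-- `conj(x) κ conj(x)⁻¹` -/
theorem xk {κ : MulAut K} (hκ : Triv Q κ) (hw : κ w = w * z) {m : ℕ} {y : K} (hy : y ∈ J z) :
    MulAut.conj ((u⁻¹ * i) ^ m * y) * κ * (MulAut.conj ((u⁻¹ * i) ^ m * y))⁻¹ = MulAut.conj (c ^ m) * κ := by
  have e1 : κ ((u⁻¹ * i) ^ m * y)⁻¹ = ((u⁻¹ * i) ^ m * (c ^ m)⁻¹ * y)⁻¹ := by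
    rw [map_inv, map_mul, alpha_pk M hκ hw, fix_J M hκ hy]
  rw [← map_inv, mul_assoc, conj_swap M, ← mul_assoc, ← map_mul, e1]
  congr 2
  have h1 : c ^ m * (u⁻¹ * i) ^ m = (u⁻¹ * i) ^ m * c ^ m := ck_comm M (comm_pow' (pz M) m) m
  calc (u⁻¹ * i) ^ m * y * ((u⁻¹ * i) ^ m * (c ^ m)⁻¹ * y)⁻¹ = ((u⁻¹ * i) ^ m * c ^ m) * ((u⁻¹ * i) ^ m)⁻¹ := by group
    _ = c ^ m := by rw [← h1]; group

theorem c_odd (hc : c * c = z) (m : ℕ) : c ^ (2 * m + 1) * c ^ (2 * m + 1) = z := by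
  rw [← pow_add, show 2 * m + 1 + (2 * m + 1) = 4 * m + 2 by ring, pow_add, pow_mul, c4 M, one_pow, one_mul,
    pow_two, hc]

theorem q8 {γ κ₁ κ₂ : MulAut K} (hγz : γ z = z) (hγ2 : IsPGroup 2 (zpowers γ)) (hγI : ¬ Inner Q γ)
    (h1 : Triv Q κ₁) (h2 : Triv Q κ₂) (hne : κ₁ * κ₂ ≠ κ₂ * κ₁) :
    ∃ κ : MulAut K, Triv Q κ ∧ γ * κ * γ⁻¹ ≠ κ ∧ γ * κ * γ⁻¹ ≠ κ * MulAut.conj z := by
  have hcc : c * c = z := by
    rcases M.cc with h | h
    · exact absurd (comm_of_cz M h h1 h2) hne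
    · exact h
  obtain ⟨x, hx, t, ht, hγ⟩ := exists_triv_of_fix M γ hγz
  have hx2 := two_of M hx ht hγ hγ2
  have hxI : ¬ Inner Q (MulAut.conj x) := fun h => hγI ((inner_iff M ht hγ).2 h)
  obtain ⟨κ, hκ, hw⟩ : ∃ κ : MulAut K, Triv Q κ ∧ κ w = w * z := by
    rcases w_or M h1 with h3 | h3
    · rcases w_or M h2 with h4 | h4
      · exfalso
        obtain ⟨k, hk⟩ := caseI M h1 h3
        obtain ⟨l, hl⟩ := caseI M h2 h4
        apply hne
        rw [hk, hl, ← map_mul, ← map_mul, ← pow_add, ← pow_add, add_comm]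
      · exact ⟨κ₂, h2, h4⟩
    · exact ⟨κ₁, h1, h3⟩
  obtain ⟨m, y, hy, hxy⟩ := odd_of M hx hx2 hxI
  have hcm : ∀ s : K, s = 1 ∨ s = z → c ^ (2 * m + 1) ≠ s := by
    intro s hs h
    have h5 := c_odd M hcc m
    rw [h, oz_sq M hs] at h5
    exact M.z1 h5.symm
  have hzz : MulAut.conj z * MulAut.conj z = 1 := by rw [← map_mul, M.zz, map_one]
  have hkz := conj_z_comm M (triv_z M hκ)
  have hcz : MulAut.conj (c ^ (2 * m + 1)) * MulAut.conj z = MulAut.conj z * MulAut.conj (c ^ (2 * m + 1)) := by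
    rw [← map_mul, ← map_mul, ckz M]
  refine ⟨κ, hκ, ?_⟩
  have e : γ * κ * γ⁻¹ = MulAut.conj x * (t * κ * t⁻¹) * (MulAut.conj x)⁻¹ := by rw [hγ]; group
  have hxk := xk M hκ hw (m := 2 * m + 1) hy
  rw [← hxy] at hxk
  have hxz : MulAut.conj x * MulAut.conj z = MulAut.conj z * MulAut.conj x := by
    rw [← map_mul, ← map_mul, hx]
  have hcase : γ * κ * γ⁻¹ = MulAut.conj (c ^ (2 * m + 1)) * κ ∨
      γ * κ * γ⁻¹ = MulAut.conj (c ^ (2 * m + 1) * z) * κ := by
    rw [e]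
    rcases tk M ht hκ hw with h | h
    · left; rw [h, hxk]
    · right
      rw [h, map_mul, hcz]
      calc MulAut.conj x * (κ * MulAut.conj z) * (MulAut.conj x)⁻¹
          = MulAut.conj x * (MulAut.conj z * κ) * (MulAut.conj x)⁻¹ := by rw [hkz]
        _ = (MulAut.conj x * MulAut.conj z) * κ * (MulAut.conj x)⁻¹ := by group
        _ = MulAut.conj z * (MulAut.conj x * κ * (MulAut.conj x)⁻¹) := by rw [hxz]; group
        _ = _ := by rw [hxk]; group
  have key : ∀ a b : K, (b = 1 ∨ b = z) → a = c ^ (2 * m + 1) ∨ a = c ^ (2 * m + 1) * z →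
      MulAut.conj a * κ ≠ MulAut.conj b * κ := by
    intro a b hb ha h
    have h5 := conj_inj M (mul_right_cancel h)
    rcases ha with rfl | rfl
    · exact hcm b hb h5
    · apply hcm (b * z) (oz_mul M hb (Or.inr rfl))
      rw [← h5, mul_assoc, M.zz, mul_one]
  constructor
  · intro h
    have h6 : MulAut.conj (1 : K) * κ = κ := by rw [map_one, one_mul]
    rcases hcase with h5 | h5
    · exact key _ 1 (Or.inl rfl) (Or.inl rfl) (by rw [← h5, h, h6])
    · exact key _ 1 (Or.inl rfl) (Or.inr rfl) (by rw [← h5, h, h6])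
  · intro h
    rcases hcase with h5 | h5
    · exact key _ z (Or.inr rfl) (Or.inl rfl) (by rw [← h5, h, hkz])
    · exact key _ z (Or.inr rfl) (Or.inr rfl) (by rw [← h5, h, hkz])

theorem sq4 {γ κ : MulAut K} (hγz : γ z = z) (hγ2 : IsPGroup 2 (zpowers γ)) (hγI : ¬ Inner Q γ) (hκ : Triv Q κ)
    (hκκ : κ * κ = MulAut.conj z) (hcomm : γ * κ = κ * γ)
    (hall : ∀ x : K, x * z = z * x → MulAut.conj x * κ * (MulAut.conj x)⁻¹ = κ ∨
      MulAut.conj x * κ * (MulAut.conj x)⁻¹ = κ * MulAut.conj z) :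
    ∃ r ∈ Q, ∃ β : MulAut K, Triv Q β ∧ β * β = MulAut.conj z ∧ γ * γ = β * MulAut.conj r := by
  obtain ⟨x, hx, t, ht, hγ⟩ := exists_triv_of_fix M γ hγz
  have hx2 := two_of M hx ht hγ hγ2
  have hxI : ¬ Inner Q (MulAut.conj x) := fun h => hγI ((inner_iff M ht hγ).2 h)
  rcases w_or M hκ with hw | hw
  · -- `κ` inner
    obtain ⟨k, hk⟩ := caseI M hκ hw
    have hkk : c ^ k * c ^ k = z := by
      apply conj_inj M
      rw [map_mul, ← hk, hκκ]
    have hcc : c * c = z := by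
      rcases M.cc with h | h
      · exfalso
        have h5 : c ^ k = 1 ∨ c ^ k = z := by
          rw [h]
          rcases Nat.even_or_odd' k with ⟨l, rfl | rfl⟩
          · left; rw [pow_mul, pow_two, M.zz, one_pow]
          · right; rw [pow_succ, pow_mul, pow_two, M.zz, one_pow, one_mul]
        exact M.z1 (hkk.symm.trans (oz_sq M h5))
      · exact h
    have hγk : γ (c ^ k) = c ^ k := by
      apply conj_inj M
      have h3 := conj_swap M γ (c ^ k)
      rw [← hk, hcomm] at h3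
      exact (mul_right_cancel h3).symm.trans hk
    have htw : t w = w := by
      rcases w_or M ht with h | h
      · exact h
      · exfalso
        have h3 : γ (c ^ k) = x * (c ^ k)⁻¹ * x⁻¹ := by
          rw [hγ, MulAut.mul_apply, ck_map M ht h]; rfl
        have h4 : x * (c ^ k)⁻¹ * x⁻¹ = (c ^ k)⁻¹ := by
          have h5 := ck_comm M hx k
          calc x * (c ^ k)⁻¹ * x⁻¹ = (c ^ k)⁻¹ * (c ^ k * x) * (c ^ k)⁻¹ * x⁻¹ := by group
            _ = (c ^ k)⁻¹ := by rw [h5]; group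
        rw [hγk, h4] at h3
        have h5 : c ^ k * c ^ k = 1 := by
          nth_rewrite 1 [h3]
          exact inv_mul_cancel _
        exact M.z1 (hkk.symm.trans h5)
    obtain ⟨l, hl⟩ := caseI M ht htw
    obtain ⟨m, y, hy, hxy⟩ := odd_of M hx hx2 hxI
    set p := u⁻¹ * i with hp
    set e := 2 * m + 1 with he
    -- `x x = c^e y'`
    have hpe : p ^ e * p ^ e = c ^ e * i ^ e := by rw [← pow_add, ← two_mul, p_even M]
    have hpz : p ^ e * z = z * p ^ e := comm_pow' (pz M) e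
    have hyy : (p ^ e)⁻¹ * y * p ^ e ∈ J z := by
      have := J_conj (comm_inv' hpz) hy
      rwa [inv_inv] at this
    have hxx : x * x = c ^ e * (i ^ e * ((p ^ e)⁻¹ * y * p ^ e * y)) := by
      rw [hxy]
      calc p ^ e * y * (p ^ e * y) = (p ^ e * p ^ e) * ((p ^ e)⁻¹ * y * p ^ e * y) := by group
        _ = _ := by rw [hpe, mul_assoc]
    have hJ : i ^ e * ((p ^ e)⁻¹ * y * p ^ e * y) ∈ J z :=
      (J z).mul_mem ((J z).pow_mem (iJ M) e) ((J z).mul_mem hyy hy)
    have hQ : i ^ e * ((p ^ e)⁻¹ * y * p ^ e * y) ∈ Q := by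
      refine inner_of_even M hxx hJ ?_
      obtain ⟨n, hn⟩ := exists_two_pow hx2
      apply two_pow (n := n)
      rw [(Commute.refl x).mul_pow, hn, one_mul]
    refine ⟨_, hQ, MulAut.conj (c ^ (2 * (m + l) + 1)), conj_ck_triv M _, ?_, ?_⟩
    · rw [← map_mul, c_odd M hcc]
    · rw [hγ, hl, ← map_mul, ← map_mul, ← map_mul]
      congr 1
      have h5 := ck_comm M hx l
      calc x * c ^ l * (x * c ^ l) = x * (c ^ l * x) * c ^ l := by group
        _ = (x * x) * (c ^ l * c ^ l) := by rw [h5]; group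
        _ = (c ^ l * c ^ l) * (x * x) := by
            have h6 := ck_comm M (comm_mul' hx hx) l
            rw [← mul_assoc, ← h6, mul_assoc, ← h6, ← mul_assoc]
        _ = c ^ (l + l) * (c ^ e * (i ^ e * ((p ^ e)⁻¹ * y * p ^ e * y))) := by rw [hxx, pow_add c l l]
        _ = c ^ (l + l + e) * (i ^ e * ((p ^ e)⁻¹ * y * p ^ e * y)) := by rw [← mul_assoc, ← pow_add c (l + l) e]
        _ = _ := by
            have h7 : l + l + e = 2 * (m + l) + 1 := by omega
            rw [h7]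
  · -- `κ` outer
    exfalso
    have hkz := conj_z_comm M (triv_z M hκ)
    have h1 := xk M hκ hw (m := 1) (y := 1) (J z).one_mem
    have hpz1 : (u⁻¹ * i) ^ 1 * 1 * z = z * ((u⁻¹ * i) ^ 1 * 1) := by rw [pow_one, mul_one]; exact pz M
    have h2 := hall _ hpz1
    rw [h1, hkz, pow_one] at h2
    have hc : c = z := by
      rcases h2 with h2 | h2
      · exfalso
        have h3 : c = 1 := by
          apply conj_inj M
          rw [map_one]
          exact mul_eq_right.1 h2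
        rcases M.cc with h4 | h4
        · exact M.z1 (h4.symm.trans h3)
        · rw [h3, one_mul] at h4; exact M.z1 h4.symm
      · exact conj_inj M (mul_right_cancel h2)
    have htk := comm_of_cz M hc ht hκ
    have hxk : MulAut.conj x * κ = κ * MulAut.conj x := by
      have h3 : MulAut.conj x = γ * t⁻¹ := by rw [hγ]; group
      rw [h3]
      have h4 : t⁻¹ * κ = κ * t⁻¹ := by
        calc t⁻¹ * κ = t⁻¹ * (κ * t) * t⁻¹ := by group
          _ = t⁻¹ * (t * κ) * t⁻¹ := by rw [htk]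
          _ = κ * t⁻¹ := by group
      rw [mul_assoc, h4, ← mul_assoc, hcomm, mul_assoc]
    have hκx : κ x = x := by
      have h3 := conj_swap M κ x
      rw [← hxk] at h3
      exact (conj_inj M (mul_right_cancel h3)).symm
    exact k5 M hκ (noninner M hw hκ) hx hx2 hxI hκx

/-- **the facts** -/
theorem one : One z Q where
  zz := M.zz
  z1 := M.z1
  odd := M.odd
  zQ := M.zQ
  card := M.card
  sq := M.sq
  aut := fun _ hα _ hq => map_Q M hα hq
  ex := M.ex
  jQ := fun _ hx h => jQ M hx h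
  jz := fun _ hx h => jz M hx h
  out := out M
  k1 := fun _ h => k1 M h
  k2 := k2 M
  k3 := fun _ h _ hx => fix_J M h hx
  exp := by
    refine ⟨u⁻¹ * i, pz M, M.p2, ?_⟩
    rintro ⟨r, hr, h⟩
    obtain ⟨q, hq, h1, h2⟩ := M.pq
    have h3 : u⁻¹ * i * q * (u⁻¹ * i)⁻¹ = r * q * r⁻¹ := h q hq
    rcases q_conj M hr hq with h4 | h4
    · rw [h4, mul_inv_eq_iff_eq_mul] at h3
      exact h1 h3
    · rw [h4, mul_inv_eq_iff_eq_mul] at h3
      exact h2 h3
  k5 := fun _ h hn _ hx h2 hI => k5 M h hn hx h2 hI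
  sq4 := fun _ _ h1 h2 h3 h4 h5 h6 h7 => sq4 M h1 h2 h3 h4 h5 h6 h7
  q8 := fun _ _ _ h1 h2 h3 h4 h5 h6 => q8 M h1 h2 h3 h4 h5 h6
  big := M.big

end abs

end Cfsg.Agent.OddHalf.D6.RThree.Abs
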