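import Cfsg.Agent.OddHalf.D6.RThree.Rad

/-!
# ODD half, D6, `L₃(3)`, `U₃(3)`: the components of `X = C_G(z)` contain `z` (helper783)

`Hyp.sol`: `C_X(t)` is solvable; `Hyp.z_mem`: `z` lies in every component of `X`.
-/

set_option autoImplicit false

namespace Cfsg.Agent.OddHalf.D6.RThree

open Subgroup Cfsg
open Cfsg.Agent.OddHalf.D6.QThree.NISide
open Cfsg.Agent.SignalizersComponents.Components
open Cfsg.Agent.Cit (cj mem_cj conj_mem_cj)

/-- an element of odd order of a 2-group is trivial -/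
theorem eq_one_of_odd {X : Type*} [Group X] {x : X} (h2 : IsPGroup 2 (zpowers x)) (ho : Odd (orderOf x)) :
    x = 1 := by
  obtain ⟨k, hk⟩ := h2 ⟨x, mem_zpowers x⟩
  have hk' : x ^ 2 ^ k = 1 := congrArg Subtype.val hk
  have h1 : orderOf x ∣ 2 ^ k := orderOf_dvd_of_pow_eq_one hk'
  have h3 : Nat.Coprime (2 ^ k) (orderOf x) := Nat.Coprime.pow_left _ (Nat.coprime_two_left.2 ho)
  exact orderOf_eq_one_iff.1 (Nat.eq_one_of_dvd_coprimes h3 h1 dvd_rfl)

variable {X : Type*} [Group X] {z t a : X} {Q : Subgroup X}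

namespace Hyp

theorem mem_norm (h : Hyp z t a Q) {g : X} (hg : g * t = t * g) : g ∈ normalizer (Q : Set X) := by
  rw [mem_normalizer_iff]
  intro q
  refine ⟨fun hq => h.nQ g hg q hq, fun hq => ?_⟩
  have hgi : g⁻¹ * t = t * g⁻¹ := (Commute.inv_left (show Commute g t from hg)).eq
  have h1 := h.nQ g⁻¹ hgi _ hq
  have e : g⁻¹ * (g * q * g⁻¹) * g⁻¹⁻¹ = q := by group
  rwa [e] at h1

/-- `C_X(t)` is solvable -/
theorem sol [Finite X] (h : Hyp z t a Q) : Group.IsSolvable (centralizer ({t} : Set X)) := by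
  have : Fact (Nat.Prime 2) := ⟨Nat.prime_two⟩
  set C : Subgroup X := centralizer ({t} : Set X) with hC
  have hCt : ∀ g : C, (g : X) * t = t * g := fun g => mem_centralizer_singleton_iff.1 g.2
  let φ : C →* MulAut Q := Q.normalizerMonoidHom.comp (C.subtype.codRestrict _ fun g => h.mem_norm (hCt g))
  have hs := QThree.NISolv.solvable_mulAut (QThree.NISolv.quat_of_side h.s h.zc h.zz h.z1)
  have hk : Group.IsSolvable φ.ker := by
    have h1 : IsPGroup 2 φ.ker := by
      intro g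
      have hin : In t Q ((g : C) : X) := by
        refine ⟨hCt g, fun q hq => ?_⟩
        have h2 : φ g = 1 := g.2
        have h3 : ((φ g ⟨q, hq⟩ : Q) : X) = q := by rw [h2]; rfl
        have h4 : ((g : C) : X) * q * ((g : C) : X)⁻¹ = q := h3
        exact mul_inv_eq_iff_eq_mul.1 h4
      obtain ⟨k, hk⟩ := h.Y2 _ hin ⟨_, mem_zpowers _⟩
      have hk' : ((g : C) : X) ^ 2 ^ k = 1 := congrArg Subtype.val hk
      exact ⟨k, Subtype.ext (Subtype.ext hk')⟩
    have h2 : Group.IsNilpotent φ.ker := h1.isNilpotent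
    infer_instance
  exact Group.isSolvable_of_ker_le_range φ.ker.subtype φ (by rw [range_subtype])

/-- a component is not centralised by `t` -/
theorem not_le [Finite X] (h : Hyp z t a Q) {M : Subgroup X} (hM : IsQuasisimple M)
    (hMt : ∀ x ∈ M, x * t = t * x) : False := by
  apply quasisimple_not_isSolvable hM
  have h1 : M ≤ centralizer ({t} : Set X) := fun x hx => mem_centralizer_singleton_iff.2 (hMt x hx)
  have := h.sol
  exact Group.isSolvable_of_isSolvable_injective (f := inclusion h1) (inclusion_injective h1)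

/-- `t` normalises every component -/
theorem cj_t [Finite X] (h : Hyp z t a Q) {M : Subgroup X} (hM : IsComponent M) : cj t M = M := by
  by_contra hne
  obtain ⟨D, hD1, -, -, hD3, -⟩ := Cfsg.Agent.Cit.Comp.exists_diag hM h.tt hne
  exact h.not_le hD3 fun x hx => mem_centralizer_singleton_iff.1 (hD1 hx)

/-- a component with an element of `Y (Q - ⟨z⟩)` contains `Q` -/
theorem claim (h : Hyp z t a Q) {M : Subgroup X} (hM : IsComponent M) {s r : X} (hs : s ∈ M)
    (hr : r ∈ Q) (hy : In t Q (s * r)) (hr1 : r ≠ 1) (hrz : r ≠ z) : Q ≤ M := by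
  set y := s * r with hyd
  have hsy : s = y * r⁻¹ := by rw [hyd, mul_inv_cancel_right]
  set r' := a * r * a⁻¹ with hr'
  have hr'Q : r' ∈ Q := h.s.aQ r hr
  have hrr' : r * r' ≠ r' * r := h.s.act r hr hr1 hrz
  have cya : Commute y a := h.YJ y hy a h.s.a_t h.ao
  have cyr : Commute y r := hy.2 r hr
  have cyr' : Commute y r' := hy.2 r' hr'Q
  have e1 : a * s * a⁻¹ = y * r'⁻¹ := by
    calc a * s * a⁻¹ = (a * y) * r⁻¹ * a⁻¹ := by rw [hsy]; group
      _ = (y * a) * r⁻¹ * a⁻¹ := by rw [cya.eq]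
      _ = y * r'⁻¹ := by rw [hr']; group
  have hne : s * (a * s * a⁻¹) ≠ (a * s * a⁻¹) * s := by
    intro e
    apply hrr'
    rw [e1, hsy] at e
    have h1 : y * r⁻¹ * (y * r'⁻¹) = y * y * (r' * r)⁻¹ := by
      calc y * r⁻¹ * (y * r'⁻¹) = y * (r⁻¹ * y) * r'⁻¹ := by group
        _ = y * (y * r⁻¹) * r'⁻¹ := by rw [cyr.inv_right.eq]
        _ = y * y * (r' * r)⁻¹ := by group
    have h2 : y * r'⁻¹ * (y * r⁻¹) = y * y * (r * r')⁻¹ := by
      calc y * r'⁻¹ * (y * r⁻¹) = y * (r'⁻¹ * y) * r⁻¹ := by group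
        _ = y * (y * r'⁻¹) * r⁻¹ := by rw [cyr'.inv_right.eq]
        _ = y * y * (r * r')⁻¹ := by group
    rw [h1, h2] at e
    exact (inv_injective (mul_left_cancel e)).symm
  have hcj : cj a M = M := by
    by_contra hcj
    exact hne (Cfsg.Agent.Cit.Comp.comm_of_ne hM (Cfsg.Agent.Cit.Comp.isComponent_cj hM a) (fun e => hcj e.symm)
      hs (conj_mem_cj hs))
  have hs' : a * s * a⁻¹ ∈ M := by
    have := conj_mem_cj (g := a) hs
    rwa [hcj] at this
  have hp : s⁻¹ * (a * s * a⁻¹) = r * r'⁻¹ := by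
    rw [e1, hsy]; group
  have hpM : r * r'⁻¹ ∈ M := by rw [← hp]; exact M.mul_mem (M.inv_mem hs) hs'
  have hpM' : a * (r * r'⁻¹) * a⁻¹ ∈ M := by
    have := conj_mem_cj (g := a) hpM
    rwa [hcj] at this
  refine h.s.gen h.zc h.zz h.z1 (Q.mul_mem hr (Q.inv_mem hr'Q)) ?_ ?_ hpM hpM'
  · intro e
    apply hrr'
    rw [mul_inv_eq_one] at e
    rw [← e]
  · intro e
    apply hrr'
    rw [mul_inv_eq_iff_eq_mul] at e
    have c1 : Commute (z * r') r' := (show Commute r' z from h.zc r').symm.mul_left (Commute.refl r')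
    rw [← e] at c1
    exact c1.eq

/-- `O(C_X(t)) = 1` -/
theorem core_centralizer [Finite X] (h : Hyp z t a Q) : pPrimeCore 2 ↥(centralizer ({t} : Set X)) = ⊥ := by
  set C := centralizer ({t} : Set X) with hC
  rw [eq_bot_iff]
  intro n hn
  have hcop := Cfsg.Agent.Lib.Cores.pPrimeCore_coprime (G := C) 2
  have hodd : ∀ m ∈ pPrimeCore 2 C, Odd (orderOf (m : X)) := by
    intro m hm
    have h2 : orderOf m ∣ Nat.card (pPrimeCore 2 C) := by
      rw [← Subgroup.orderOf_mk m hm]
      exact orderOf_dvd_natCard _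
    have h3 : Nat.Coprime 2 (orderOf m) := Nat.Coprime.coprime_dvd_right h2 hcop.symm
    rw [Subgroup.orderOf_coe]
    exact Nat.coprime_two_left.1 h3
  have hnt : ∀ m : C, (m : X) * t = t * m := fun m => mem_centralizer_singleton_iff.1 m.2
  have hN := Cfsg.Agent.Lib.Cores.pPrimeCore_normal (G := C) 2
  have key : ∀ r ∈ Q, (n : X) * r = r * n := by
    intro r hr
    have hrC : r ∈ C := mem_centralizer_singleton_iff.2 (h.s.ct r hr)
    have h1 : n * ⟨r, hrC⟩ * n⁻¹ * (⟨r, hrC⟩ : C)⁻¹ ∈ pPrimeCore 2 C := by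
      have h2 : (⟨r, hrC⟩ : C) * n⁻¹ * (⟨r, hrC⟩ : C)⁻¹ ∈ pPrimeCore 2 C := hN.conj_mem _ (inv_mem hn) _
      have h3 := mul_mem hn h2
      have e3 : n * ⟨r, hrC⟩ * n⁻¹ * (⟨r, hrC⟩ : C)⁻¹ = n * ((⟨r, hrC⟩ : C) * n⁻¹ * (⟨r, hrC⟩ : C)⁻¹) := by group
      rw [e3]; exact h3
    have h2 := hodd _ h1
    have h3 : (n : X) * r * (n : X)⁻¹ * r⁻¹ ∈ Q := Q.mul_mem (h.nQ n (hnt n) r hr) (Q.inv_mem hr)
    have h4 : (n : X) * r * (n : X)⁻¹ * r⁻¹ = 1 := by
      apply eq_one_of_odd _ h2
      exact h.s.pQ.to_le (zpowers_le.2 h3)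
    rwa [mul_inv_eq_one, mul_inv_eq_iff_eq_mul] at h4
  rw [mem_bot]
  apply Subtype.ext
  exact eq_one_of_odd (h.Y2 _ ⟨hnt n, key⟩) (hodd n hn)

/-- a component with `Q ≰ M`: `C_M(t) ≤ Y` -/
theorem dich [Finite X] (h : Hyp z t a Q) {M : Subgroup X} (hM : IsComponent M) (h1 : ¬ Q ≤ M)
    {m : X} (hm : m ∈ M) (hmt : m * t = t * m) : In t Q m := by
  have : Fact (Nat.Prime 2) := ⟨Nat.prime_two⟩
  have hsol := h.sol
  set C := centralizer ({t} : Set X) with hC
  set S : Subgroup C := M.subgroupOf C with hS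
  have hSn : S.IsSubnormal := hM.1.subgroupOf
  have hct : ∀ m : C, (m : X) * t = t * m := fun m => mem_centralizer_singleton_iff.1 m.2
  -- the core of `S`
  have hcore : ∀ s : S, s ∈ pCore 2 S → In t Q ((s : C) : X) := by
    intro s hs
    have e := Cfsg.Agent.SignalizersComponents.CompBasic.map_subtype_pCore_of_subnormal 2 hSn
    have h3 : (s : C) ∈ S ⊓ pCore 2 C := by rw [← e]; exact ⟨s, hs, rfl⟩
    have hN := Cfsg.Agent.Lib.Cores.pCore_normal (G := C) 2
    obtain ⟨r, hr, hy⟩ := h.rad (N := (pCore 2 C).map C.subtype) (by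
        rintro _ ⟨n, -, rfl⟩; exact hct n) ((Cfsg.Agent.Lib.Cores.pCore_isPGroup 2).map _) (by
        rintro g hg _ ⟨n, hn, rfl⟩
        exact ⟨⟨g, mem_centralizer_singleton_iff.2 hg⟩ * n * ⟨g, mem_centralizer_singleton_iff.2 hg⟩⁻¹,
          hN.conj_mem n hn _, rfl⟩) ((s : C) : X) ⟨s, h3.2, rfl⟩
    have hsM : ((s : C) : X) ∈ M := mem_subgroupOf.1 s.2
    have hr' : r = 1 ∨ r = z := by
      by_contra hcon
      push Not at hcon
      exact h1 (h.claim hM hsM hr hy hcon.1 hcon.2)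
    have hsy : ((s : C) : X) = ((s : C) : X) * r * r⁻¹ := by rw [mul_inv_cancel_right]
    refine ⟨hct s, fun q hq => ?_⟩
    rcases hr' with e1 | e1
    · have := hy.2 q hq
      rwa [e1, mul_one] at this
    · have c1 : Commute (((s : C) : X) * r) q := hy.2 q hq
      have c2 : Commute r⁻¹ q := by rw [e1]; exact (show Commute q z from h.zc q).symm.inv_left
      rw [hsy]
      exact (c1.mul_left c2).eq
  have hOS : pPrimeCore 2 S = ⊥ := by
    have e := Cfsg.Agent.SignalizersComponents.CompBasic.map_subtype_pPrimeCore_of_subnormal 2 hSn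
    rw [h.core_centralizer, inf_bot_eq] at e
    exact (map_eq_bot_iff_of_injective _ S.subtype_injective).1 e
  have hSsol : Group.IsSolvable S := inferInstance
  have hcen : centralizer (pCore 2 S : Set S) ≤ pCore 2 S :=
    Cfsg.Agent.OddOrderLocal.RankTwoSolvable.centralizer_pCore_le hOS
  -- no elements of odd order
  have hodd : ∀ s : S, Odd (orderOf s) → s = 1 := by
    intro s hs
    have h2 : s ∈ pCore 2 S := by
      apply hcen
      rw [mem_centralizer_iff]
      intro u hu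
      apply Subtype.ext
      apply Subtype.ext
      show ((u : C) : X) * ((s : C) : X) = ((s : C) : X) * ((u : C) : X)
      exact h.YJ _ (hcore u hu) _ (hct s) (by rwa [Subgroup.orderOf_coe, Subgroup.orderOf_coe])
    exact eq_one_of_odd ((Cfsg.Agent.Lib.Cores.pCore_isPGroup 2).to_le (zpowers_le.2 h2)) hs
  have hSp : IsPGroup 2 S := by
    intro s
    obtain ⟨k, m, hm, hs⟩ := Nat.exists_eq_two_pow_mul_odd (n := orderOf s) (orderOf_pos s).ne'
    refine ⟨k, hodd _ ?_⟩
    have h2 : orderOf (s ^ 2 ^ k) = m := by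
      rw [orderOf_pow_of_dvd (by positivity) (Dvd.intro _ hs.symm), hs]
      exact Nat.mul_div_cancel_left _ (by positivity)
    rw [h2]; exact hm
  have hmC : m ∈ C := mem_centralizer_singleton_iff.2 hmt
  have h4 : (⊤ : Subgroup S) ≤ pCore 2 S :=
    Cfsg.Agent.Lib.Cores.le_pCore (by infer_instance) (hSp.to_subgroup ⊤)
  exact hcore ⟨⟨m, hmC⟩, mem_subgroupOf.2 hm⟩ (h4 (mem_top _))

/-- **`z` lies in every component** -/
theorem z_mem [Finite X] (h : Hyp z t a Q) {M : Subgroup X} (hM : IsComponent M) : z ∈ M := by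
  have : Fact (Nat.Prime 2) := ⟨Nat.prime_two⟩
  by_cases hQ : Q ≤ M
  · exact hQ h.s.zQ
  have hcj := h.cj_t hM
  have htm : ∀ x ∈ M, t * x * t⁻¹ ∈ M := fun x hx => by
    have := conj_mem_cj (g := t) hx
    rwa [hcj] at this
  -- a nontrivial element of `C_M(t)`
  obtain ⟨m, hm, hmt, hm1⟩ : ∃ m ∈ M, m * t = t * m ∧ m ≠ 1 := by
    by_contra hcon
    push Not at hcon
    let φ : M →* M :=
      { toFun := fun x => ⟨t * x * t⁻¹, htm x x.2⟩
        map_one' := Subtype.ext (by show t * 1 * t⁻¹ = 1; group)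
        map_mul' := fun x y => Subtype.ext (by
          show t * (x * y) * t⁻¹ = t * x * t⁻¹ * (t * y * t⁻¹); group) }
    have hφ : MonoidHom.FixedPointFree φ := by
      intro x hx
      have h1 : t * x * t⁻¹ = x := congrArg Subtype.val hx
      exact Subtype.ext (hcon x x.2 (mul_inv_eq_iff_eq_mul.1 h1).symm)
    have h2 : Function.Involutive φ := by
      intro x
      apply Subtype.ext
      show t * (t * x * t⁻¹) * t⁻¹ = x
      calc t * (t * x * t⁻¹) * t⁻¹ = (t * t) * x * (t * t)⁻¹ := by group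
        _ = x := by rw [h.tt]; group
    have h3 := hφ.commute_all_of_involutive h2
    apply quasisimple_not_isSolvable hM.2
    exact Group.isSolvable_of_comm fun x y => h3 x y
  have hin := h.dich hM hQ hm hmt
  -- an involution of `C_M(t)`
  obtain ⟨k, hk⟩ := h.Y2 m hin ⟨m, mem_zpowers m⟩
  have hk' : m ^ 2 ^ k = 1 := congrArg Subtype.val hk
  have h2 : 2 ∣ orderOf m := by
    have h3 : orderOf m ∣ 2 ^ k := orderOf_dvd_of_pow_eq_one hk'
    obtain ⟨j, -, hj⟩ := (Nat.dvd_prime_pow Nat.prime_two).1 h3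
    rw [hj]
    apply dvd_pow_self
    rintro rfl
    rw [pow_zero, orderOf_eq_one_iff] at hj
    exact hm1 hj
  obtain ⟨u, hu⟩ : ∃ u ∈ zpowers m, u * u = 1 ∧ u ≠ 1 := by
    refine ⟨m ^ (orderOf m / 2), pow_mem (mem_zpowers m) _, ?_, ?_⟩
    · rw [← pow_add, ← two_mul, Nat.mul_div_cancel' h2, pow_orderOf_eq_one]
    · intro e
      have h3 := orderOf_dvd_of_pow_eq_one e
      have h4 := orderOf_pos m
      have h5 := Nat.le_of_dvd (Nat.div_pos (Nat.le_of_dvd h4 h2) two_pos) h3
      omega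
  have huM : u ∈ M := (zpowers_le.2 hm) hu.1
  have huin : In t Q u := by
    obtain ⟨j, rfl⟩ := mem_zpowers_iff.1 hu.1
    exact ⟨(show Commute m t from hin.1).zpow_left j, fun q hq => (show Commute m q from hin.2 q hq).zpow_left j⟩
  obtain ⟨s, hs⟩ := h.sw
  have hs2 : s * (t * z) * s⁻¹ = t := by
    calc s * (t * z) * s⁻¹ = (s * t * s⁻¹) * (s * z * s⁻¹) := by group
      _ = t * z * z := by rw [hs, h.zc s, mul_inv_cancel_right]
      _ = t := by rw [mul_assoc, h.zz, mul_one]
  have hMs := Cfsg.Agent.Cit.Comp.isComponent_cj hM s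
  rcases h.Yom u huin hu.2.1 with e | e | e | e
  · exact absurd e hu.2.2
  · rw [← e]; exact huM
  · rw [e] at huM
    by_cases hcs : cj s M = M
    · have h5 : t * z ∈ M := by
        have := conj_mem_cj (g := s) huM
        rwa [hcs, hs] at this
      have := M.mul_mem (M.inv_mem huM) h5
      rwa [inv_mul_cancel_left] at this
    · exfalso
      apply h.not_le hM.2
      intro x hx
      have h6 : x * (t * z) = (t * z) * x := by
        refine Cfsg.Agent.Cit.Comp.comm_of_ne hM hMs (fun e => hcs e.symm) hx ?_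
        have := conj_mem_cj (g := s) huM
        rwa [hs] at this
      have c1 : Commute x (t * z) := h6
      have c2 : Commute x z := h.zc x
      have c3 := c1.mul_right c2
      rw [mul_assoc, h.zz, mul_one] at c3
      exact c3.eq
  · rw [e] at huM
    by_cases hcs : cj s M = M
    · have h5 : t ∈ M := by
        have := conj_mem_cj (g := s) huM
        rwa [hcs, hs2] at this
      have := M.mul_mem (M.inv_mem h5) huM
      rwa [inv_mul_cancel_left] at this
    · exfalso
      apply h.not_le hM.2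
      intro x hx
      refine Cfsg.Agent.Cit.Comp.comm_of_ne hM hMs (fun e => hcs e.symm) hx ?_
      have := conj_mem_cj (g := s) huM
      rwa [hs2] at this

end Hyp

end Cfsg.Agent.OddHalf.D6.RThree
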