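import Cfsg.Agent.OddHalf.Front.CycT

/-!
# ODD half, D6, `L₃(3)`, `U₃(3)`: the front end, after helper971's `Front.CycT` (helper783)

As `Front.CycT` with `P1` only for involutions (`Z(S_K)` cyclic), any `|Q|`.
-/

set_option autoImplicit false

namespace Cfsg.Agent.OddHalf.D6.RThree.CycW

open Subgroup Cfsg.Agent.OddHalf.Front Cfsg.Agent.OddHalf.Front.FE
open Cfsg.Agent.OddHalf.Front.Cyclic hiding Facts
open Cfsg.Agent.OddHalf.Front.CycT (exists_index_two mem_C mem_sup_comm Q2_le sq_mem_Q2 Q2_or q_notMem_Q2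
  q_mem_of conjQ2 mem_M2)

universe u

variable {G : Type u} [Group G]

/-- the position of the nodes with `Z(S_K)` cyclic -/
structure Facts (K : Subgroup G) (t q z : G) (T : Subgroup G) : Prop extends Start K t q where
  pT : IsPGroup 2 ↥T
  tc : ∀ x ∈ T, x * t = t * x
  max : ∀ P : Subgroup G, IsPGroup 2 ↥P → T ≤ P → (∀ x ∈ P, x * t = t * x) → P ≤ T
  z1 : z ≠ 1
  zT : z ∈ T
  zK : z ∈ K
  zS : ∀ x ∈ T, x ∈ K → x * z = z * x
  zz : z * z = 1
  /-- `z` is the only involution of `Z(S)` -/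
  P1 : ∀ y ∈ T, y ∈ K → y * y = 1 → (∀ x ∈ T, x ∈ K → x * y = y * x) → y = 1 ∨ y = z
  /-- no outer 2-element centralizes `S` -/
  T1s : ∀ y : G, y * t = t * y → IsPGroup 2 ↥(zpowers y) → (∀ x ∈ T, x ∈ K → x * y = y * x) →
    y ∈ zpowers q ⊔ K
  /-- `|T : T ∩ QK| ≤ 2` -/
  idx : ∀ a ∈ T, ∀ b ∈ T, a ∉ zpowers q ⊔ K → b ∉ zpowers q ⊔ K → a * b⁻¹ ∈ zpowers q ⊔ K
  /-- `z` is isolated in `⟨t, z⟩` -/
  iso : ∀ g : G, (g * t * g⁻¹ = t ∨ g * t * g⁻¹ = z ∨ g * t * g⁻¹ = t * z) →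
    (g * z * g⁻¹ = t ∨ g * z * g⁻¹ = z ∨ g * z * g⁻¹ = t * z) → g * z * g⁻¹ = z

namespace Facts

variable {K : Subgroup G} {t q z : G} {T : Subgroup G}

/-- `T` as a Sylow subgroup of `C(t)` -/
theorem exists_sylow (F : Facts K t q z T) :
    ∃ TS : Sylow 2 ↥(centralizer ({t} : Set G)),
      (TS : Subgroup ↥(centralizer ({t} : Set G))) = T.subgroupOf (centralizer ({t} : Set G)) := by
  set C : Subgroup G := centralizer ({t} : Set G) with hC
  have hTC : T ≤ C := fun x hx => mem_centralizer_singleton_iff.2 (F.tc x hx)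
  refine ⟨{ toSubgroup := T.subgroupOf C
            isPGroup' := F.pT.comap_of_injective C.subtype C.subtype_injective
            is_maximal' := ?_ }, rfl⟩
  intro R hR hle
  apply le_antisymm _ hle
  have h1 : R.map C.subtype ≤ T := by
    apply F.max
    · exact hR.map C.subtype
    · intro y hy
      exact ⟨⟨y, hTC hy⟩, hle (by exact hy), rfl⟩
    · rintro _ ⟨y, -, rfl⟩
      exact mem_centralizer_singleton_iff.1 y.2
  intro y hy
  exact h1 ⟨y, hy, rfl⟩

theorem zpowers_le_T (F : Facts K t q z T) : zpowers q ≤ T := by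
  have hle : T ≤ normalizer ((zpowers q : Subgroup G) : Set G) := by
    intro x hx
    have hxt := F.tc x hx
    rw [mem_normalizer_iff]
    intro y
    constructor
    · exact fun hy => conjQ F.toStart0 hxt hy
    · intro hy
      have h1 := conjQ F.toStart0 (inv_comm hxt) hy
      have h2 : x⁻¹ * (x * y * x⁻¹) * x⁻¹⁻¹ = y := by group
      rwa [h2] at h1
  have h1 : IsPGroup 2 ↥(T ⊔ zpowers q : Subgroup G) := F.pT.to_sup_of_normal_right' F.pQ hle
  have h2 : ∀ x ∈ T ⊔ zpowers q, x * t = t * x := by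
    have : T ⊔ zpowers q ≤ centralizer ({t} : Set G) := by
      rw [sup_le_iff]
      exact ⟨fun x hx => mem_centralizer_singleton_iff.2 (F.tc x hx),
        fun x hx => mem_centralizer_singleton_iff.2 (F.Qt x hx)⟩
    intro x hx
    exact mem_centralizer_singleton_iff.1 (this hx)
  exact le_sup_right.trans (F.max _ h1 le_sup_left h2)

theorem tT (F : Facts K t q z T) : t ∈ T := F.zpowers_le_T F.tQ

/-- `z` is central in `T` -/
theorem zc (F : Facts K t q z T) : ∀ x ∈ T, x * z = z * x := by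
  intro x hx
  have hxt := F.tc x hx
  have h1 : x * z * x⁻¹ = 1 ∨ x * z * x⁻¹ = z := by
    apply F.P1
    · exact T.mul_mem (T.mul_mem hx F.zT) (T.inv_mem hx)
    · exact conjK F.toStart0 hxt F.zK
    · have : x * z * x⁻¹ * (x * z * x⁻¹) = x * (z * z) * x⁻¹ := by group
      rw [this, F.zz]; group
    · intro y hy hyK
      have h2 := F.zS (x⁻¹ * y * x) (T.mul_mem (T.mul_mem (T.inv_mem hx) hy) hx)
        (conjK' F.toStart0 hxt hyK)
      calc y * (x * z * x⁻¹) = x * (x⁻¹ * y * x * z) * x⁻¹ := by group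
        _ = x * (z * (x⁻¹ * y * x)) * x⁻¹ := by rw [h2]
        _ = x * z * x⁻¹ * y := by group
  rcases h1 with h1 | h1
  · exfalso
    apply F.z1
    have : z = x⁻¹ * (x * z * x⁻¹) * x := by group
    rw [this, h1]; group
  · rwa [mul_inv_eq_iff_eq_mul] at h1

theorem z_ne_t (F : Facts K t q z T) : z ≠ t := by
  rintro rfl
  exact F.t1 (KQ F.toStart F.zK F.tQ)

/-- `S = T ∩ K` is a Sylow subgroup of `K` -/
theorem inf_max [Finite G] (F : Facts K t q z T) {P : Subgroup G} (hP : IsPGroup 2 ↥P) (hPK : P ≤ K)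
    (hSP : T ⊓ K ≤ P) : P ≤ T := by
  set C : Subgroup G := centralizer ({t} : Set G) with hC
  obtain ⟨TS, hTS⟩ : ∃ TS : Sylow 2 ↥C, (TS : Subgroup ↥C) = T.subgroupOf C := F.exists_sylow
  have hTC : T ≤ C := fun x hx => mem_centralizer_singleton_iff.2 (F.tc x hx)
  have hKC : K ≤ C := fun x hx => mem_centralizer_singleton_iff.2 (F.Kt x hx)
  have hn : (K.subgroupOf C).Normal := by
    refine ⟨fun x hx g => ?_⟩
    rw [mem_subgroupOf] at hx ⊢
    exact conjK F.toStart0 (mem_centralizer_singleton_iff.1 g.2) hx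
  have h1 := Cfsg.Agent.Lib.SylowNormalInf.not_dvd_relIndex TS (K.subgroupOf C)
  rw [hTS, relIndex_subgroupOf hKC, ← inf_relIndex_right] at h1
  have h2 := relIndex_mul_relIndex (T ⊓ K) P K hSP hPK
  have h3 : ¬ 2 ∣ (T ⊓ K).relIndex P := fun h => h1 (h2 ▸ h.mul_right _)
  have h4 : (T ⊓ K).relIndex P = 1 := by
    obtain ⟨n, hn⟩ := IsPGroup.iff_card.1 hP
    have h5 : (T ⊓ K).relIndex P ∣ 2 ^ n := by
      rw [← hn]
      exact relIndex_dvd_card _ _
    obtain ⟨m, -, hm⟩ := (Nat.dvd_prime_pow Nat.prime_two).1 h5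
    rw [hm]
    rw [hm] at h3
    rcases Nat.eq_zero_or_pos m with h | h
    · rw [h, pow_zero]
    · exact absurd (dvd_pow_self 2 h.ne') h3
  exact (relIndex_eq_one.1 h4).trans inf_le_left

/-- an involution of `K` that centralizes `S` is `1` or `z` -/
theorem cent_S_K [Finite G] (F : Facts K t q z T) {k : G} (hk : k ∈ K) (hkk : k * k = 1)
    (hc : ∀ x ∈ T, x ∈ K → x * k = k * x) : k = 1 ∨ k = z := by
  have hp : IsPGroup 2 ↥(zpowers k) := TR.Frame.isPGroup_zpowers hkk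
  have hkn : zpowers k ≤ normalizer ((T ⊓ K : Subgroup G) : Set G) := by
    rw [zpowers_le, mem_normalizer_iff]
    intro y
    constructor
    · rintro ⟨hy, hyK⟩
      have h1 : k * y * k⁻¹ = y := by rw [← hc y hy hyK]; group
      rw [h1]; exact ⟨hy, hyK⟩
    · rintro ⟨hy, hyK⟩
      have h1 : k * y * k⁻¹ * k = k * (k * y * k⁻¹) := hc _ hy hyK
      have h2 : y = k * y * k⁻¹ := by
        have h3 : k * y = k * (k * y * k⁻¹) := by rw [← h1]; group
        exact mul_left_cancel h3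
      rw [h2]; exact ⟨hy, hyK⟩
  have hSp : IsPGroup 2 ↥(T ⊓ K : Subgroup G) := F.pT.to_le inf_le_left
  have h1 : IsPGroup 2 ↥(zpowers k ⊔ (T ⊓ K) : Subgroup G) := hp.to_sup_of_normal_right' hSp hkn
  have h2 : zpowers k ⊔ (T ⊓ K) ≤ K := by
    rw [sup_le_iff, zpowers_le]
    exact ⟨hk, inf_le_right⟩
  have h3 := F.inf_max h1 h2 le_sup_right
  have h4 : k ∈ T := h3 ((le_sup_left : zpowers k ≤ _) (mem_zpowers k))
  exact F.P1 k h4 hk hkk hc

/-- an involution of `QK` that centralizes `S` -/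
theorem cent_S_M [Finite G] (F : Facts K t q z T) {y : G} (hy : y ∈ zpowers q ⊔ K) (hyy : y * y = 1)
    (hc : ∀ x ∈ T, x ∈ K → x * y = y * x) : y = 1 ∨ y = t ∨ y = z ∨ y = t * z := by
  obtain ⟨a, ha, k, hk, rfl⟩ := (mem_M F.toStart0).1 hy
  have h1 : (a * a) * (k * k) = 1 * 1 := by
    rw [mul_one]
    calc a * a * (k * k) = a * (a * k) * k := by group
      _ = a * (k * a) * k := by rw [F.QK a ha k hk]
      _ = a * k * (a * k) := by group
      _ = 1 := hyy
  obtain ⟨h2, h3⟩ := M_unique F.toStart (mul_mem ha ha) (one_mem _) (mul_mem hk hk) (one_mem _) h1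
  have h4 : k = 1 ∨ k = z := by
    apply F.cent_S_K hk h3
    intro x hx hxK
    have h5 := hc x hx hxK
    have h6 := F.QK a ha x hxK
    have h7 : a * (x * k) = a * (k * x) := by
      calc a * (x * k) = (a * x) * k := by group
        _ = x * a * k := by rw [h6]
        _ = x * (a * k) := by group
        _ = a * k * x := h5
        _ = a * (k * x) := by group
    exact mul_left_cancel h7
  have h5 : a = 1 ∨ a = t := by
    by_cases h : a = 1
    · exact Or.inl h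
    · exact Or.inr (F.uniq ha h2 h)
  rcases h4 with rfl | rfl <;> rcases h5 with rfl | rfl
  · left; group
  · right; left; group
  · right; right; left; group
  · right; right; right; rfl

theorem cent_S [Finite G] (F : Facts K t q z T) {y : G} (hyt : y * t = t * y) (hyy : y * y = 1)
    (hc : ∀ x ∈ T, x ∈ K → x * y = y * x) : y = 1 ∨ y = t ∨ y = z ∨ y = t * z :=
  F.cent_S_M (F.T1s y hyt (TR.Frame.isPGroup_zpowers hyy) hc) hyy hc

/-- **the frame** -/
theorem frame [Finite G] (F : Facts K t q z T) : TR.Frame t z T where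
  tt := F.tt
  zz := F.zz
  t1 := F.t1
  z1 := F.z1
  ne := F.z_ne_t
  pT := F.pT
  tT := F.tT
  tc := F.tc
  zT := F.zT
  zc := F.zc
  max := F.max
  om := by
    intro y hy hc hyy
    exact F.cent_S (F.tc y hy) hyy fun x hx _ => hc x hx
  iso := F.iso

end Facts

variable {K : Subgroup G} {t q z : G} {T : Subgroup G}

/-- if `T` is a Sylow subgroup of `G` then `N(T)` centralizes `t` -/
theorem no_swap [Finite G] (F : Facts K t q z T) (S : Sylow 2 G) (hST : (S : Subgroup G) = T) {g : G}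
    (hgN : g ∈ normalizer (T : Set G)) : g * t * g⁻¹ = t := by
  have Fr := F.frame
  have hmem : ∀ y, y ∈ (S : Subgroup G) → y ∈ T := by
    intro y hy
    rwa [hST] at hy
  obtain ⟨hz, h1 | h1⟩ := Fr.act hgN
  · exact h1
  · exfalso
    obtain ⟨k, m, hm, hk⟩ := Nat.exists_eq_two_pow_mul_odd (orderOf_pos g).ne'
    set x := g ^ m with hx
    have hxp : IsPGroup 2 (zpowers x) := by
      apply IsPGroup.of_card (n := k)
      rw [Nat.card_zpowers, hx, orderOf_pow, hk, Nat.gcd_mul_left_left,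
        Nat.mul_div_cancel _ hm.pos]
    have hxN : x ∈ normalizer (T : Set G) := pow_mem hgN m
    have hxT : x ∈ T := by
      apply hmem
      have h2 : IsPGroup 2 ((zpowers x ⊔ T : Subgroup G)) :=
        hxp.to_sup_of_normal_right' F.pT (by rw [zpowers_le]; exact hxN)
      have h3 := S.is_maximal' h2 (by rw [hST]; exact le_sup_right)
      show x ∈ (S : Subgroup G)
      rw [← h3]
      exact (le_sup_left : zpowers x ≤ _) (mem_zpowers x)
    have hxt := F.tc x hxT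
    have hg2t : Commute (g * g) t := by
      show g * g * t = t * (g * g)
      rw [← mul_inv_eq_iff_eq_mul]
      calc g * g * t * (g * g)⁻¹ = g * (g * t * g⁻¹) * g⁻¹ := by group
        _ = g * (t * z) * g⁻¹ := by rw [h1]
        _ = (g * t * g⁻¹) * (g * z * g⁻¹) := by group
        _ = t := by rw [h1, hz, mul_assoc, F.zz, mul_one]
    obtain ⟨j, hj⟩ := hm
    have hx' : x = (g * g) ^ j * g := by
      rw [hx, hj, pow_succ, pow_mul, pow_two]
    have h4 : Commute ((g * g) ^ j) t := hg2t.pow_left j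
    have h5 : Commute ((g * g) ^ j * g) t := by
      rw [← hx']; exact hxt
    have h6 : Commute g t := by
      have := h4.inv_left.mul_left h5
      rwa [inv_mul_cancel_left] at this
    have h7 : g * t * g⁻¹ = t := by rw [h6.eq]; group
    rw [h7] at h1
    exact F.z1 (mul_eq_left.1 h1.symm)

/-- if `T` is a Sylow subgroup of `G`, then `t` is the only conjugate of `t` commuting with `T` -/
theorem burn [Finite G] (F : Facts K t q z T) (S : Sylow 2 G) (hST : (S : Subgroup G) = T) {g : G}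
    (hg : ∀ x ∈ T, x * (g * t * g⁻¹) = g * t * g⁻¹ * x) : g * t * g⁻¹ = t := by
  have hmem : ∀ y, y ∈ (S : Subgroup G) → y ∈ T := by
    intro y hy
    rwa [hST] at hy
  have h1 : t ∈ centralizer ((S : Subgroup G) : Set G) :=
    mem_centralizer_iff.2 fun x hx => F.tc x (hmem x hx)
  have h2 : g⁻¹⁻¹ * t * g⁻¹ ∈ centralizer ((S : Subgroup G) : Set G) := by
    rw [inv_inv]
    exact mem_centralizer_iff.2 fun x hx => hg x (hmem x hx)
  obtain ⟨n, hn, hnt⟩ := S.conj_eq_normalizer_conj_of_mem_centralizer t g⁻¹ h1 h2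
  rw [inv_inv] at hnt
  rw [hnt]
  have hn' : n⁻¹ ∈ normalizer (T : Set G) := by
    have h3 : n⁻¹ ∈ normalizer ((S : Subgroup G) : Set G) := inv_mem hn
    rwa [hST] at h3
  have h4 := no_swap F S hST hn'
  rwa [inv_inv] at h4

/-- in case B an element of `T` commuting with `q` lies in `QK` -/
theorem mem_of_comm (F : Facts K t q z T) (hB : (⟨t, F.tT⟩ : ↥T) ∈ commutator ↥T) {c : G}
    (hc : c ∈ T) (hcq : c * q = q * c) : c ∈ zpowers q ⊔ K := by
  by_contra hcM
  -- `q` is central in `T`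
  have hq : ∀ x ∈ T, x * q = q * x := by
    intro x hx
    by_cases hxM : x ∈ zpowers q ⊔ K
    · exact M_comm_q F.toStart0 hxM
    · have h1 := M_comm_q F.toStart0 (F.idx x hx c hc hxM hcM)
      have h2 := mul_comm' h1 hcq
      rwa [inv_mul_cancel_right] at h2
  have hQ : ∀ a ∈ zpowers q, ∀ x ∈ T, x * a = a * x := by
    intro a ha x hx
    obtain ⟨m, rfl⟩ := mem_zpowers_iff.1 ha
    exact (show Commute x q from hq x hx).zpow_right m
  have hM : ∀ x ∈ T, x ∈ zpowers q ⊔ K → ∀ y ∈ T, x * y * x⁻¹ * y⁻¹ ∈ K := by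
    intro x hxT hx y hyT
    obtain ⟨a, ha, k, hk, rfl⟩ := (mem_M F.toStart0).1 hx
    have hkT : k ∈ T := by
      have : k = a⁻¹ * (a * k) := by group
      rw [this]
      exact mul_mem (inv_mem (F.zpowers_le_T ha)) hxT
    have h1 : a * k * y * (a * k)⁻¹ * y⁻¹ = k * (y * k⁻¹ * y⁻¹) := by
      have h2 : a⁻¹ * y⁻¹ = y⁻¹ * a⁻¹ := (hQ a⁻¹ (inv_mem ha) y⁻¹ (inv_mem hyT)).symm
      have h3 : k * y * k⁻¹ * y⁻¹ * a⁻¹ = a⁻¹ * (k * y * k⁻¹ * y⁻¹) := by
        apply hQ a⁻¹ (inv_mem ha)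
        exact mul_mem (mul_mem (mul_mem hkT hyT) (inv_mem hkT)) (inv_mem hyT)
      calc a * k * y * (a * k)⁻¹ * y⁻¹ = a * k * y * k⁻¹ * (a⁻¹ * y⁻¹) := by group
        _ = a * (k * y * k⁻¹ * y⁻¹ * a⁻¹) := by rw [h2]; group
        _ = a * (a⁻¹ * (k * y * k⁻¹ * y⁻¹)) := by rw [h3]
        _ = k * (y * k⁻¹ * y⁻¹) := by group
    rw [h1]
    exact mul_mem hk (conjK F.toStart0 (F.tc y hyT) (inv_mem hk))
  have hcomm : ∀ x ∈ T, ∀ y ∈ T, x * y * x⁻¹ * y⁻¹ ∈ K := by
    intro x hx y hy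
    by_cases hxM : x ∈ zpowers q ⊔ K
    · exact hM x hx hxM y hy
    by_cases hyM : y ∈ zpowers q ⊔ K
    · have h1 := inv_mem (hM y hy hyM x hx)
      have : (y * x * y⁻¹ * x⁻¹)⁻¹ = x * y * x⁻¹ * y⁻¹ := by group
      rwa [this] at h1
    · have h1 := hM _ (mul_mem hx (inv_mem hy)) (F.idx x hx y hy hxM hyM) y hy
      have : x * y⁻¹ * y * (x * y⁻¹)⁻¹ * y⁻¹ = x * y * x⁻¹ * y⁻¹ := by group
      rwa [this] at h1
  have hle : commutator ↥T ≤ K.subgroupOf T := by
    rw [commutator_def, commutator_le]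
    rintro ⟨x, hx⟩ - ⟨y, hy⟩ -
    rw [mem_subgroupOf]
    exact hcomm x hx y hy
  have h1 : t ∈ K := mem_subgroupOf.1 (hle hB)
  exact F.t1 (KQ F.toStart h1 F.tQ)

/-- commutators with elements of `QK` lie in `⟨q²⟩K` -/
theorem comm_M (F : Facts K t q z T) {c d : G} (hc : c ∈ zpowers q ⊔ K) (hd : d * t = t * d) :
    c * d * c⁻¹ * d⁻¹ ∈ zpowers (q ^ 2) ⊔ K := by
  obtain ⟨a, ha, k, hk, rfl⟩ := (mem_M F.toStart0).1 hc
  have h1 : a * k * d * (a * k)⁻¹ * d⁻¹ =
      (a * (d * a⁻¹ * d⁻¹)) * (k * (d * k⁻¹ * d⁻¹)) := by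
    have h2 : d * a⁻¹ * d⁻¹ ∈ zpowers q := conjQ F.toStart0 hd (inv_mem ha)
    have h3 : k * (d * k⁻¹ * d⁻¹) ∈ K := mul_mem hk (conjK F.toStart0 hd (inv_mem hk))
    have h4 := F.QK _ h2 _ h3
    have h5 : (a * k)⁻¹ = k⁻¹ * a⁻¹ := mul_inv_rev a k
    calc a * k * d * (a * k)⁻¹ * d⁻¹ = a * (k * (d * k⁻¹ * d⁻¹) * (d * a⁻¹ * d⁻¹)) := by
          rw [h5]; group
      _ = a * (d * a⁻¹ * d⁻¹ * (k * (d * k⁻¹ * d⁻¹))) := by rw [h4]
      _ = _ := by group
  rw [h1]
  refine (mem_M2 F.toStart0).2 ⟨_, ?_, _, mul_mem hk (conjK F.toStart0 hd (inv_mem hk)), rfl⟩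
  have h6 : d * a⁻¹ * d⁻¹ = (d * a * d⁻¹)⁻¹ := by group
  rw [h6]
  by_cases ha2 : a ∈ zpowers (q ^ 2)
  · exact mul_mem ha2 (inv_mem (conjQ2 F.toStart0 hd ha2))
  · have h7 : d * a * d⁻¹ ∉ zpowers (q ^ 2) := by
      intro h
      apply ha2
      have h8 := conjQ2 F.toStart0 (inv_comm hd) h
      have h9 : d⁻¹ * (d * a * d⁻¹) * d⁻¹⁻¹ = a := by group
      rwa [h9] at h8
    have h8 := (Q2_or ha).resolve_left ha2
    have h9 := (Q2_or (conjQ F.toStart0 hd ha)).resolve_left h7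
    have h10 : a * (d * a * d⁻¹)⁻¹ = a * q⁻¹ * (d * a * d⁻¹ * q⁻¹)⁻¹ := by group
    rw [h10]
    exact mul_mem h8 (inv_mem h9)

theorem comm_T (F : Facts K t q z T) {c d : G} (hc : c ∈ T) (hd : d ∈ T) :
    c * d * c⁻¹ * d⁻¹ ∈ zpowers (q ^ 2) ⊔ K := by
  by_cases hcM : c ∈ zpowers q ⊔ K
  · exact comm_M F hcM (F.tc d hd)
  by_cases hdM : d ∈ zpowers q ⊔ K
  · have h1 := inv_mem (comm_M F hdM (F.tc c hc))
    have : (d * c * d⁻¹ * c⁻¹)⁻¹ = c * d * c⁻¹ * d⁻¹ := by group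
    rwa [this] at h1
  · have h1 := comm_M F (F.idx c hc d hd hcM hdM) (F.tc d hd)
    have : c * d⁻¹ * d * (c * d⁻¹)⁻¹ * d⁻¹ = c * d * c⁻¹ * d⁻¹ := by group
    rwa [this] at h1

/-- squares of elements of `T` lie in `⟨q²⟩K` (case B) -/
theorem sq_T [Finite G] (F : Facts K t q z T) (hB : (⟨t, F.tT⟩ : ↥T) ∈ commutator ↥T) {c : G}
    (hcT : c ∈ T) : c * c ∈ zpowers (q ^ 2) ⊔ K := by
  have hc := F.tc c hcT
  by_cases hcM : c ∈ zpowers q ⊔ K
  · obtain ⟨a, ha, k, hk, rfl⟩ := (mem_M F.toStart0).1 hcM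
    refine (mem_M2 F.toStart0).2 ⟨a * a, sq_mem_Q2 ha, k * k, mul_mem hk hk, ?_⟩
    calc a * k * (a * k) = a * (k * a) * k := by group
      _ = a * (a * k) * k := by rw [F.QK a ha k hk]
      _ = a * a * (k * k) := by group
  · have hcM' : c⁻¹ ∉ zpowers q ⊔ K := fun h => hcM (inv_mem_iff.1 h)
    have h1 := F.idx c hcT c⁻¹ (inv_mem hcT) hcM hcM'
    rw [inv_inv] at h1
    obtain ⟨a, ha, k, hk, hak⟩ := (mem_M F.toStart0).1 h1
    have h2 : (c * a * c⁻¹) * (c * k * c⁻¹) = a * k := by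
      calc (c * a * c⁻¹) * (c * k * c⁻¹) = c * (a * k) * c⁻¹ := by group
        _ = c * (c * c) * c⁻¹ := by rw [hak]
        _ = a * k := by rw [← hak]; group
    obtain ⟨h3, -⟩ := M_unique F.toStart (conjQ F.toStart0 hc ha) ha (conjK F.toStart0 hc hk) hk h2
    rw [mul_inv_eq_iff_eq_mul] at h3
    have ha2 : a ∈ zpowers (q ^ 2) := by
      by_contra ha2
      have h4 := q_mem_of F.toStart0 ha ha2
      apply hcM
      apply mem_of_comm F hB hcT
      obtain ⟨m, hm⟩ := mem_zpowers_iff.1 h4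
      rw [← hm]
      exact (show Commute c a from h3).zpow_right m
    rw [hak]
    exact (mem_M2 F.toStart0).2 ⟨a, ha2, k, hk, rfl⟩

theorem q_notMem_M2 [Finite G] (F : Facts K t q z T) : q ∉ zpowers (q ^ 2) ⊔ K := by
  intro h
  obtain ⟨a, ha, k, hk, hak⟩ := (mem_M2 F.toStart0).1 h
  have h1 : q * 1 = a * k := by rw [mul_one]; exact hak
  obtain ⟨h2, -⟩ := M_unique F.toStart (mem_zpowers q) (Q2_le ha) (one_mem _) hk h1
  apply q_notMem_Q2 F.toStart0
  have h3 := ha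
  rwa [← h2] at h3

/-- the sign of `C(t)` with value `-1` at `q` (case B) -/
theorem exists_sign [Finite G] (F : Facts K t q z T) (hB : (⟨t, F.tT⟩ : ↥T) ∈ commutator ↥T)
    (hqC : q ∈ centralizer ({t} : Set G)) :
    ∃ φ : ↥(centralizer ({t} : Set G)) →* ℤˣ, φ ⟨q, hqC⟩ = -1 := by
  classical
  have hqT : q ∈ T := F.zpowers_le_T (mem_zpowers q)
  obtain ⟨N, hN, hqN, hle⟩ := exists_index_two (X := ↥T) (N0 := (zpowers (q ^ 2) ⊔ K).subgroupOf T)
    (q := ⟨q, hqT⟩)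
    (fun c => mem_subgroupOf.2 (sq_T F hB c.2))
    (fun c d => mem_subgroupOf.2 (comm_T F c.2 d.2))
    (fun h => q_notMem_M2 F (mem_subgroupOf.1 h))
  have hTC : T ≤ centralizer ({t} : Set G) := fun x hx => mem_centralizer_singleton_iff.2 (F.tc x hx)
  set ψ : ↥T →* ℤˣ := Cfsg.Agent.TwoFusion.IndexTwo.signHom N hN with hψ
  set T' : Subgroup ↥(centralizer ({t} : Set G)) := T.subgroupOf (centralizer ({t} : Set G)) with hT'
  let ψ' : ↥T' →* ℤˣ := ψ.comp (subgroupOfEquivOfLe hTC).toMonoidHom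
  refine ⟨Cfsg.Agent.StdSpSix.TR.tr ψ', ?_⟩
  have : Fintype (↥(centralizer ({t} : Set G)) ⧸ T') := Fintype.ofFinite _
  rw [Cfsg.Agent.StdSpSix.TR.tr_apply]
  have hval : ∀ c : ↥(centralizer ({t} : Set G)) ⧸ T',
      ψ' (Cfsg.Agent.StdSpSix.TR.coc T' ⟨q, hqC⟩ c) = -1 := by
    intro c
    set g : ↥(centralizer ({t} : Set G)) := c.out with hg
    have hgt : (g : G) * t = t * g := mem_centralizer_singleton_iff.1 g.2
    have hy : (g : G)⁻¹ * q * g ∈ zpowers q := by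
      have := conjQ F.toStart0 (inv_comm hgt) (mem_zpowers q)
      rwa [inv_inv] at this
    have hfix : (⟨q, hqC⟩ : ↥(centralizer ({t} : Set G))) • c = c := by
      conv_lhs => rw [← QuotientGroup.out_eq' c]
      conv_rhs => rw [← QuotientGroup.out_eq' c]
      rw [MulAction.Quotient.smul_mk, smul_eq_mul, eq_comm, QuotientGroup.eq]
      refine mem_subgroupOf.2 ?_
      show (g : G)⁻¹ * (q * g) ∈ T
      rw [← mul_assoc]
      exact F.zpowers_le_T hy
    have hcoc : ((Cfsg.Agent.StdSpSix.TR.coc T' ⟨q, hqC⟩ c : ↥(centralizer ({t} : Set G))) : G) =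
        (g : G)⁻¹ * q * g := by
      rw [Cfsg.Agent.StdSpSix.TR.coc_coe, hfix]
      show (g : G)⁻¹ * (q * g) = _
      rw [mul_assoc]
    have hyT : (g : G)⁻¹ * q * g ∈ T := F.zpowers_le_T hy
    have h1 : ψ' (Cfsg.Agent.StdSpSix.TR.coc T' ⟨q, hqC⟩ c) = ψ ⟨(g : G)⁻¹ * q * g, hyT⟩ := by
      show ψ ((subgroupOfEquivOfLe hTC) _) = _
      congr 1
      exact Subtype.ext hcoc
    rw [h1]
    apply Cfsg.Agent.TwoFusion.IndexTwo.signHom_of_not_mem hN
    intro hmem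
    apply hqN
    have h2 : (g : G)⁻¹ * q * g ∉ zpowers (q ^ 2) := by
      intro h
      apply q_notMem_Q2 F.toStart0
      have h3 := conjQ2 F.toStart0 hgt h
      have h4 : (g : G) * ((g : G)⁻¹ * q * g) * (g : G)⁻¹ = q := by group
      rwa [h4] at h3
    have h3 := (Q2_or hy).resolve_left h2
    have h4 : (⟨(g : G)⁻¹ * q * g * q⁻¹, mul_mem hyT (inv_mem hqT)⟩ : ↥T) ∈ N :=
      hle (mem_subgroupOf.2 ((le_sup_left : zpowers (q ^ 2) ≤ _) h3))
    have h5 : (⟨q, hqT⟩ : ↥T) =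
        (⟨(g : G)⁻¹ * q * g * q⁻¹, mul_mem hyT (inv_mem hqT)⟩ : ↥T)⁻¹ * ⟨(g : G)⁻¹ * q * g, hyT⟩ := by
      apply Subtype.ext
      show q = ((g : G)⁻¹ * q * g * q⁻¹)⁻¹ * ((g : G)⁻¹ * q * g)
      group
    rw [h5]
    exact mul_mem (inv_mem h4) hmem
  rw [Finset.prod_congr rfl (fun c _ => hval c), Finset.prod_const]
  obtain ⟨TS, hTS⟩ := F.exists_sylow
  have hodd : Odd (Finset.univ : Finset (↥(centralizer ({t} : Set G)) ⧸ T')).card := by
    rw [Finset.card_univ, ← Nat.card_eq_fintype_card]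
    have h1 := TS.not_dvd_index
    rw [hTS] at h1
    rw [← Nat.not_even_iff_odd, even_iff_two_dvd]
    exact h1
  exact hodd.neg_one_pow

/-- **Case B**: `t ∈ [T, T]`: transfer of the generator `q` of `Q`. -/
theorem not_sylow_B [Finite G] (F : Facts K t q z T) (hG : ∀ H : Subgroup G, H.index ≠ 2)
    (hB : (⟨t, F.tT⟩ : ↥T) ∈ commutator ↥T) (S : Sylow 2 G) : (S : Subgroup G) ≠ T := by
  intro hST
  set C : Subgroup G := centralizer ({t} : Set G) with hC
  have hQC : zpowers q ≤ C := fun x hx => mem_centralizer_singleton_iff.2 (F.Qt x hx)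
  have hqC : q ∈ C := hQC (mem_zpowers q)
  have hTC : T ≤ C := fun x hx => mem_centralizer_singleton_iff.2 (F.tc x hx)
  -- the sign
  obtain ⟨φ, hφq⟩ := exists_sign F hB hqC
  -- the group `D = Q S`
  set D : Subgroup G := zpowers q ⊔ (T ⊓ K) with hD
  have hDT : D ≤ T := sup_le F.zpowers_le_T inf_le_left
  have hDq : ∀ d ∈ D, d * q = q * d := by
    intro d hd
    exact M_comm_q F.toStart0 ((sup_le_sup_left inf_le_right (zpowers q)) hd)
  have h1 := OrbitTransfer.transfer_eq_single C φ q D (F.pT.to_le hDT) hDq hqC (hDT.trans hTC) ?_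
  · rw [hφq, TR.Frame.hom_eq_one hG] at h1
    exact absurd h1 (by decide)
  intro g hg hfix k hk h
  by_cases hqk : q ^ k = 1
  · have : (⟨g⁻¹ * q ^ k * g, h⟩ : ↥C) = 1 := by
      apply Subtype.ext
      show g⁻¹ * q ^ k * g = 1
      rw [hqk]; group
    rw [this, map_one]
  exfalso
  set t' : G := g * t * g⁻¹ with ht'
  have ht't' : t' * t' = 1 := by
    calc t' * t' = g * (t * t) * g⁻¹ := by rw [ht']; group
      _ = 1 := by rw [F.tt]; group
  -- `t'` commutes with `t`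
  have h2 : q ^ k * t' = t' * q ^ k := mem_C.1 h
  have h3 : t ∈ zpowers (q ^ k) := t_mem F.toStart0 (pow_mem (mem_zpowers q) k) hqk
  have h4 : t' * t = t * t' := by
    obtain ⟨m, hm⟩ := mem_zpowers_iff.1 h3
    rw [← hm]
    exact ((show Commute (q ^ k) t' from h2).zpow_left m).eq.symm
  -- `t'` commutes with `S`
  have h5 : ∀ x ∈ T, x ∈ K → x * t' = t' * x := by
    intro x hx hxK
    obtain ⟨m, hm⟩ := hfix x ((le_sup_right : T ⊓ K ≤ D) ⟨hx, hxK⟩)
    have h6 : q ^ m * x * t' = t' * (q ^ m * x) := mem_C.1 hm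
    have h7 : (t' * q ^ m * t'⁻¹) * (t' * x * t'⁻¹) = q ^ m * x := by
      calc (t' * q ^ m * t'⁻¹) * (t' * x * t'⁻¹) = t' * (q ^ m * x) * t'⁻¹ := by group
        _ = q ^ m * x * t' * t'⁻¹ := by rw [h6]
        _ = q ^ m * x := by group
    obtain ⟨-, h8⟩ := M_unique F.toStart (conjQ F.toStart0 h4 (zpow_mem (mem_zpowers q) m))
      (zpow_mem (mem_zpowers q) m) (conjK F.toStart0 h4 hxK) hxK h7
    rw [mul_inv_eq_iff_eq_mul] at h8
    exact h8.symm
  -- so `t' ∈ {t, z, tz}`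
  have h6 := F.cent_S h4 ht't' h5
  have h7 : ∀ x ∈ T, x * t' = t' * x := by
    intro x hx
    have hxt := F.tc x hx
    have hxz := F.zc x hx
    rcases h6 with h6 | h6 | h6 | h6
    · rw [h6, mul_one, one_mul]
    · rw [h6]; exact hxt
    · rw [h6]; exact hxz
    · rw [h6]; exact (mul_comm' hxt.symm hxz.symm).symm
  have h8 := burn F S hST h7
  apply hg
  rw [mul_inv_eq_iff_eq_mul] at h8
  exact mem_centralizer_singleton_iff.2 h8

/-- **FE3**: `T` is not a Sylow subgroup of `G`. -/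
theorem not_sylow [Finite G] (F : Facts K t q z T) (hG : commutator G = ⊤)
    (hG2 : ∀ H : Subgroup G, H.index ≠ 2) (S : Sylow 2 G) : (S : Subgroup G) ≠ T := by
  by_cases h : (⟨t, F.tT⟩ : ↥T) ∈ commutator ↥T
  · exact not_sylow_B F hG2 h S
  · exact F.frame.not_sylow' hG h S

/-- **The output of the front end.** -/
theorem main [Finite G] (F : Facts K t q z T) (hG : commutator G = ⊤)
    (hG2 : ∀ H : Subgroup G, H.index ≠ 2) :
    TR.Frame t z T ∧
    ∃ S : Sylow 2 G, T < (S : Subgroup G) ∧ (∀ s ∈ (S : Subgroup G), s * z = z * s) ∧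
      (∃ x ∈ (S : Subgroup G), x ∈ normalizer (T : Set G) ∧ x ∉ T ∧ x * t * x⁻¹ = t * z ∧
        x * z * x⁻¹ = z) ∧
      (∀ g, g * t * g⁻¹ ≠ z) ∧
      (⟨t, mem_centralizer_singleton_iff.2 F.frame.comm⟩ : centralizer ({z} : Set G)) ∈
        commutator (centralizer ({z} : Set G)) := by
  have Fr := F.frame
  obtain ⟨S, hS⟩ := F.pT.exists_le_sylow
  have hlt : T < (S : Subgroup G) := lt_of_le_of_ne hS fun h => not_sylow F hG hG2 S h.symm
  obtain ⟨x, hxS, hxN, hxT, hxt, hxz⟩ := Fr.exists_swap S hlt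
  have hnc := Fr.not_conj S hlt
  have hnc2 : ∀ g, g * (t * z) * g⁻¹ ≠ z := by
    intro g hg
    apply hnc (g * x)
    calc g * x * t * (g * x)⁻¹ = g * (x * t * x⁻¹) * g⁻¹ := by group
      _ = z := by rw [hxt]; exact hg
  exact ⟨Fr, S, hlt, Fr.z_central S hlt, ⟨x, hxS, hxN, hxT, hxt, hxz⟩, hnc,
    TFormula.mem_commutator hG Fr.tt T Fr.pT Fr.tc Fr.zc Fr.comm
      (fun g hg => Fr.unique_of_not_conj hnc hnc2 g hg)⟩

end Cfsg.Agent.OddHalf.D6.RThree.CycW
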