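import Cfsg.Agent.OddHalf.D6.RThree.Comp
import Cfsg.Agent.OddHalf.D6.PumpDown
import Cfsg.Agent.OddHalf.CaseM.End

/-!
# ODD half, D6, `L₃(3)`, `U₃(3)`: `E(C_G(z)) = 1` (helper783)

A component `M` of `C_G(z)` contains `z`, so that `|M| ≤ |K| ≤ 6048`, `|M / Z(M)| ≤ 3024` and `M` has 2-rank 1.
-/

set_option autoImplicit false

namespace Cfsg.Agent.OddHalf.D6.RThree

open Subgroup Cfsg Cfsg.Agent.OddHalf.Iface
open Cfsg.Agent.SignalizersComponents.Components

universe u

/-- **KO**: the double covers of small order have 2-rank 1 -/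
def KO : Prop :=
  ∀ (M : Type u) [Group M] [Finite M], IsQuasisimple M → IsPGroup 2 (center M) → center M ≠ ⊥ →
    IsKnownSimple' (M ⧸ center M) → Nat.card (M ⧸ center M) ≤ 3024 → PRankLE 2 1 M

/-- a group of type `L₂(q)` has no central involution -/
theorem not_l2o {X : Type u} [Group X] (hq : IsQuasisimple X) {z : X} (hz : z ∈ center X) (hz1 : z ≠ 1) :
    ¬ IsL2o X := by
  intro h
  have h1 : IsSimpleGroup X := D6.PumpDown.IsL2o.simple h
  have hna : ¬ IsMulCommutative X := by
    intro hc
    apply quasisimple_not_isSolvable hq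
    exact Group.isSolvable_of_comm fun x y => hc.is_comm.comm x y
  have h2 := Soft.center_eq_bot hna
  rw [h2, mem_bot] at hz
  exact hz1 hz

/-- **no components** -/
theorem no_comp (hKO : KO.{u}) (hGW : SylowSp4.Hyps.GW.{u}) {G : Type u} [Group G] (C : Ctx G) {K : Subgroup G}
    (S : Std G K) (hK : Nat.card K ≤ 6048) {z : G} (hz : orderOf z = 2)
    (hzM : ∀ M : Subgroup ↥(centralizer ({z} : Set G)), IsComponent M →
      (⟨z, mem_centralizer_singleton_iff.2 rfl⟩ : ↥(centralizer ({z} : Set G))) ∈ M)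
    (M : Subgroup ↥(centralizer ({z} : Set G))) : ¬ IsComponent M := by
  intro hM
  have hfin := C.fin
  have hsimp := C.simple
  set M' : Subgroup G := M.map (centralizer ({z} : Set G)).subtype with hM'
  have hc : CompOf z M' := CaseM.compOf_map hM
  have hzM' : z ∈ M' := ⟨_, hzM M hM, rfl⟩
  have hq := Soft.CompOf.quasisimple hc
  have hz1 : z ≠ 1 := by
    rintro rfl
    rw [orderOf_one] at hz
    exact absurd hz (by norm_num)
  have hzc : (⟨z, hzM'⟩ : M') ∈ center M' := by
    rw [mem_center_iff]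
    intro g
    apply Subtype.ext
    exact mem_centralizer_singleton_iff.1 (hc.1 g.2)
  have hzne : (⟨z, hzM'⟩ : M') ≠ 1 := fun e => hz1 (congrArg Subtype.val e)
  have h1 : Nat.card M' ≤ Nat.card K := S.max z M' hz hc fun h => absurd h (not_l2o hq hzc hzne)
  have hcen : center M' ≠ ⊥ := by
    intro e
    rw [e, mem_bot] at hzc
    exact hzne hzc
  have h2 : Nat.card (M' ⧸ center M') ≤ 3024 := by
    have h3 := Subgroup.card_eq_card_quotient_mul_card_subgroup (center M')
    have h4 : 2 ≤ Nat.card (center M') := by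
      have : Nontrivial (center M') := (Subgroup.nontrivial_iff_ne_bot _).2 hcen
      exact Finite.one_lt_card
    have h5 : Nat.card (M' ⧸ center M') * 2 ≤ Nat.card (M' ⧸ center M') * Nat.card (center M') :=
      Nat.mul_le_mul_left _ h4
    omega
  have hsM := hq.2
  have hkn : IsKnownSimple' (M' ⧸ center M') :=
    Known.known_quotient C.kproper M' (Soft.CompOf.ne_top C.na hz hc) _ hsM (Soft.quo_na hq)
  exact CaseM.rank_two C hGW hz hc hzM'
    (hKO M' hq (Soft.CompOf.center_isPGroup (C.bal z hz) hc) hcen hkn h2)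

end Cfsg.Agent.OddHalf.D6.RThree
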