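import Cfsg.Agent.OddHalf.D6.RThree.Comp
import Cfsg.Agent.OddHalf.D6.RThree.NoComp
import Cfsg.Agent.OddHalf.Quat.Classical
import Cfsg.Agent.OddHalf.Quat.TwoGroup
import Cfsg.Agent.OddHalf.D5.SixAut.SymSpl

/-!
# ODD half, D6, `L₃(3)`, `U₃(3)`: the normal elementary abelian 2-subgroups of `C_G(z)` (helper783)

`Hyp.elem`: they lie in `⟨z⟩`, if `O²(C_X(t))` is not normal in `X`; `not_normal`: it is not.
-/

set_option autoImplicit false

namespace Cfsg.Agent.OddHalf.D6.RThree

open Subgroup Cfsg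
open Cfsg.Agent.OddHalf.D6.QThree.NISide
open Cfsg.Agent.SignalizersComponents.Components

namespace Hyp

variable {X : Type*} [Group X] {z t a : X} {Q : Subgroup X}

theorem a_mem (h : Hyp z t a Q) : a ∈ JJ t := subset_closure ⟨h.s.a_t, h.ao⟩

/-- conjugates of `JJ` -/
theorem conj_mem (_h : Hyp z t a Q) {g : X} (hg : ∀ x : X, x * t = t * x → (g * x * g⁻¹) * t = t * (g * x * g⁻¹))
    {x : X} (hx : x ∈ JJ t) : g * x * g⁻¹ ∈ JJ t := by
  have h1 : JJ t ≤ (JJ t).comap (MulAut.conj g).toMonoidHom := by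
    conv_lhs => rw [JJ]
    rw [closure_le]
    rintro y ⟨hy, hyo⟩
    show g * y * g⁻¹ ∈ JJ t
    refine subset_closure ⟨hg y hy, ?_⟩
    have : orderOf (g * y * g⁻¹) = orderOf y :=
      orderOf_injective (MulAut.conj g).toMonoidHom (MulAut.conj g).injective y
    rwa [this]
  exact h1 hx

theorem z_mem_JJ (h : Hyp z t a Q) : z ∈ JJ t := by
  obtain ⟨q, hq, hq1, hqz⟩ := h.s.exists_ne
  set r := a * q * a⁻¹ with hr
  have hrQ : r ∈ Q := h.s.aQ q hq
  have hne := h.s.act q hq hq1 hqz
  have h0 : q * a⁻¹ * q⁻¹ ∈ JJ t := by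
    apply h.conj_mem _ ((JJ t).inv_mem h.a_mem)
    intro x hx
    have c1 : Commute q t := h.s.ct q hq
    have c2 : Commute x t := hx
    exact ((c1.mul_left c2).mul_left c1.inv_left).eq
  have h1 : r * q⁻¹ ∈ JJ t := by
    have e : r * q⁻¹ = a * (q * a⁻¹ * q⁻¹) := by rw [hr]; group
    rw [e]
    exact mul_mem h.a_mem h0
  have h2 : r * q⁻¹ ≠ 1 := by
    intro e
    apply hne
    rw [mul_inv_eq_one] at e
    show q * r = r * q
    rw [e]
  have h3 : r * q⁻¹ ≠ z := by
    intro e
    apply hne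
    rw [mul_inv_eq_iff_eq_mul] at e
    show q * r = r * q
    rw [e, ← mul_assoc, h.zc q]
  have h4 := mul_mem h1 h1
  rwa [h.s.sq _ (Q.mul_mem hrQ (Q.inv_mem hq)) h2 h3] at h4

/-- an element of an abelian normal 2-subgroup of `C_X(t)` lies in `Y` -/
theorem in_of_abelian [Finite X] (h : Hyp z t a Q) {N : Subgroup X} (hNt : ∀ n ∈ N, n * t = t * n)
    (hN : IsPGroup 2 N) (hNn : ∀ g, g * t = t * g → ∀ n ∈ N, g * n * g⁻¹ ∈ N)
    (hab : ∀ x ∈ N, ∀ y ∈ N, x * y = y * x) : ∀ n ∈ N, In t Q n := by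
  intro n hn
  obtain ⟨r, hr, hy⟩ := h.rad hNt hN hNn n hn
  set y := n * r with hyd
  have hny : n = y * r⁻¹ := by rw [hyd, mul_inv_cancel_right]
  set r' := a * r * a⁻¹ with hr'
  have hr'Q : r' ∈ Q := h.s.aQ r hr
  have cya : Commute y a := h.YJ y hy a h.s.a_t h.ao
  have cyr : Commute y r := hy.2 r hr
  have cyr' : Commute y r' := hy.2 r' hr'Q
  have e1 : a * n * a⁻¹ = y * r'⁻¹ := by
    calc a * n * a⁻¹ = (a * y) * r⁻¹ * a⁻¹ := by rw [hny]; group
      _ = (y * a) * r⁻¹ * a⁻¹ := by rw [cya.eq]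
      _ = y * r'⁻¹ := by rw [hr']; group
  have hr1 : r = 1 ∨ r = z := by
    by_contra hcon
    push Not at hcon
    apply h.s.act r hr hcon.1 hcon.2
    have e := hab n hn (a * n * a⁻¹) (hNn a h.s.a_t n hn)
    rw [e1, hny] at e
    have h1 : y * r⁻¹ * (y * r'⁻¹) = y * y * (r' * r)⁻¹ := by
      calc y * r⁻¹ * (y * r'⁻¹) = y * (r⁻¹ * y) * r'⁻¹ := by group
        _ = y * (y * r⁻¹) * r'⁻¹ := by rw [cyr.inv_right.eq]
        _ = y * y * (r' * r)⁻¹ := by group
    have h2 : y * r'⁻¹ * (y * r⁻¹) = y * y * (r * r')⁻¹ := by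
      calc y * r'⁻¹ * (y * r⁻¹) = y * (r'⁻¹ * y) * r⁻¹ := by group
        _ = y * (y * r'⁻¹) * r⁻¹ := by rw [cyr'.inv_right.eq]
        _ = y * y * (r * r')⁻¹ := by group
    rw [h1, h2] at e
    exact (inv_injective (mul_left_cancel e)).symm
  refine ⟨hNt n hn, fun q hq => ?_⟩
  have c1 : Commute y q := hy.2 q hq
  have c2 : Commute r q := by
    rcases hr1 with e | e
    · rw [e]; exact Commute.one_left q
    · rw [e]; exact (show Commute q z from h.zc q).symm
  rw [hny]
  exact (c1.mul_left c2.inv_left).eq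

theorem Four.comm (h : Hyp z t a Q) {x : X} (hx : Four z t x) : x * t = t * x := by
  have c : Commute t z := h.zc t
  rcases hx with rfl | rfl | rfl | rfl
  · rw [one_mul, mul_one]
  · exact c.symm.eq
  · rfl
  · exact ((Commute.refl t).mul_left c.symm).eq

/-- **the normal elementary abelian 2-subgroups of `X`** -/
theorem elem [Finite X] (h : Hyp z t a Q) (hJ : ¬ (JJ t).Normal) {W : Subgroup X} (hW : W.Normal)
    (hel : ∀ w ∈ W, w * w = 1) : ∀ w ∈ W, w = 1 ∨ w = z := by
  by_contra hcon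
  push Not at hcon
  obtain ⟨w₀, hw₀, hw1, hwz⟩ := hcon
  have hab0 : ∀ x ∈ W, ∀ y ∈ W, x * y = y * x := by
    intro x hx y hy
    have h1 := hel _ (W.mul_mem hx hy)
    have hx' : x⁻¹ = x := inv_eq_of_mul_eq_one_right (hel x hx)
    have hy' : y⁻¹ = y := inv_eq_of_mul_eq_one_right (hel y hy)
    have h2 : (x * y)⁻¹ = x * y := inv_eq_of_mul_eq_one_right h1
    rw [mul_inv_rev, hx', hy'] at h2
    exact h2.symm
  -- `A = W ⟨z⟩`
  let A : Subgroup X :=
    { carrier := {x | x ∈ W ∨ x * z ∈ W}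
      one_mem' := Or.inl W.one_mem
      mul_mem' := by
        rintro x y (hx | hx) (hy | hy)
        · exact Or.inl (W.mul_mem hx hy)
        · right
          show x * y * z ∈ W
          rw [mul_assoc]; exact W.mul_mem hx hy
        · right
          have : x * y * z = x * z * y := by rw [mul_assoc, h.zc y, mul_assoc]
          show x * y * z ∈ W
          rw [this]; exact W.mul_mem hx hy
        · left
          have : x * y = x * z * (y * z) := by
            calc x * y = x * y * (z * z) := by rw [h.zz, mul_one]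
              _ = x * (y * z) * z := by group
              _ = x * (z * y) * z := by rw [h.zc y]
              _ = x * z * (y * z) := by group
          show x * y ∈ W
          rw [this]; exact W.mul_mem hx hy
      inv_mem' := by
        rintro x (hx | hx)
        · exact Or.inl (W.inv_mem hx)
        · right
          have : x⁻¹ * z = (x * z)⁻¹ := by rw [mul_inv_rev, h.zinv, h.zc x⁻¹]
          show x⁻¹ * z ∈ W
          rw [this]; exact W.inv_mem hx }
  have hmA : ∀ x, x ∈ A ↔ x ∈ W ∨ x * z ∈ W := fun x => Iff.rfl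
  have hzA : z ∈ A := Or.inr (by rw [h.zz]; exact W.one_mem)
  have hWA : W ≤ A := fun x hx => Or.inl hx
  have hAn : A.Normal := by
    refine ⟨?_⟩
    rintro x (hx | hx) g
    · exact Or.inl (hW.conj_mem x hx g)
    · right
      have e : g * x * g⁻¹ * z = g * (x * z) * g⁻¹ := by
        rw [mul_assoc (g * x), h.zc g⁻¹]; group
      rw [e]; exact hW.conj_mem _ hx g
  have hxz : ∀ x, (x * z) * (x * z) = x * x := by
    intro x
    calc (x * z) * (x * z) = x * (z * x) * z := by group
      _ = x * (x * z) * z := by rw [h.zc x]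
      _ = x * x * (z * z) := by group
      _ = x * x := by rw [h.zz, mul_one]
  have hA2 : ∀ x ∈ A, x * x = 1 := by
    rintro x (hx | hx)
    · exact hel x hx
    · rw [← hxz]; exact hel _ hx
  have hab : ∀ x ∈ A, ∀ y ∈ A, x * y = y * x := by
    intro x hx y hy
    have hx' : x⁻¹ = x := inv_eq_of_mul_eq_one_right (hA2 x hx)
    have hy' : y⁻¹ = y := inv_eq_of_mul_eq_one_right (hA2 y hy)
    have h2 : (x * y)⁻¹ = x * y := inv_eq_of_mul_eq_one_right (hA2 _ (A.mul_mem hx hy))
    rw [mul_inv_rev, hx', hy'] at h2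
    exact h2.symm
  have hAp : IsPGroup 2 A := by
    intro x
    refine ⟨1, Subtype.ext ?_⟩
    show (x : X) ^ 2 ^ 1 = 1
    rw [pow_one, pow_two]
    exact hA2 x x.2
  -- `C_A(t)`
  have hfour : ∀ x ∈ A, x * t = t * x → Four z t x := by
    intro x hx hxt
    refine h.Yom x (h.in_of_abelian (N := A ⊓ centralizer ({t} : Set X)) ?_ (hAp.to_le inf_le_left) ?_ ?_ x
      ⟨hx, mem_centralizer_singleton_iff.2 hxt⟩) (hA2 x hx)
    · exact fun n hn => mem_centralizer_singleton_iff.1 hn.2
    · intro g hg n hn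
      refine ⟨hAn.conj_mem n hn.1 g, mem_centralizer_singleton_iff.2 ?_⟩
      have c1 : Commute g t := hg
      have c2 : Commute n t := mem_centralizer_singleton_iff.1 hn.2
      exact ((c1.mul_left c2).mul_left c1.inv_left).eq
    · exact fun x hx y hy => hab x hx.1 y hy.1
  by_cases htA : t ∈ A
  · -- `A = ⟨t, z⟩` is normal
    apply hJ
    have hall : ∀ x ∈ A, Four z t x := fun x hx => hfour x hx (hab x hx t htA)
    refine ⟨fun n hn g => ?_⟩
    apply h.conj_mem _ hn
    intro x hx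
    -- `g⁻¹ t g ∈ {t, t z}`
    have h1 : g⁻¹ * t * g ∈ A := by
      have := hAn.conj_mem t htA g⁻¹
      rwa [inv_inv] at this
    have h2 : Commute x (g⁻¹ * t * g) := by
      have c1 : Commute x t := hx
      have c2 : Commute x z := h.zc x
      rcases hall _ h1 with e | e | e | e <;> rw [e]
      · exact Commute.one_right x
      · exact c2
      · exact c1
      · exact c1.mul_right c2
    calc g * x * g⁻¹ * t = g * (x * (g⁻¹ * t * g)) * g⁻¹ := by group
      _ = g * ((g⁻¹ * t * g) * x) * g⁻¹ := by rw [h2.eq]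
      _ = t * (g * x * g⁻¹) := by group
  · have htzA : t * z ∉ A := by
      intro e
      apply htA
      have := A.mul_mem e hzA
      rwa [mul_assoc, h.zz, mul_one] at this
    have hfix : ∀ x ∈ A, x * t = t * x → x = 1 ∨ x = z := by
      intro x hx hxt
      rcases hfour x hx hxt with e | e | e | e
      · exact Or.inl e
      · exact Or.inr e
      · exact absurd (e ▸ hx) htA
      · exact absurd (e ▸ hx) htzA
    obtain ⟨v, hv, hvt⟩ := QThree.NI.exists_move h.tt hAp (fun b hb => hAn.conj_mem b hb t) hfix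
      ⟨w₀, hWA hw₀, hw1, hwz⟩
    obtain ⟨lam, hlam⟩ := QThree.NI.exists_lam_of_abelian h.tt h.zc h.zz h.z1 hAn hab hzA hfix hv hvt
    have h1 : lam t = 1 := by
      have h2 : _root_.commutator X ≤ lam.ker := Abelianization.commutator_subset_ker lam
      exact h2 h.com
    rw [h1] at hlam
    exact absurd hlam (by decide)

end Hyp

/-! ### in `G` -/

open Cfsg.Agent.OddHalf.Iface

universe u

/-- `O²(C_X(t))` is not normal in `X = C_G(z)` -/
theorem not_normal (hGW : SylowSp4.Hyps.GW.{u}) {G : Type u} [Group G] (C : Ctx G) {z : G} (hz : orderOf z = 2)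
    {t a : ↥(centralizer ({z} : Set G))} {Q : Subgroup ↥(centralizer ({z} : Set G))}
    (h : Hyp (⟨z, mem_centralizer_singleton_iff.2 rfl⟩ : ↥(centralizer ({z} : Set G))) t a Q) :
    ¬ (JJ t).Normal := by
  intro hn
  have hfin := C.fin
  set J : Subgroup G := (JJ t).map (centralizer ({z} : Set G)).subtype with hJ
  have hzJ : z ∈ J := ⟨(⟨z, mem_centralizer_singleton_iff.2 rfl⟩ : ↥(centralizer ({z} : Set G))), h.z_mem_JJ, rfl⟩
  have hJX : J.subgroupOf (centralizer ({z} : Set G)) = JJ t := comap_map_eq_self_of_injective (centralizer ({z} : Set G)).subtype_injective _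
  have hrk : PRankLE 2 1 ↥J := by
    by_contra hcon
    obtain ⟨U, hUJ, hU⟩ := Cfsg.Agent.S0520.exists_kleinFour hcon
    have h1 : (U : Set G) ⊆ ({1, z} : Set G) := by
      intro x hx
      have hxx : x * x = 1 := by
        have h2 := hU.exponent_two
        have h3 := Monoid.pow_exponent_eq_one (⟨x, hx⟩ : U)
        rw [h2] at h3
        have h4 : x ^ 2 = 1 := congrArg Subtype.val h3
        rwa [pow_two] at h4
      obtain ⟨y, hy, e⟩ := hUJ hx
      have e' : (y : G) = x := e
      rcases h.jz y hy (Subtype.ext (by show (y : G) * y = 1; rw [e']; exact hxx)) with e1 | e1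
      · left
        rw [← e', e1]; rfl
      · right
        rw [Set.mem_singleton_iff, ← e', e1]
    have h2 : Nat.card U ≤ 2 := by
      have := Set.ncard_le_ncard h1 (Set.toFinite _)
      exact this.trans ((Set.ncard_insert_le _ _).trans (by rw [Set.ncard_singleton]))
    have h3 : Nat.card U = 4 := hU.card_four
    omega
  have h1 : IsPGroup 2 ↥J := by
    refine Quat.isPGroup_of_classical hGW hz hzJ (map_subtype_le _) ?_ (C.bal z hz) hrk ?_
    · rw [hJX]; exact hn.isSubnormal
    · intro L hL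
      exact C.classical z L hz hL
  have h2 : (a : G) ∈ J := ⟨a, h.a_mem, rfl⟩
  have h3 : a = 1 := by
    apply eq_one_of_odd _ h.ao
    have h4 : IsPGroup 2 (zpowers (a : G)) := h1.to_le (zpowers_le.2 h2)
    obtain ⟨k, hk⟩ := h4 ⟨a, mem_zpowers _⟩
    have hk' : (a : G) ^ 2 ^ k = 1 := congrArg Subtype.val hk
    have hk2 : a ^ 2 ^ k = 1 := Subtype.ext hk'
    have : Fact (Nat.Prime 2) := ⟨Nat.prime_two⟩
    obtain ⟨m, -, hm⟩ := (Nat.dvd_prime_pow Nat.prime_two).1 (orderOf_dvd_of_pow_eq_one hk2)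
    exact IsPGroup.of_card (n := m) (by rw [Nat.card_zpowers, hm])
  obtain ⟨q, hq, hq1, hqz⟩ := h.s.exists_ne
  apply h.s.act q hq hq1 hqz
  rw [h3]
  group

end Cfsg.Agent.OddHalf.D6.RThree
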