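import Cfsg.Agent.OddHalf.D6.RThree.Rad
import Cfsg.Agent.S1442

/-!
# ODD half, D6, `L₃(3)`, `U₃(3)`: normal 2-subgroups of symplectic type of `C_G(z)` have order at most `128` (helper831)

`Hyp.card_le` (helper783, bb #17058, piece (E)). Tools: `axb` (Thompson), `card_le_four`, `exists_four`, `card_two`
(`|F| ≤ 2 |C_F(t)|²`).
-/

set_option autoImplicit false

namespace Cfsg.Agent.OddHalf.D6.RThree

open Subgroup Cfsg
open Cfsg.Agent.OddHalf.D6.QThree.NISide

namespace FZero

section gen

variable {G : Type*} [Group G]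

/-- Thompson's lemma: `a` of odd order commuting with the involution `t`, both acting on the 2-group `P`; if `a`
centralises `C_P(t)`, then `a` centralises `P`. -/
theorem axb [Finite G] {P : Subgroup G} (hP : IsPGroup 2 P) {a t : G} (ho : Odd (orderOf a))
    (hat : a * t = t * a) (tt : t * t = 1) (haP : ∀ x ∈ P, a * x * a⁻¹ ∈ P)
    (htP : ∀ x ∈ P, t * x * t⁻¹ ∈ P) (h : ∀ x ∈ P, x * t = t * x → x * a = a * x) :
    ∀ x ∈ P, x * a = a * x := by
  have ti : t⁻¹ = t := inv_eq_of_mul_eq_one_right tt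
  have htP' : ∀ x ∈ P, t * x * t ∈ P := by
    intro x hx
    have := htP x hx
    rwa [ti] at this
  have hct : ∀ x : G, x * t * t = x := fun x => by rw [mul_assoc, tt, mul_one]
  let H : Subgroup G :=
    { carrier := {x | x ∈ P ∨ x * t ∈ P}
      one_mem' := Or.inl P.one_mem
      mul_mem' := by
        rintro x y (hx | hx) (hy | hy)
        · exact Or.inl (P.mul_mem hx hy)
        · right
          rw [mul_assoc]; exact P.mul_mem hx hy
        · right
          have e : x * y * t = (x * t) * (t * y * t) := by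
            calc x * y * t = (x * t * t) * y * t := by rw [hct]
              _ = _ := by group
          rw [e]; exact P.mul_mem hx (htP' y hy)
        · left
          have e : x * y = (x * t) * (t * (y * t) * t) := by
            calc x * y = (x * t * t) * (y * t * t) := by rw [hct, hct]
              _ = _ := by group
          rw [e]; exact P.mul_mem hx (htP' _ hy)
      inv_mem' := by
        rintro x (hx | hx)
        · exact Or.inl (P.inv_mem hx)
        · right
          have e : x⁻¹ * t = t * (x * t)⁻¹ * t := by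
            rw [mul_inv_rev, ti, ← mul_assoc t t, tt, one_mul]
          rw [e]; exact htP' _ (P.inv_mem hx) }
  have hmem : ∀ x, x ∈ H ↔ x ∈ P ∨ x * t ∈ P := fun x => Iff.rfl
  have hH : IsPGroup 2 H := by
    rintro ⟨x, hx⟩
    have hxx : x * x ∈ P := by
      rcases (hmem x).1 hx with h1 | h1
      · exact P.mul_mem h1 h1
      · have e : x * x = (x * t) * (t * (x * t) * t) := by
          calc x * x = (x * t * t) * (x * t * t) := by rw [hct]
            _ = _ := by group
        rw [e]; exact P.mul_mem h1 (htP' _ h1)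
    obtain ⟨n, hn⟩ := hP ⟨x * x, hxx⟩
    refine ⟨n + 1, Subtype.ext ?_⟩
    have h1 : (x * x) ^ 2 ^ n = 1 := congrArg Subtype.val hn
    show x ^ 2 ^ (n + 1) = 1
    rw [pow_succ', pow_mul, pow_two]; exact h1
  have hnil : Group.IsNilpotent H := by
    have : Fact (Nat.Prime 2) := ⟨Nat.prime_two⟩
    exact hH.isNilpotent
  have hA : zpowers a ≤ normalizer (H : Set G) := by
    rw [zpowers_le]
    refine mem_normalizer_fintype fun x hx => ?_
    rcases (hmem x).1 hx with h1 | h1
    · exact Or.inl (haP x h1)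
    · right
      have e : a * x * a⁻¹ * t = a * (x * t) * a⁻¹ := by
        have c : Commute a t := hat
        calc a * x * a⁻¹ * t = a * x * (a⁻¹ * t) := by group
          _ = a * x * (t * a⁻¹) := by rw [c.inv_left.eq]
          _ = a * (x * t) * a⁻¹ := by group
      show a * x * a⁻¹ * t ∈ P
      rw [e]; exact haP _ h1
  have hcop : (Nat.card ↥(zpowers a)).Coprime (Nat.card ↥H) := by
    have : Fact (Nat.Prime 2) := ⟨Nat.prime_two⟩
    rw [Nat.card_zpowers]
    obtain ⟨n, hn⟩ := IsPGroup.iff_card.1 hH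
    rw [hn]
    exact Nat.Coprime.pow_right n (Nat.coprime_two_right.2 ho)
  have ca : Commute a t := hat
  have h4 := Cfsg.Agent.S1442.result H (zpowers a) hnil hA hcop (by
    rintro x ⟨hxH, hxC⟩
    refine ⟨hxH, ?_⟩
    have htC : t ∈ H ⊓ centralizer ((zpowers a : Subgroup G) : Set G) := by
      refine ⟨Or.inr ?_, mem_centralizer_iff.2 ?_⟩
      · show t * t ∈ P
        rw [tt]; exact P.one_mem
      · intro y hy
        obtain ⟨i, rfl⟩ := mem_zpowers_iff.1 hy
        exact (ca.zpow_left i).eq
    have hxt : x * t = t * x := (mem_centralizer_iff.1 hxC t htC).symm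
    have hxa : Commute a x := by
      rcases (hmem x).1 hxH with h1 | h1
      · exact (h x h1 hxt).symm
      · have c1 : Commute (x * t) t := (show Commute x t from hxt).mul_left (Commute.refl t)
        have c2 : Commute a (x * t) := (h _ h1 c1).symm
        have c3 := c2.mul_right ca
        rwa [hct] at c3
    refine mem_centralizer_iff.2 ?_
    intro y hy
    obtain ⟨i, rfl⟩ := mem_zpowers_iff.1 hy
    exact (hxa.zpow_left i).eq)
  intro x hx
  exact mem_centralizer_iff.1 (h4 (mem_zpowers a)) x (Or.inl hx)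

/-- a subgroup covered by four cosets -/
theorem card_le_four [Finite G] {S R : Subgroup G} (c : Fin 4 → G) (h : ∀ s ∈ S, ∃ i, s * c i ∈ R) :
    Nat.card S ≤ 4 * Nat.card R := by
  classical
  choose i hi using fun s : S => h s s.2
  have h1 := Nat.card_le_card_of_injective (fun s : S => ((i s, ⟨s * c (i s), hi s⟩) : Fin 4 × R)) (by
    intro s s' e
    have e1 : i s = i s' := congrArg Prod.fst e
    have e2 : (s : G) * c (i s) = s' * c (i s') := congrArg Subtype.val (congrArg Prod.snd e)
    rw [e1] at e2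
    exact Subtype.ext (mul_right_cancel e2))
  rwa [Nat.card_prod, Nat.card_fin] at h1

/-- an element which commutes with `x`, `y` modulo `⟨z⟩` commutes with them after multiplication by one of
`1, x, y, xy` -/
theorem exists_four {z x y : G} (zc : ∀ g : G, g * z = z * g) (zz : z * z = 1) (hxy : x * y = z * (y * x))
    {f : G} (hx : f * x = x * f ∨ f * x = z * (x * f)) (hy : f * y = y * f ∨ f * y = z * (y * f)) :
    ∃ i : Fin 4, f * (![1, x, y, x * y] i) * x = x * (f * (![1, x, y, x * y] i)) ∧
      f * (![1, x, y, x * y] i) * y = y * (f * (![1, x, y, x * y] i)) := by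
  have hzz : ∀ u : G, z * (z * u) = u := fun u => by rw [← mul_assoc, zz, one_mul]
  have hyx : y * x = z * (x * y) := by rw [hxy, hzz]
  have sw : ∀ u v : G, u * (z * v) = z * (u * v) := fun u v => by rw [← mul_assoc, zc, mul_assoc]
  rcases hx with hx | hx <;> rcases hy with hy | hy
  · exact ⟨0, by simpa using hx, by simpa using hy⟩
  · refine ⟨1, ?_, ?_⟩
    · show f * x * x = x * (f * x)
      rw [← mul_assoc x f x, ← hx]
    · show f * x * y = y * (f * x)
      calc f * x * y = f * (x * y) := by group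
        _ = z * (f * y * x) := by rw [hxy, sw]; group
        _ = z * (z * (y * f) * x) := by rw [hy]
        _ = z * (z * (y * (f * x))) := by group
        _ = y * (f * x) := hzz _
  · refine ⟨2, ?_, ?_⟩
    · show f * y * x = x * (f * y)
      calc f * y * x = f * (y * x) := by group
        _ = z * (f * x * y) := by rw [hyx, sw]; group
        _ = z * (z * (x * f) * y) := by rw [hx]
        _ = z * (z * (x * (f * y))) := by group
        _ = x * (f * y) := hzz _
    · show f * y * y = y * (f * y)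
      rw [← mul_assoc y f y, ← hy]
  · refine ⟨3, ?_, ?_⟩
    · show f * (x * y) * x = x * (f * (x * y))
      calc f * (x * y) * x = f * x * (y * x) := by group
        _ = z * (f * x * x * y) := by rw [hyx, sw]; group
        _ = z * (z * (x * f) * x * y) := by rw [hx]
        _ = z * (z * (x * (f * (x * y)))) := by group
        _ = x * (f * (x * y)) := hzz _
    · show f * (x * y) * y = y * (f * (x * y))
      calc f * (x * y) * y = z * (f * y * x * y) := by rw [hxy, sw]; group
        _ = z * (z * (y * f) * x * y) := by rw [hy]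
        _ = z * (z * (y * (f * (x * y)))) := by group
        _ = y * (f * (x * y)) := hzz _

/-- `|F| ≤ 2 |C_F(t)|²` for a `t`-invariant subgroup `F` in which all squares are `1` or the central involution `z` -/
theorem card_two [Finite G] {z t : G} (zc : ∀ g : G, g * z = z * g) (zz : z * z = 1) (tt : t * t = 1)
    {F : Subgroup G} (sq : ∀ f ∈ F, f * f = 1 ∨ f * f = z) (ht : ∀ f ∈ F, t * f * t⁻¹ ∈ F) :
    Nat.card F ≤ 2 * Nat.card ↥(F ⊓ centralizer ({t} : Set G)) * Nat.card ↥(F ⊓ centralizer ({t} : Set G)) := by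
  classical
  have ti : t⁻¹ = t := inv_eq_of_mul_eq_one_right tt
  have zi : z⁻¹ = z := inv_eq_of_mul_eq_one_right zz
  set N := F ⊓ centralizer ({t} : Set G) with hN
  have mN : ∀ x, x ∈ N ↔ x ∈ F ∧ x * t = t * x := fun x => by
    rw [hN, mem_inf, mem_centralizer_singleton_iff]
  -- the commutators
  set P : Set G := {g | g ∈ F ∧ (t * g * t⁻¹ = g ∨ t * g * t⁻¹ = z * g)} with hP
  have hcomm : ∀ f ∈ F, t * f * t⁻¹ * f⁻¹ ∈ P := by
    intro f hf
    have hg : t * f * t⁻¹ * f⁻¹ ∈ F := F.mul_mem (ht f hf) (F.inv_mem hf)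
    refine ⟨hg, ?_⟩
    have e1 : t * (t * f * t⁻¹ * f⁻¹) * t⁻¹ = (t * f * t⁻¹ * f⁻¹)⁻¹ := by
      calc t * (t * f * t⁻¹ * f⁻¹) * t⁻¹ = (t * t) * f * t⁻¹ * f⁻¹ * t⁻¹ := by group
        _ = f * t * f⁻¹ * t⁻¹ := by rw [tt, one_mul, ti]
        _ = _ := by group
    rw [e1]
    set g := t * f * t⁻¹ * f⁻¹
    rcases sq g hg with e | e
    · left; exact inv_eq_of_mul_eq_one_left e
    · right
      rw [inv_eq_iff_mul_eq_one, ← zc g, ← mul_assoc, e, zz]
  -- `|P| ≤ 2 |N|`
  have hPc : P.ncard ≤ 2 * Nat.card N := by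
    by_cases hex : ∃ p ∈ F, t * p * t⁻¹ = z * p
    · obtain ⟨p, hp, ep⟩ := hex
      have h1 : P ⊆ (fun n => n) '' (N : Set G) ∪ (fun n => n * p) '' (N : Set G) := by
        rintro g ⟨hg, e | e⟩
        · left
          exact ⟨g, (mN g).2 ⟨hg, (mul_inv_eq_iff_eq_mul.1 e).symm⟩, rfl⟩
        · right
          refine ⟨g * p⁻¹, (mN _).2 ⟨F.mul_mem hg (F.inv_mem hp), ?_⟩, by group⟩
          have e1 : t * (g * p⁻¹) * t⁻¹ = g * p⁻¹ := by
            calc t * (g * p⁻¹) * t⁻¹ = (t * g * t⁻¹) * (t * p * t⁻¹)⁻¹ := by group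
              _ = z * (g * p⁻¹) * z⁻¹ := by rw [e, ep]; group
              _ = g * p⁻¹ := by rw [← zc]; group
          exact (mul_inv_eq_iff_eq_mul.1 e1).symm
      have h2 := Set.ncard_le_ncard h1 (Set.toFinite _)
      have h3 := Set.ncard_union_le ((fun n => n) '' (N : Set G)) ((fun n => n * p) '' (N : Set G))
      have h4 := Set.ncard_image_le (f := fun n : G => n) (Set.toFinite (N : Set G))
      have h5 := Set.ncard_image_le (f := fun n : G => n * p) (Set.toFinite (N : Set G))
      have h6 : (N : Set G).ncard = Nat.card N := rfl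
      omega
    · push Not at hex
      have h1 : P ⊆ (N : Set G) := by
        rintro g ⟨hg, e | e⟩
        · exact (mN g).2 ⟨hg, (mul_inv_eq_iff_eq_mul.1 e).symm⟩
        · exact absurd e (hex g hg)
      have h2 := Set.ncard_le_ncard h1 (Set.toFinite _)
      have h6 : (N : Set G).ncard = Nat.card N := rfl
      omega
  -- the map `F / N → P`
  let ψ : ↥F ⧸ N.subgroupOf F → ↥P := fun q => ⟨_, hcomm (q.out : ↥F) (q.out : ↥F).2⟩
  have hψ : Function.Injective ψ := by
    intro p q e
    have e1 : t * ((p.out : ↥F) : G) * t⁻¹ * ((p.out : ↥F) : G)⁻¹ =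
        t * ((q.out : ↥F) : G) * t⁻¹ * ((q.out : ↥F) : G)⁻¹ := congrArg Subtype.val e
    rw [← QuotientGroup.out_eq' p, ← QuotientGroup.out_eq' q, QuotientGroup.eq, mem_subgroupOf, mN]
    refine ⟨SetLike.coe_mem _, ?_⟩
    show (((p.out : ↥F) : G)⁻¹ * ((q.out : ↥F) : G)) * t = t * (((p.out : ↥F) : G)⁻¹ * ((q.out : ↥F) : G))
    generalize ((p.out : ↥F) : G) = a at e1
    generalize ((q.out : ↥F) : G) = b at e1
    have e2 : a * t⁻¹ * a⁻¹ = b * t⁻¹ * b⁻¹ := by
      calc a * t⁻¹ * a⁻¹ = t⁻¹ * (t * a * t⁻¹ * a⁻¹) := by group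
        _ = t⁻¹ * (t * b * t⁻¹ * b⁻¹) := by rw [e1]
        _ = b * t⁻¹ * b⁻¹ := by group
    rw [ti] at e2
    calc a⁻¹ * b * t = a⁻¹ * (b * t * b⁻¹) * b := by group
      _ = a⁻¹ * (a * t * a⁻¹) * b := by rw [e2]
      _ = t * (a⁻¹ * b) := by group
  have h7 := Nat.card_le_card_of_injective ψ hψ
  have h8 : Nat.card F = Nat.card (↥F ⧸ N.subgroupOf F) * Nat.card N := by
    rw [Subgroup.card_eq_card_quotient_mul_card_subgroup (N.subgroupOf F)]
    congr 1
    exact Nat.card_congr (subgroupOfEquivOfLe inf_le_left).toEquiv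
  have h9 : Nat.card ↥P = P.ncard := rfl
  rw [h8]
  exact Nat.mul_le_mul_right _ (h7.trans (h9 ▸ hPc))

end gen

end FZero

namespace Hyp

variable {X : Type*} [Group X] {z t a : X} {Q : Subgroup X}

/-- **(E)** -/
theorem card_le [Finite X] (h : Hyp z t a Q) {F : Subgroup X} (hn : F.Normal) (hp : IsPGroup 2 F) (hzF : z ∈ F)
    (hsq : ∀ x ∈ F, x * x = 1 ∨ x * x = z) (hcm : ∀ x ∈ F, ∀ y ∈ F, x * y = y * x ∨ x * y = z * (y * x))
    (_hcen : ∀ x ∈ F, (∀ y ∈ F, x * y = y * x) → x = 1 ∨ x = z)
    (hself : ∀ g : X, (∀ x ∈ F, g * x = x * g) → g ∈ F) : Nat.card F ≤ 128 := by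
  classical
  have sw : ∀ u v : X, u * (z * v) = z * (u * v) := fun u v => by rw [← mul_assoc, h.zc, mul_assoc]
  have hzz : ∀ u : X, z * (z * u) = u := fun u => by rw [← mul_assoc, h.zz, one_mul]
  obtain ⟨i, hi, hi1, hiz⟩ := h.s.exists_ne
  set j := a * i * a⁻¹ with hj
  have hjQ : j ∈ Q := h.s.aQ i hi
  have hij : i * j ≠ j * i := h.s.act i hi hi1 hiz
  have hne1 : ∃ q ∈ Q, a * q ≠ q * a := by
    refine ⟨i, hi, fun e => hij ?_⟩
    have e1 : j = i := by rw [hj, e, mul_inv_cancel_right]
    rw [e1]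
  -- (1) `Q ≤ F`
  have hQF : Q ≤ F := by
    by_contra hQF
    have hQF2 : ∀ q ∈ Q, q ∈ F → q = 1 ∨ q = z := by
      intro q hq hqF
      by_contra hne
      push Not at hne
      exact hQF (h.s.gen h.zc h.zz h.z1 hq hne.1 hne.2 hqF (hn.conj_mem q hqF a))
    have hD : ∀ d ∈ F, d * t = t * d → d * a = a * d := by
      intro d hd hdt
      obtain ⟨r, hr, hY⟩ := h.rad (N := F ⊓ centralizer ({t} : Set X))
        (fun n hn' => mem_centralizer_singleton_iff.1 (mem_inf.1 hn').2) (hp.to_le inf_le_left)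
        (fun g hg n hn' => by
          rw [mem_inf, mem_centralizer_singleton_iff] at hn' ⊢
          refine ⟨hn.conj_mem n hn'.1 g, ?_⟩
          have c1 : Commute g t := hg
          have c2 : Commute n t := hn'.2
          exact ((c1.mul_left c2).mul_left c1.inv_left).eq)
        d (mem_inf.2 ⟨hd, mem_centralizer_singleton_iff.2 hdt⟩)
      have c1 : Commute (d * r) a := h.YJ _ hY a h.s.a_t h.ao
      -- `[r, a] ∈ Q ∩ F`
      have e1 : r * (a * r * a⁻¹)⁻¹ = d⁻¹ * (a * d * a⁻¹) := by
        have e2 : a * (d * r) * a⁻¹ = d * r := by rw [← c1.eq, mul_inv_cancel_right]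
        calc r * (a * r * a⁻¹)⁻¹ = d⁻¹ * (d * r) * (a * r * a⁻¹)⁻¹ := by group
          _ = d⁻¹ * (a * (d * r) * a⁻¹) * (a * r * a⁻¹)⁻¹ := by rw [e2]
          _ = _ := by group
      have h1 : r * (a * r * a⁻¹)⁻¹ = 1 ∨ r * (a * r * a⁻¹)⁻¹ = z := by
        apply hQF2
        · exact Q.mul_mem hr (Q.inv_mem (h.s.aQ r hr))
        · rw [e1]
          exact F.mul_mem (F.inv_mem hd) (hn.conj_mem d hd a)
      have h2 : r * (a * r * a⁻¹) = (a * r * a⁻¹) * r := by
        rcases h1 with e | e
        · rw [← mul_inv_eq_one.1 e]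
        · have e3 : r = z * (a * r * a⁻¹) := mul_inv_eq_iff_eq_mul.1 e
          have : ∀ u : X, r = z * u → r * u = u * r := by
            intro u e; rw [e, mul_assoc, ← sw, ]
          exact this _ e3
      have h3 : r = 1 ∨ r = z := by
        by_contra hne
        push Not at hne
        exact h.s.act r hr hne.1 hne.2 h2
      have c2 : Commute r a := by
        rcases h3 with rfl | rfl
        · exact Commute.one_left _
        · exact (h.zc a).symm
      have c3 := c1.mul_left c2.inv_left
      rw [mul_inv_cancel_right] at c3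
      exact c3
    have h4 := FZero.axb hp h.ao h.s.a_t h.tt (fun x hx => hn.conj_mem x hx a) (fun x hx => hn.conj_mem x hx t) hD
    have haF : a ∈ F := hself a fun x hx => (h4 x hx).symm
    obtain ⟨k, hk⟩ := hp ⟨a, haF⟩
    have hk' : a ^ 2 ^ k = 1 := congrArg Subtype.val hk
    have h5 : orderOf a ∣ 2 ^ k := orderOf_dvd_of_pow_eq_one hk'
    have h6 : orderOf a = 1 := by
      have h7 : (orderOf a).Coprime (2 ^ k) := Nat.Coprime.pow_right k (Nat.coprime_two_right.2 h.ao)
      exact Nat.eq_one_of_dvd_coprimes (a := orderOf a) (k := orderOf a) h7 dvd_rfl h5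
    rw [orderOf_eq_one_iff] at h6
    obtain ⟨q, -, hq⟩ := hne1
    exact hq (by rw [h6, one_mul, mul_one])
  have hiF := hQF hi
  have hjF := hQF hjQ
  have hij' : i * j = z * (j * i) := (hcm i hiF j hjF).resolve_left hij
  -- the four representatives for `Q`
  have four : ∀ f ∈ F, ∃ k : Fin 4, ∀ q ∈ Q, (f * (![1, i, j, i * j] k)) * q = q * (f * (![1, i, j, i * j] k)) := by
    intro f hf
    obtain ⟨k, hk1, hk2⟩ := FZero.exists_four h.zc h.zz hij' (hcm f hf i hiF) (hcm f hf j hjF)
    refine ⟨k, ?_⟩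
    have h1 := h.s.le_of_two h.zc h.zz h.z1 (H := Q ⊓ centralizer ({f * (![1, i, j, i * j] k)} : Set X))
      inf_le_left (mem_inf.2 ⟨h.s.zQ, mem_centralizer_singleton_iff.2 (h.zc _).symm⟩)
      (mem_inf.2 ⟨hi, mem_centralizer_singleton_iff.2 hk1.symm⟩)
      (mem_inf.2 ⟨hjQ, mem_centralizer_singleton_iff.2 hk2.symm⟩) hij
    intro q hq
    exact (mem_centralizer_singleton_iff.1 (mem_inf.1 (h1 hq)).2).symm
  have hrepQ : ∀ k : Fin 4, (![1, i, j, i * j] : Fin 4 → X) k ∈ Q := by
    intro k
    fin_cases k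
    exacts [Q.one_mem, hi, hjQ, Q.mul_mem hi hjQ]
  -- `B = F ∩ Y`
  set C1 := F ⊓ centralizer (Q : Set X) with hC1
  have mC1 : ∀ x, x ∈ C1 ↔ x ∈ F ∧ ∀ q ∈ Q, x * q = q * x := fun x => by
    rw [hC1, mem_inf, mem_centralizer_iff]
    exact and_congr_right fun _ => forall₂_congr fun q _ => eq_comm
  set B := C1 ⊓ centralizer ({t} : Set X) with hB
  have mB : ∀ x, x ∈ B ↔ x ∈ F ∧ In t Q x := fun x => by
    rw [hB, mem_inf, mC1, mem_centralizer_singleton_iff]
    exact ⟨fun h => ⟨h.1.1, h.2, h.1.2⟩, fun h => ⟨⟨h.1, h.2.2⟩, h.2.1⟩⟩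
  have hFC1 : Nat.card F ≤ 4 * Nat.card C1 := by
    refine FZero.card_le_four (![1, i, j, i * j]) fun f hf => ?_
    obtain ⟨k, hk⟩ := four f hf
    exact ⟨k, (mC1 _).2 ⟨F.mul_mem hf (hQF (hrepQ k)), hk⟩⟩
  by_cases htF : t ∈ F
  · -- (2)
    have h1 : Nat.card ↥(F ⊓ centralizer ({t} : Set X)) ≤ 4 * Nat.card B := by
      refine FZero.card_le_four (![1, i, j, i * j]) fun f hf => ?_
      rw [mem_inf, mem_centralizer_singleton_iff] at hf
      obtain ⟨k, hk⟩ := four f hf.1
      refine ⟨k, (mB _).2 ⟨F.mul_mem hf.1 (hQF (hrepQ k)), ?_, hk⟩⟩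
      have c1 : Commute f t := hf.2
      have c2 : Commute ((![1, i, j, i * j] : Fin 4 → X) k) t := h.s.ct _ (hrepQ k)
      exact (c1.mul_left c2).eq
    have h2 : Nat.card B ≤ 16 := h.sq16 B (fun y hy => ((mB y).1 hy).2) fun y hy => hsq y ((mB y).1 hy).1
    have h3 : Nat.card F ≤ 2 * Nat.card ↥(F ⊓ centralizer ({t} : Set X)) := by
      by_cases hex : ∃ p ∈ F, p * t ≠ t * p
      · obtain ⟨p, hpF, hpt⟩ := hex
        have hpt' : p * t = z * (t * p) := (hcm p hpF t htF).resolve_left hpt
        have h4 : (F : Set X) ⊆ (fun n => n) '' ((F ⊓ centralizer ({t} : Set X) : Subgroup X) : Set X) ∪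
            (fun n => n * p) '' ((F ⊓ centralizer ({t} : Set X) : Subgroup X) : Set X) := by
          intro f hf
          rcases hcm f hf t htF with e | e
          · left
            exact ⟨f, mem_inf.2 ⟨hf, mem_centralizer_singleton_iff.2 e⟩, rfl⟩
          · right
            refine ⟨f * p⁻¹, mem_inf.2 ⟨F.mul_mem hf (F.inv_mem hpF), mem_centralizer_singleton_iff.2 ?_⟩,
              by simp only [inv_mul_cancel_right]⟩
            have e1 : p⁻¹ * t = z * (t * p⁻¹) := by
              calc p⁻¹ * t = p⁻¹ * (z * (z * (t * p))) * p⁻¹ := by rw [hzz]; group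
                _ = z * (p⁻¹ * (z * (t * p)) * p⁻¹) := by rw [sw]; group
                _ = z * (t * p⁻¹) := by rw [← hpt']; group
            calc f * p⁻¹ * t = f * (p⁻¹ * t) := by group
              _ = z * (f * t * p⁻¹) := by rw [e1, sw]; group
              _ = z * (z * (t * f) * p⁻¹) := by rw [e]
              _ = z * (z * (t * (f * p⁻¹))) := by group
              _ = t * (f * p⁻¹) := hzz _
        have h5 := Set.ncard_le_ncard h4 (Set.toFinite _)
        have h6 := Set.ncard_union_le
          ((fun n => n) '' ((F ⊓ centralizer ({t} : Set X) : Subgroup X) : Set X))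
          ((fun n => n * p) '' ((F ⊓ centralizer ({t} : Set X) : Subgroup X) : Set X))
        have h7 := Set.ncard_image_le (f := fun n : X => n)
          (Set.toFinite ((F ⊓ centralizer ({t} : Set X) : Subgroup X) : Set X))
        have h8 := Set.ncard_image_le (f := fun n : X => n * p)
          (Set.toFinite ((F ⊓ centralizer ({t} : Set X) : Subgroup X) : Set X))
        have h9 : ((F ⊓ centralizer ({t} : Set X) : Subgroup X) : Set X).ncard =
          Nat.card ↥(F ⊓ centralizer ({t} : Set X)) := rfl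
        have h10 : (F : Set X).ncard = Nat.card F := rfl
        omega
      · push Not at hex
        have h4 : F ≤ F ⊓ centralizer ({t} : Set X) := fun f hf =>
          mem_inf.2 ⟨hf, mem_centralizer_singleton_iff.2 (hex f hf)⟩
        have := Subgroup.card_le_of_le h4
        omega
    omega
  · -- (3)
    have htzF : t * z ∉ F := by
      intro h1
      obtain ⟨s, hs⟩ := h.sw
      apply htF
      have h2 := hn.conj_mem _ h1 s⁻¹
      rw [← hs] at h2
      have e : s⁻¹ * (s * t * s⁻¹) * s⁻¹⁻¹ = t := by group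
      rwa [e] at h2
    obtain ⟨hS, -⟩ := h.SS B (fun y hy => ((mB y).1 hy).2) (fun h1 => htF ((mB t).1 h1).1)
      (fun h1 => htzF ((mB _).1 h1).1)
    have hzB : z ∈ B := (mB z).2 ⟨hzF, (h.zc t).symm, fun q _ => (h.zc q).symm⟩
    -- two elements whose product has a trivial square
    have hdich : ∀ x ∈ B, ∀ y ∈ B, x * y = y * x → x ≠ 1 → x ≠ z → y ≠ 1 → y ≠ z → y = x ∨ y = x * z := by
      intro x hx y hy hxy hx1 hxz hy1 hyz
      have hxx : x * x = z := ((hS x hx).resolve_left hx1).resolve_left hxz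
      have hyy : y * y = z := ((hS y hy).resolve_left hy1).resolve_left hyz
      have e1 : x * y * (x * y) = 1 := by
        calc x * y * (x * y) = x * (y * x) * y := by group
          _ = (x * x) * (y * y) := by rw [← hxy]; group
          _ = 1 := by rw [hxx, hyy, h.zz]
      have hxi : x⁻¹ = x * z := by rw [inv_eq_iff_mul_eq_one, ← mul_assoc, hxx, h.zz]
      rcases hS _ (B.mul_mem hx hy) with e | e | e
      · right
        rw [← hxi, eq_comm, inv_eq_iff_mul_eq_one]; exact e
      · left
        calc y = x⁻¹ * (x * y) := by group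
          _ = x * z * z := by rw [e, hxi]
          _ = x := by rw [mul_assoc, h.zz, mul_one]
      · exact absurd (e.symm.trans e1) h.z1
    have hC1t : ∀ f ∈ C1, t * f * t⁻¹ ∈ C1 := by
      intro f hf
      rw [mC1] at hf ⊢
      refine ⟨hn.conj_mem f hf.1 t, fun q hq => ?_⟩
      have c1 : Commute f q := hf.2 q hq
      have c2 : Commute t q := (h.s.ct q hq).symm
      exact ((c2.mul_left c1).mul_left c2.inv_left).eq
    by_cases hcomm : ∀ x ∈ B, ∀ y ∈ B, x * y = y * x
    · -- `|B| ≤ 4`
      have hB4 : Nat.card B ≤ 4 := by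
        have key : ∃ x : X, (B : Set X) ⊆ (({1, z, x, x * z} : Finset X) : Set X) := by
          by_cases hex : ∃ x ∈ B, x ≠ 1 ∧ x ≠ z
          · obtain ⟨x, hx, hx1, hxz⟩ := hex
            refine ⟨x, fun y hy => ?_⟩
            simp only [Finset.coe_insert, Finset.coe_singleton, Set.mem_insert_iff, Set.mem_singleton_iff]
            by_cases hy1 : y = 1
            · exact Or.inl hy1
            by_cases hyz : y = z
            · exact Or.inr (Or.inl hyz)
            exact Or.inr (Or.inr (hdich x hx y hy (hcomm x hx y hy) hx1 hxz hy1 hyz))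
          · push Not at hex
            refine ⟨1, fun y hy => ?_⟩
            simp only [Finset.coe_insert, Finset.coe_singleton, Set.mem_insert_iff, Set.mem_singleton_iff]
            by_cases hy1 : y = 1
            · exact Or.inl hy1
            · exact Or.inr (Or.inl (hex y hy hy1))
        obtain ⟨x, hx⟩ := key
        have h1 := Set.ncard_le_ncard hx (Set.toFinite _)
        rw [Set.ncard_coe_finset] at h1
        have h2 : ({1, z, x, x * z} : Finset X).card ≤ 4 := Finset.card_le_four
        have h3 : (B : Set X).ncard = Nat.card B := rfl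
        omega
      have h1 := FZero.card_two h.zc h.zz h.tt (F := C1) (fun f hf => hsq f ((mC1 f).1 hf).1) hC1t
      rw [← hB] at h1
      have h2 : 2 * Nat.card B * Nat.card B ≤ 2 * 4 * 4 := Nat.mul_le_mul (Nat.mul_le_mul_left _ hB4) hB4
      omega
    · push Not at hcomm
      obtain ⟨x, hx, y, hy, hxy⟩ := hcomm
      have hxF := ((mB x).1 hx).1
      have hyF := ((mB y).1 hy).1
      have hx1 : x ≠ 1 := by rintro rfl; exact hxy (by rw [one_mul, mul_one])
      have hxz : x ≠ z := by rintro rfl; exact hxy (h.zc y).symm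
      have hxy' : x * y = z * (y * x) := (hcm x hxF y hyF).resolve_left hxy
      set E1 := C1 ⊓ (centralizer ({x} : Set X) ⊓ centralizer ({y} : Set X)) with hE1
      have mE1 : ∀ e, e ∈ E1 ↔ e ∈ C1 ∧ e * x = x * e ∧ e * y = y * e := fun e => by
        rw [← mem_centralizer_singleton_iff, ← mem_centralizer_singleton_iff]
        exact Iff.rfl
      have h1 : Nat.card C1 ≤ 4 * Nat.card E1 := by
        refine FZero.card_le_four (![1, x, y, x * y]) fun f hf => ?_
        have hfF := ((mC1 f).1 hf).1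
        obtain ⟨k, hk1, hk2⟩ := FZero.exists_four h.zc h.zz hxy' (hcm f hfF x hxF) (hcm f hfF y hyF)
        refine ⟨k, (mE1 _).2 ⟨C1.mul_mem hf ?_, hk1, hk2⟩⟩
        have hxC : x ∈ C1 := (mem_inf.1 (hB ▸ hx : x ∈ C1 ⊓ centralizer ({t} : Set X))).1
        have hyC : y ∈ C1 := (mem_inf.1 (hB ▸ hy : y ∈ C1 ⊓ centralizer ({t} : Set X))).1
        fin_cases k
        exacts [C1.one_mem, hxC, hyC, C1.mul_mem hxC hyC]
      have hxt : Commute x t := ((mB x).1 hx).2.1
      have hyt : Commute y t := ((mB y).1 hy).2.1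
      have h2 : Nat.card ↥(E1 ⊓ centralizer ({t} : Set X)) ≤ 2 := by
        have h3 : ((E1 ⊓ centralizer ({t} : Set X) : Subgroup X) : Set X) ⊆ (({1, z} : Finset X) : Set X) := by
          intro e he
          have he' : e ∈ E1 ⊓ centralizer ({t} : Set X) := he
          rw [mem_inf, mE1, mem_centralizer_singleton_iff] at he'
          obtain ⟨⟨heC, hex, hey⟩, het⟩ := he'
          have heB : e ∈ B := (mB e).2 ⟨((mC1 e).1 heC).1, het, ((mC1 e).1 heC).2⟩
          simp only [Finset.coe_insert, Finset.coe_singleton, Set.mem_insert_iff, Set.mem_singleton_iff]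
          by_contra hne
          push Not at hne
          rcases hdich e heB x hx hex hne.1 hne.2 hx1 hxz with e1 | e1
          · exact hxy (by rw [e1]; exact hey)
          · apply hxy
            rw [e1, mul_assoc, ← h.zc y, ← mul_assoc, hey, mul_assoc]
        have h4 := Set.ncard_le_ncard h3 (Set.toFinite _)
        rw [Set.ncard_coe_finset] at h4
        have h5 : ({1, z} : Finset X).card ≤ 2 := Finset.card_le_two
        have h6 : ((E1 ⊓ centralizer ({t} : Set X) : Subgroup X) : Set X).ncard =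
          Nat.card ↥(E1 ⊓ centralizer ({t} : Set X)) := rfl
        omega
      have h3 := FZero.card_two h.zc h.zz h.tt (F := E1)
        (fun f hf => hsq f ((mC1 f).1 ((mE1 f).1 hf).1).1) (fun f hf => by
          rw [mE1] at hf ⊢
          refine ⟨hC1t f hf.1, ?_, ?_⟩
          · have c1 : Commute f x := hf.2.1
            exact ((hxt.symm.mul_left c1).mul_left hxt.symm.inv_left).eq
          · have c1 : Commute f y := hf.2.2
            exact ((hyt.symm.mul_left c1).mul_left hyt.symm.inv_left).eq)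
      have h4 : 2 * Nat.card ↥(E1 ⊓ centralizer ({t} : Set X)) * Nat.card ↥(E1 ⊓ centralizer ({t} : Set X)) ≤
        2 * 2 * 2 := Nat.mul_le_mul (Nat.mul_le_mul_left _ h2) h2
      omega

end Hyp

end Cfsg.Agent.OddHalf.D6.RThree
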