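import Mathlib

/-!
# ODD half, D6, `L₃(3)` and `U₃(3)`: the facts on `K` (helper783)

`z` a 2-central involution of `K`, `J = O²(C_K(z)) = SL₂(3)`, `Q = O₂(J)`. The automorphisms of `K` trivial on `Q` form a
group `⟨f⟩` of order 4 (`L₃(3)`; `f` an outer automorphism, `f² = z`) or a quaternion group `⟨c, f⟩` (`U₃(3)`; `c ∈ Z(C_K(z))`).
-/

set_option autoImplicit false

namespace Cfsg.Agent.OddHalf.D6.RThree.Facts

open Subgroup

variable {K : Type*} [Group K]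

/-- the subgroup generated by the elements of odd order of `C_K(z)` -/
def J (z : K) : Subgroup K := closure {x : K | x * z = z * x ∧ Odd (orderOf x)}

/-- `α` is trivial on `Q` -/
def Triv (Q : Subgroup K) (α : MulAut K) : Prop := ∀ q ∈ Q, α q = q

/-- `α` acts on `Q` as an element of `Q` -/
def Inner (Q : Subgroup K) (α : MulAut K) : Prop := ∃ r ∈ Q, ∀ q ∈ Q, α q = r * q * r⁻¹

/-- the facts on `K` -/
structure One (z : K) (Q : Subgroup K) : Prop where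
  zz : z * z = 1
  z1 : z ≠ 1
  /-- `z` is 2-central -/
  odd : Odd (centralizer ({z} : Set K)).index
  zQ : z ∈ Q
  card : Nat.card Q = 8
  sq : ∀ q ∈ Q, q ≠ 1 → q ≠ z → q * q = z
  aut : ∀ α : MulAut K, α z = z → ∀ q ∈ Q, α q ∈ Q
  ex : ∃ a : K, a * z = z * a ∧ Odd (orderOf a) ∧
    ∀ q ∈ Q, q ≠ 1 → q ≠ z → q * (a * q * a⁻¹) ≠ a * q * a⁻¹ * q
  jQ : ∀ x ∈ J z, (∀ q ∈ Q, x * q = q * x) → x = 1 ∨ x = z
  jz : ∀ x ∈ J z, x * x = 1 → x = 1 ∨ x = z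
  out : (MulAut.conj : K →* MulAut K).range.index ∣ 2
  k1 : ∀ α : MulAut K, Triv Q α → α = 1 ∨ α = MulAut.conj z ∨ α * α = MulAut.conj z
  k2 : Nat.card {α : MulAut K // Triv Q α} ≤ 8
  k3 : ∀ α : MulAut K, Triv Q α → ∀ x ∈ J z, α x = x
  /-- a 2-element of `C_K(z)` acting on `Q` as an outer automorphism -/
  exp : ∃ p : K, p * z = z * p ∧ IsPGroup 2 (zpowers p) ∧ ¬ Inner Q (MulAut.conj p)
  k5 : ∀ α : MulAut K, Triv Q α → α ∉ (MulAut.conj : K →* MulAut K).range → ∀ x : K, x * z = z * x →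
    IsPGroup 2 (zpowers x) → ¬ Inner Q (MulAut.conj x) → α x ≠ x
  /-- `L₃(3)`: void, as `γ` inverts `κ` -/
  sq4 : ∀ γ κ : MulAut K, γ z = z → IsPGroup 2 (zpowers γ) → ¬ Inner Q γ → Triv Q κ → κ * κ = MulAut.conj z →
    γ * κ = κ * γ → (∀ x : K, x * z = z * x → MulAut.conj x * κ * (MulAut.conj x)⁻¹ = κ ∨
      MulAut.conj x * κ * (MulAut.conj x)⁻¹ = κ * MulAut.conj z) →
    ∃ r ∈ Q, ∃ β : MulAut K, Triv Q β ∧ β * β = MulAut.conj z ∧ γ * γ = β * MulAut.conj r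
  /-- `L₃(3)`: void -/
  q8 : ∀ γ κ₁ κ₂ : MulAut K, γ z = z → IsPGroup 2 (zpowers γ) → ¬ Inner Q γ → Triv Q κ₁ → Triv Q κ₂ →
    κ₁ * κ₂ ≠ κ₂ * κ₁ → ∃ κ : MulAut K, Triv Q κ ∧ γ * κ * γ⁻¹ ≠ κ ∧ γ * κ * γ⁻¹ ≠ κ * MulAut.conj z
  big : 189 ∣ Nat.card K ∨ 351 ∣ Nat.card K

end Cfsg.Agent.OddHalf.D6.RThree.Facts
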