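import Cfsg.Agent.OddHalf.D5.SixAut.SymList
import Cfsg.Agent.OddHalf.D8.HS.Elim
import Cfsg.Agent.OddHalf.D8.JTwo.Large
import Cfsg.Agent.OddHalf.Small.M24Char
import Cfsg.Agent.S0280
import Cfsg.Agent.S1625

/-!
# D6, rows `L₃(3)` and `U₃(3)`: the case "symplectic type" (helper143)

`kill`: in a counterexample to S1765 whose order is divisible by `27 · 7` or `27 · 13` there is no 2-central
involution `z` for which `F*(C(z))` is a 2-group without noncyclic characteristic abelian subgroups and (if extraspecial)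
of order at most `2 ^ 7`.
-/

set_option autoImplicit false

namespace Cfsg.Agent.OddHalf.D6.RThree.Kill

open Subgroup Cfsg
open Cfsg.Agent.OddHalf Cfsg.Agent.OddHalf.D5

universe u

/-- S1759 -/
def P1759 : Prop :=
  ∀ (G : Type u) [Group G] [Finite G] (z : G) (_ : orderOf z = 2) (_ : Cfsg.IsOfSymplecticType ↥(Cfsg.generalizedFittingSubgroup ↥(Subgroup.centralizer ({z} : Set G)))) (_ : Cfsg.IsExtraspecial 2 ↥(Cfsg.generalizedFittingSubgroup ↥(Subgroup.centralizer ({z} : Set G))))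
    (_ : Nat.card ↥(Cfsg.generalizedFittingSubgroup ↥(Subgroup.centralizer ({z} : Set G))) = 32) (_ : IsSimpleGroup ↥(Cfsg.generalizedFittingSubgroup G))
    (_ : ¬ IsMulCommutative ↥(Cfsg.generalizedFittingSubgroup G)),
    (∃ (F : Type) (_ : Field F) (_ : Fintype F), Fintype.card F = 9 ∧ (Nonempty (↥(Cfsg.generalizedFittingSubgroup G) ≃* Cfsg.PSU 3 F 3) ∨ Nonempty (↥(Cfsg.generalizedFittingSubgroup G) ≃* Cfsg.PSU 4 F 3))) ∨
      (∃ (F : Type) (_ : Field F) (_ : Fintype F), Fintype.card F = 4 ∧ Nonempty (↥(Cfsg.generalizedFittingSubgroup G) ≃* Cfsg.PSU 4 F 2)) ∨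
      (∃ (F : Type) (_ : Field F) (_ : Fintype F), Fintype.card F = 3 ∧ (Nonempty (↥(Cfsg.generalizedFittingSubgroup G) ≃* Matrix.ProjectiveSpecialLinearGroup (Fin 4) F) ∨
        Nonempty (↥(Cfsg.generalizedFittingSubgroup G) ≃* ↥(Cfsg.Lie.chevG2.group F)))) ∨
      Nonempty (↥(Cfsg.generalizedFittingSubgroup G) ≃* ↥(alternatingGroup (Fin 8))) ∨
      Nonempty (↥(Cfsg.generalizedFittingSubgroup G) ≃* ↥(alternatingGroup (Fin 9))) ∨
      Cfsg.Spor.IsoM12 ↥(Cfsg.generalizedFittingSubgroup G) ∨ Cfsg.Spor.IsoJ2 ↥(Cfsg.generalizedFittingSubgroup G) ∨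
      Cfsg.Spor.IsoJ3 ↥(Cfsg.generalizedFittingSubgroup G)

/-! ### Orders -/

/-- `27` does not divide the order of `PSL(5, 2)` -/
theorem psl5 {F : Type*} [Field F] [Fintype F] (hF : Fintype.card F = 2) :
    ¬ 27 ∣ Nat.card (Matrix.ProjectiveSpecialLinearGroup (Fin 5) F) := by
  classical
  intro h
  have h1 : Nat.card (Matrix.ProjectiveSpecialLinearGroup (Fin 5) F) ∣
      Nat.card (Matrix.SpecialLinearGroup (Fin 5) F) := by
    exact Subgroup.card_quotient_dvd_card _
  have h2 : Nat.card (Matrix.SpecialLinearGroup (Fin 5) F) ∣ Nat.card (GL (Fin 5) F) := by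
    have hinj : Function.Injective (Matrix.SpecialLinearGroup.toGL : Matrix.SpecialLinearGroup (Fin 5) F →* GL (Fin 5) F) :=
      Matrix.SpecialLinearGroup.toGL_injective
    exact Subgroup.card_dvd_of_injective _ hinj
  have h3 := (h.trans h1).trans h2
  rw [Matrix.card_GL_field, hF] at h3
  simp only [Fin.prod_univ_succ, Fin.prod_univ_zero] at h3
  norm_num at h3

theorem card_psu42 {F : Type} [Field F] [Fintype F] (hF : Fintype.card F = 4) :
    Nat.card (Cfsg.PSU 4 F 2) = 25920 := by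
  have h := Cfsg.Agent.S0280.result (F := F) (q := 2) (by rw [hF]; norm_num) 4 (by norm_num)
  simp [Finset.prod_range_succ, Nat.even_iff] at h
  omega

/-- the two orders -/
theorem not_hK {n : ℕ} (h : 189 ∣ n ∨ 351 ∣ n) : 27 ∣ n ∧ (7 ∣ n ∨ 13 ∣ n) := by
  rcases h with h | h
  · exact ⟨(by norm_num : (27 : ℕ) ∣ 189).trans h, Or.inl ((by norm_num : (7 : ℕ) ∣ 189).trans h)⟩
  · exact ⟨(by norm_num : (27 : ℕ) ∣ 351).trans h, Or.inr ((by norm_num : (13 : ℕ) ∣ 351).trans h)⟩

/-! ### `|F| = 8` -/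

section Eight

variable {G : Type*} [Group G] {z : G} {F : Subgroup G}

/-- an orbit of `H` under conjugation has `|H : C_H(a)|` elements -/
theorem card_orb [Finite G] (H : Subgroup G) (a : G) :
    Nat.card ↥H = Nat.card ↥{c : G | ∃ h ∈ H, c = h * a * h⁻¹} * Nat.card ↥(H ⊓ centralizer ({a} : Set G)) := by
  classical
  let _ : MulAction ↥H G := MulAction.compHom G ((MulAut.conj : G →* MulAut G).comp H.subtype)
  have hsmul : ∀ (h : ↥H) (c : G), h • c = (h : G) * c * (h : G)⁻¹ := fun h c => rfl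
  have h1 : Nat.card ↥(MulAction.orbit ↥H a) * Nat.card ↥(MulAction.stabilizer ↥H a) = Nat.card ↥H := by
    rw [← Nat.card_prod]
    exact Nat.card_congr (MulAction.orbitProdStabilizerEquivGroup ↥H a)
  have h2 : MulAction.orbit ↥H a = {c : G | ∃ h ∈ H, c = h * a * h⁻¹} := by
    ext c
    constructor
    · rintro ⟨h, rfl⟩
      exact ⟨h, h.2, hsmul h a⟩
    · rintro ⟨h, hh, rfl⟩
      exact ⟨⟨h, hh⟩, hsmul _ a⟩
  have h3 : Nat.card ↥(MulAction.stabilizer ↥H a) = Nat.card ↥(H ⊓ centralizer ({a} : Set G)) := by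
    have h4 : (MulAction.stabilizer ↥H a).map H.subtype = H ⊓ centralizer ({a} : Set G) := by
      ext c
      rw [mem_map, mem_inf, mem_centralizer_singleton_iff]
      constructor
      · rintro ⟨h, hh, rfl⟩
        have e : (h : G) * a * (h : G)⁻¹ = a := (hsmul h a).symm.trans (MulAction.mem_stabilizer_iff.1 hh)
        exact ⟨h.2, mul_inv_eq_iff_eq_mul.1 e⟩
      · rintro ⟨hc, e⟩
        refine ⟨⟨c, hc⟩, ?_, rfl⟩
        rw [MulAction.mem_stabilizer_iff, hsmul]
        exact mul_inv_eq_iff_eq_mul.2 e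
    rw [← h4]
    exact Nat.card_congr ((MulAction.stabilizer ↥H a).equivMapOfInjective _ H.subtype_injective).toEquiv
  rw [← h2, ← h3, h1]

/-- the same, with a bound -/
theorem two_of_orb [Finite G] {H : Subgroup G} {k : ℕ} (hH : Nat.card ↥H = 2 ^ k) (a : G) :
    ∃ j : ℕ, Nat.card ↥{c : G | ∃ h ∈ H, c = h * a * h⁻¹} = 2 ^ j := by
  have h1 : Nat.card ↥{c : G | ∃ h ∈ H, c = h * a * h⁻¹} ∣ 2 ^ k := by
    rw [← hH]
    exact ⟨_, card_orb H a⟩
  obtain ⟨j, -, hj⟩ := (Nat.dvd_prime_pow Nat.prime_two).1 h1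
  exact ⟨j, hj⟩

/-- `|T| ≤ 16` -/
theorem not_32 [Finite G] (hF : SixAut.SymF z F) (hz : z ≠ 1) (h8 : Nat.card ↥F = 8) {T : Subgroup G}
    (hT : ∀ t ∈ T, t * z = z * t) (hcT : Nat.card ↥T = 2 ^ 5) : False := by
  classical
  set S : Set G := (F : Set G) \ {1, z} with hSdef
  have hS : Set.ncard S = 6 := by
    have h1 : Set.ncard (F : Set G) = 8 := by rw [← Nat.card_coe_set_eq]; exact h8
    have h2 : ({1, z} : Set G) ⊆ (F : Set G) := by
      rintro x (rfl | rfl)
      · exact F.one_mem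
      · exact hF.zF
    have h3 := Set.ncard_sdiff_add_ncard_of_subset h2
    have h4 : Set.ncard ({1, z} : Set G) = 2 := Set.ncard_pair hz.symm
    rw [h1, h4, ← hSdef] at h3
    omega
  have hconj : ∀ t ∈ T, ∀ c ∈ S, t * c * t⁻¹ ∈ S := by
    rintro t ht c ⟨hc, hc1⟩
    refine ⟨hF.norm t (hT t ht) c hc, ?_⟩
    rintro (e | e)
    · apply hc1
      left
      calc c = t⁻¹ * (t * c * t⁻¹) * t := by group
        _ = 1 := by rw [e]; group
    · apply hc1
      right
      have e' : t * c * t⁻¹ = z := e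
      calc c = t⁻¹ * (t * c * t⁻¹) * t := by group
        _ = t⁻¹ * (z * t) := by rw [e', mul_assoc]
        _ = t⁻¹ * (t * z) := by rw [hT t ht]
        _ = z := by group
  -- an orbit with at most two elements
  have hsmall : ∃ a ∈ S, Nat.card ↥{c : G | ∃ h ∈ T, c = h * a * h⁻¹} ≤ 2 := by
    have hne : S.Nonempty := by
      rw [← Set.ncard_pos (Set.toFinite _)]
      omega
    obtain ⟨a, ha⟩ := hne
    obtain ⟨j, hj⟩ := two_of_orb hcT a
    have hsub : {c : G | ∃ h ∈ T, c = h * a * h⁻¹} ⊆ S := by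
      rintro c ⟨h, hh, rfl⟩
      exact hconj h hh a ha
    have hle : Nat.card ↥{c : G | ∃ h ∈ T, c = h * a * h⁻¹} ≤ 6 := by
      rw [Nat.card_coe_set_eq, ← hS]
      exact Set.ncard_le_ncard hsub (Set.toFinite _)
    have hj3 : j < 3 := by
      by_contra hj3
      have : 2 ^ 3 ≤ 2 ^ j := Nat.pow_le_pow_right (by norm_num) (by omega)
      omega
    by_cases h2 : Nat.card ↥{c : G | ∃ h ∈ T, c = h * a * h⁻¹} ≤ 2
    · exact ⟨a, ha, h2⟩
    have h4 : Nat.card ↥{c : G | ∃ h ∈ T, c = h * a * h⁻¹} = 4 := by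
      interval_cases j
      · rw [hj] at h2; norm_num at h2
      · rw [hj] at h2; norm_num at h2
      · rw [hj]; norm_num
    rw [Nat.card_coe_set_eq] at h4
    have h5 := Set.ncard_sdiff_add_ncard_of_subset hsub
    have h6 : (S \ {c : G | ∃ h ∈ T, c = h * a * h⁻¹}).Nonempty := by
      rw [← Set.ncard_pos (Set.toFinite _)]
      omega
    obtain ⟨b, hb, hb'⟩ := h6
    refine ⟨b, hb, ?_⟩
    have hsub' : {c : G | ∃ h ∈ T, c = h * b * h⁻¹} ⊆ S \ {c : G | ∃ h ∈ T, c = h * a * h⁻¹} := by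
      rintro c ⟨h, hh, rfl⟩
      refine ⟨hconj h hh b hb, ?_⟩
      rintro ⟨k, hk, e⟩
      apply hb'
      refine ⟨h⁻¹ * k, mul_mem (inv_mem hh) hk, ?_⟩
      calc b = h⁻¹ * (h * b * h⁻¹) * h := by group
        _ = h⁻¹ * (k * a * k⁻¹) * h := by rw [e]
        _ = _ := by group
    have h7 := Set.ncard_le_ncard hsub' (Set.toFinite _)
    rw [Nat.card_coe_set_eq]
    omega
  obtain ⟨a, ⟨ha, ha1⟩, horb⟩ := hsmall
  obtain ⟨b, hb, hab⟩ : ∃ b ∈ F, a * b ≠ b * a := by
    by_contra hno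
    push Not at hno
    rcases hF.cen a ha hno with e | e
    · exact ha1 (Or.inl e)
    · exact ha1 (Or.inr e)
  have ha1' : a ≠ 1 := by rintro rfl; apply hab; group
  have hb1 : b ≠ 1 := by rintro rfl; apply hab; group
  have h1 := card_orb T a
  set H1 : Subgroup G := T ⊓ centralizer ({a} : Set G) with hH1
  have hH1le : H1 ≤ T := inf_le_left
  obtain ⟨k, -, hk⟩ : ∃ k, k ≤ 5 ∧ Nat.card ↥H1 = 2 ^ k := by
    have : Nat.card ↥H1 ∣ 2 ^ 5 := by
      have := Subgroup.card_dvd_of_le hH1le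
      rwa [hcT] at this
    exact (Nat.dvd_prime_pow Nat.prime_two).1 this
  have hS7 : Nat.card ↥((F : Set G) \ {1} : Set G) ≤ 7 := by
    have h1 : Set.ncard ((F : Set G) \ {1}) + 1 = Set.ncard (F : Set G) :=
      Set.ncard_sdiff_singleton_add_one F.one_mem (Set.toFinite _)
    have h2 : Set.ncard (F : Set G) = 8 := by rw [← Nat.card_coe_set_eq]; exact h8
    rw [Nat.card_coe_set_eq]; omega
  have hconj' : ∀ h ∈ H1, h * b * h⁻¹ ∈ ((F : Set G) \ {1} : Set G) := by
    intro h hh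
    refine ⟨hF.norm h (hT h (hH1le hh)) b hb, ?_⟩
    intro e
    apply hb1
    have e' : h * b * h⁻¹ = 1 := e
    calc b = h⁻¹ * (h * b * h⁻¹) * h := by group
      _ = 1 := by rw [e']; group
  have h2 := SixAut.SymT.stab_ge hk hS7 hconj'
  -- an element centralizing `a`, `b` lies in `{1, z}`
  have hsub : ((H1 ⊓ centralizer ({b} : Set G) : Subgroup G) : Set G) ⊆ {1, z} := by
    intro t ht
    have ht' : t ∈ H1 ⊓ centralizer ({b} : Set G) := ht
    rw [mem_inf, hH1, mem_inf, mem_centralizer_singleton_iff, mem_centralizer_singleton_iff] at ht'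
    obtain ⟨⟨htT, hta⟩, htb⟩ := ht'
    -- the centralizer of `t` in `F`
    set D : Subgroup G := F ⊓ centralizer ({t} : Set G) with hD
    have haD : a ∈ D := ⟨ha, mem_centralizer_singleton_iff.2 hta.symm⟩
    have hbD : b ∈ D := ⟨hb, mem_centralizer_singleton_iff.2 htb.symm⟩
    have hDF : D = F := by
      have hle : D ≤ F := inf_le_left
      have hdvd : Nat.card ↥D ∣ 8 := h8 ▸ Subgroup.card_dvd_of_le hle
      refine Subgroup.eq_of_le_of_card_ge hle ?_
      rw [h8]
      by_contra hlt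
      have h4 : Nat.card ↥D ≤ 4 := by
        have h5 : Nat.card ↥D < 8 := by omega
        obtain ⟨m, hm⟩ := hdvd
        have : 2 ≤ m := by
          by_contra hm2
          interval_cases m <;> omega
        have : Nat.card ↥D * 2 ≤ Nat.card ↥D * m := Nat.mul_le_mul_left _ this
        omega
      have h5 : ({1, a, b, a * b, b * a} : Finset G).card = 5 := by
        rw [Finset.card_insert_of_notMem, Finset.card_insert_of_notMem, Finset.card_insert_of_notMem,
          Finset.card_pair hab]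
        · simp only [Finset.mem_insert, Finset.mem_singleton, not_or]
          exact ⟨fun e => ha1' (right_eq_mul.1 e), fun e => ha1' (left_eq_mul.1 e)⟩
        · simp only [Finset.mem_insert, Finset.mem_singleton, not_or]
          exact ⟨fun e => hab (by rw [e]), fun e => hb1 (left_eq_mul.1 e), fun e => hb1 (right_eq_mul.1 e)⟩
        · simp only [Finset.mem_insert, Finset.mem_singleton, not_or]
          refine ⟨ha1'.symm, hb1.symm, fun e => hab ?_, fun e => hab ?_⟩
          · have hb' : b = a⁻¹ := (inv_eq_of_mul_eq_one_right e.symm).symm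
            rw [hb']; group
          · have hb' : a = b⁻¹ := (inv_eq_of_mul_eq_one_right e.symm).symm
            rw [hb']; group
      have h6 : ((({1, a, b, a * b, b * a} : Finset G)) : Set G) ⊆ (D : Set G) := by
        intro g hg
        simp only [Finset.coe_insert, Finset.coe_singleton, Set.mem_insert_iff, Set.mem_singleton_iff] at hg
        rcases hg with rfl | rfl | rfl | rfl | rfl
        · exact D.one_mem
        · exact haD
        · exact hbD
        · exact D.mul_mem haD hbD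
        · exact D.mul_mem hbD haD
      have h7 := Set.ncard_le_ncard h6 (Set.toFinite _)
      rw [Set.ncard_coe_finset, h5, ← Nat.card_coe_set_eq] at h7
      have h8 : Nat.card ↥(D : Set G) = Nat.card ↥D := rfl
      omega
    have htF : ∀ c ∈ F, t * c = c * t := by
      intro c hc
      rw [← hDF, hD, mem_inf, mem_centralizer_singleton_iff] at hc
      exact hc.2.symm
    rcases hF.cen t (hF.self t htF) htF with e | e
    · left; exact e
    · right; exact e
  have h3 : Nat.card ↥((H1 ⊓ centralizer ({b} : Set G) : Subgroup G) : Set G) ≤ 2 := by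
    refine (Nat.card_mono (Set.toFinite _) hsub).trans ?_
    rw [Nat.card_coe_set_eq]; exact (Set.ncard_insert_le _ _).trans (by rw [Set.ncard_singleton])
  have h4 : Nat.card ↥((H1 ⊓ centralizer ({b} : Set G) : Subgroup G) : Set G) =
      Nat.card ↥(H1 ⊓ centralizer ({b} : Set G)) := rfl
  have h5 : Nat.card ↥H1 ≤ 8 := by omega
  have h6 : Nat.card ↥T ≤ 2 * 8 := by
    rw [h1]
    exact Nat.mul_le_mul horb h5
  rw [hcT] at h6
  norm_num at h6

end Eight

/-- If `2 ^ (k + 1)` does not divide the order of `G`, then the sectional 2-rank of `G` is at most `k`. -/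
theorem sect_of_not_dvd {G : Type*} [Group G] [Finite G] {k : ℕ} (h : ¬ 2 ^ (k + 1) ∣ Nat.card G) :
    SectionalPRankLE 2 k G := by
  have : Fact (Nat.Prime 2) := ⟨Nat.prime_two⟩
  intro H N _ A _ hA
  by_contra hcon
  push Not at hcon
  have hp : IsPGroup 2 ↥A := fun a => ⟨1, by rw [pow_one]; exact Subtype.ext (hA a a.2)⟩
  obtain ⟨n, hn⟩ := hp.exists_card_eq
  rw [hn] at hcon
  have hk : k + 1 ≤ n := (Nat.pow_lt_pow_iff_right (by norm_num)).1 hcon
  apply h
  calc 2 ^ (k + 1) ∣ 2 ^ n := pow_dvd_pow 2 hk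
    _ = Nat.card ↥A := hn.symm
    _ ∣ Nat.card (↥H ⧸ N) := Subgroup.card_subgroup_dvd_card A
    _ ∣ Nat.card ↥H := Subgroup.card_quotient_dvd_card N
    _ ∣ Nat.card G := Subgroup.card_subgroup_dvd_card H

/-- the case `|F| = 8` -/
theorem kill_8 {G : Type u} [Group G] (C : Iface.Ctx G) {z : G} (hz : z ≠ 1)
    (hodd : Odd (centralizer ({z} : Set G)).index) {F : Subgroup G} (hF : SixAut.SymF z F)
    (h8 : Nat.card ↥F = 8) : False := by
  have := C.fin
  have : Fact (Nat.Prime 2) := ⟨Nat.prime_two⟩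
  refine C.sect5 (sect_of_not_dvd (k := 4) ?_)
  intro hd
  have h1 : 2 ^ 5 ∣ Nat.card ↥(centralizer ({z} : Set G)) := by
    rw [← Subgroup.card_mul_index (centralizer ({z} : Set G))] at hd
    refine Nat.Coprime.dvd_of_dvd_mul_right ?_ hd
    exact Nat.Coprime.pow_left 5 (Nat.coprime_two_left.2 hodd)
  obtain ⟨K, hK⟩ := Sylow.exists_subgroup_card_pow_prime 2 h1
  have h2 : Nat.card ↥(K.map (centralizer ({z} : Set G)).subtype) = 2 ^ 5 := by
    rw [← hK]
    exact (Nat.card_congr (K.equivMapOfInjective _ (centralizer ({z} : Set G)).subtype_injective).toEquiv).symm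
  refine not_32 hF hz h8 (T := K.map (centralizer ({z} : Set G)).subtype) ?_ h2
  rintro t ⟨k, -, rfl⟩
  exact mem_centralizer_singleton_iff.1 k.2

/-- the list of S1759 -/
theorem list32_false (R : Small.Excl.Rows) {G : Type u} [Group G] (hC : Iface.Ctx G)
    (hK : 189 ∣ Nat.card G ∨ 351 ∣ Nat.card G) (h : SixAut.List32 G) : False := by
  have := hC.fin
  have := hC.simple
  have h2 := hC.notTwo
  obtain ⟨h27, h713⟩ := not_hK hK
  apply hC.nc
  rcases h with ⟨F, _, _, hF, e | e⟩ | ⟨F, _, _, hF, ⟨e⟩⟩ | ⟨F, _, _, hF, e | e⟩ | e | e | h | h | h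
  · exact Small.Plug.concl_of_lieOdd R h2 (Small.Plug.lieOdd_psu F (q := 3) (by rw [hF]; norm_num) (by decide) le_rfl e)
  · exact Small.Plug.concl_of_lieOdd R h2
      (Small.Plug.lieOdd_psu F (q := 3) (by rw [hF]; norm_num) (by decide) (by norm_num) e)
  · exfalso
    rw [Nat.card_congr e.toEquiv, card_psu42 hF] at h713
    norm_num at h713
  · exact Small.Plug.concl_of_lieOdd R h2 (Small.Plug.lieOdd_psl F (by rw [hF]; decide) (by norm_num)
      (fun h => absurd h (by norm_num)) e)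
  · exact Small.Plug.concl_of_lieOdd R h2 (Small.Plug.lieOdd_g2 F (by rw [hF]; decide) e)
  · exact absurd (Small.Alt.result (Or.inr (Or.inr rfl)) e) h2
  · exact Small.Plug.concl_alt (Or.inr le_rfl) e
  · exact Small.Plug.concl_m12 h
  · exact Small.Plug.concl_j2 h
  · exfalso
    obtain ⟨F, _, _, ω, hF, hω, ⟨e⟩⟩ := h
    rw [Nat.card_congr e.toEquiv, (S1625.result F hF ω hω).2.2.1] at h713
    norm_num at h713

/-- the list of S1762 -/
theorem list128_false {G : Type u} [Group G] (hC : Iface.Ctx G)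
    (hK : 189 ∣ Nat.card G ∨ 351 ∣ Nat.card G)
    (h : (∃ (F : Type) (_ : Field F) (_ : Fintype F), Fintype.card F = 2 ∧ Nonempty (G ≃* Matrix.ProjectiveSpecialLinearGroup (Fin 5) F)) ∨
      (∃ (F : Type) (_ : Field F) (_ : Fintype F), Fintype.card F = 4 ∧ Nonempty (G ≃* Cfsg.PSU 5 F 2)) ∨
      Cfsg.Spor.IsoM24 G ∨ Cfsg.Spor.IsoHe G ∨ Cfsg.Spor.IsoSuz G) : False := by
  have := hC.fin
  have := hC.simple
  have h2 := hC.notTwo
  obtain ⟨h27, h713⟩ := not_hK hK
  apply hC.nc
  rcases h with ⟨F, _, _, hF, ⟨e⟩⟩ | ⟨F, _, _, hF, ⟨e⟩⟩ | h | h | h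
  · exfalso
    rw [Nat.card_congr e.toEquiv] at h27
    exact psl5 hF h27
  · exfalso
    rw [Nat.card_congr e.toEquiv, Cfsg.Agent.SylowU5.Iso.card_PSU hF] at h713
    norm_num at h713
  · exact absurd (Small.M24Char.m24 h) h2
  · exact Small.Plug.concl_he h
  · unfold Iface.Concl Small.Excl.Concl
    iterate 10 right
    exact Or.inl h

/-- **the case "symplectic type"** -/
theorem kill (R : Small.Excl.Rows) (h58 : D8.HS.Elim.P1758.{u}) (h59 : P1759.{u}) (h62 : D8.JTwo.Large.H1762.{u})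
    {G : Type u} [Group G] (C : Iface.Ctx G) {z : G} (hz : orderOf z = 2)
    (hodd : Odd (centralizer ({z} : Set G)).index)
    (hS : SixAut.SymHyp z)
    (hF : SixAut.SymF z (SixAut.SymHyp.FF z) → Nat.card ↥(SixAut.SymHyp.FF z) ≤ 128)
    (hK : 189 ∣ Nat.card G ∨ 351 ∣ Nat.card G) : False := by
  have := C.fin
  have := C.simple
  have hf : Fact (Nat.Prime 2) := ⟨Nat.prime_two⟩
  have hz1 : z ≠ 1 := by
    rintro rfl
    rw [orderOf_one] at hz
    exact absurd hz (by norm_num)
  by_cases hE : Cfsg.IsExtraspecial 2 ↥(Cfsg.generalizedFittingSubgroup ↥(centralizer ({z} : Set G)))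
  · have hFF := hS.symF hz1 hE
    obtain ⟨n, hn, hc⟩ : ∃ n : ℕ, 1 ≤ n ∧ Nat.card ↥(SixAut.SymHyp.FF z) = 2 ^ (2 * n + 1) := by
      rw [SixAut.SymHyp.card_FF]
      exact Transfer.Extraspecial.exists_card_eq Nat.prime_two hE
    have h128 := hF hFF
    have h4 : n < 4 := by
      by_contra h4
      have : 2 ^ 9 ≤ 2 ^ (2 * n + 1) := Nat.pow_le_pow_right (by norm_num) (by omega)
      omega
    interval_cases n
    · exact kill_8 C hz1 hodd hFF hc
    · rw [SixAut.SymHyp.card_FF] at hc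
      have h1 := h59 G z hz hS.sympl hE (by rw [hc]; norm_num) (D0.star_simple G C.na) (D0.star_na G C.na)
      exact list32_false R C hK (SixAut.list32_congr (D0.starEquiv G C.na) h1)
    · rw [SixAut.SymHyp.card_FF] at hc
      exact list128_false C hK (h62 G C.na z hz hE (by rw [hc]))
  · exact D8.HS.Elim.false_of_symplectic R h58 C hz hS.sympl hE

end Cfsg.Agent.OddHalf.D6.RThree.Kill
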