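import Cfsg.Agent.OddHalf.D6.RThree.Ord
import Cfsg.Agent.OddHalf.Soft
import Cfsg.Agent.OddHalf.U2.MultOf
import Cfsg.Agent.OddHalf.CoverAlt
import Cfsg.Agent.KFacts.Mult.TypeA
import Cfsg.Agent.KFacts.MulOdd.Rows

/-!
# A quasisimple group with a nontrivial central 2-group and `|M / Z(M)| ≤ 3024` has 2-rank 1 (helper56)
-/

set_option autoImplicit false

namespace Cfsg.Agent.OddHalf.D6.RThree.OrdRank

open Cfsg Subgroup

universe u

/-- **(KO)**: 2-rank 1 -/
theorem rank {M : Type u} [Group M] [Finite M] (hq : IsQuasisimple M) (h2 : IsPGroup 2 ↥(center M))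
    (hz : center M ≠ ⊥) (hk : IsKnownSimple' (M ⧸ center M)) (hc : Nat.card (M ⧸ center M) ≤ 3024) :
    PRankLE 2 1 M := by
  have hna : ¬ IsMulCommutative (M ⧸ center M) := Soft.quo_na hq
  have hQ : U2.Cut.QsTwo M := ⟨inferInstance, hq, h2, hz⟩
  rcases Ord.of_order hk hna hc with ⟨n, hn, ⟨e⟩⟩ | ⟨F, _, _, hF, ⟨e⟩⟩
  · by_contra hr
    obtain ⟨h8, -⟩ := CoverAlt.d5cover M inferInstance hq h2 hz hr n hn ⟨e⟩
    have : Nontrivial (Fin n) := Fin.nontrivial_iff_two_le.2 (by omega)
    have h1 : 2 * Nat.card (alternatingGroup (Fin n)) = n.factorial := by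
      rw [Nat.card_eq_fintype_card, two_mul_card_alternatingGroup, Fintype.card_perm, Fintype.card_fin]
    rw [← Nat.card_congr e.toEquiv] at h1
    have h3 : Nat.factorial 8 ≤ Nat.factorial n := Nat.factorial_le h8
    have h4 : Nat.factorial 8 = 40320 := by decide
    omega
  · by_cases h8 : Fintype.card F = 8
    · exfalso
      have : Fact (Nat.Prime 2) := ⟨Nat.prime_two⟩
      have : CharP F 2 := charP_of_card_eq_prime_pow (p := 2) (f := 3) (by rw [h8]; norm_num)
      have hN := Cfsg.Agent.KFacts.Mult.TypeA.noDouble_PSL (F := F) (n := 2) (by norm_num) (Or.inr (by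
        rw [Nat.card_eq_fintype_card, h8]; norm_num))
      exact Cfsg.Agent.KFacts.MulOdd.Rows.not_qsTwo (hN.congr e.symm) hQ
    · refine U2.MultOf.l2 hQ (F := F) ?_ e
      simp only [Finset.mem_insert, Finset.mem_singleton] at hF
      rcases hF with h | h | h | h | h
      · rw [h]; decide
      · exact absurd h h8
      · rw [h]; decide
      · rw [h]; decide
      · rw [h]; decide

end Cfsg.Agent.OddHalf.D6.RThree.OrdRank
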