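import Cfsg.Agent.OddHalf.D6.RThree.Row
import Cfsg.Agent.OddHalf.D6.RThree.FZero
import Cfsg.Agent.OddHalf.D6.RThree.Kill
import Cfsg.Agent.OddHalf.D6.RThree.OrdRank
import Cfsg.Agent.OddHalf.D6.RThree.L33Facts
import Cfsg.Agent.OddHalf.D6.RThree.U33Facts

/-!
# ODD half, D6: the rows `L₃(3)` and `U₃(3)` of `Cut.Three` (helper783)

`l3`, `u3`, from S0483, S1758, S1759, S1762 and the rows of characteristic 2 type.
-/

set_option autoImplicit false

namespace Cfsg.Agent.OddHalf.D6.RThree.Final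

open Subgroup Cfsg Cfsg.Agent.OddHalf.Iface

universe u

/-- what the rows use -/
structure Given : Prop where
  gw : SylowSp4.Hyps.GW.{u}
  rows : Small.Excl.Rows
  p1758 : D8.HS.Elim.P1758.{u}
  p1759 : Kill.P1759.{u}
  h1762 : D8.JTwo.Large.H1762.{u}

theorem ko : KO.{u} := fun _ _ _ hq h2 hz hk hc => OrdRank.rank hq h2 hz hk hc

theorem pe : Row.PE.{u} := by
  intro X _ _ z t a Q h F hn hp hzF hsq hcm hcen hself
  exact h.card_le hn hp hzF hsq hcm hcen hself

theorem pf (g : Given.{u}) : Row.PF.{u} := by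
  intro G _ C z hz hodd hS hF hK
  exact Kill.kill g.rows g.p1758 g.p1759 g.h1762 C hz hodd hS hF hK

/-- the row of the groups with the facts `Facts.One` -/
theorem row (g : Given.{u}) {P : (X : Type u) → [Group X] → Prop}
    (hP : ∀ (X : Type u) [Group X] [Finite X], P X → ∃ (z : X) (Q : Subgroup X), Facts.One z Q ∧ Nat.card X ≤ 6048) :
    Cut.Row.{u} P := by
  intro G _ C K S hcyc hcen h
  have := C.fin
  obtain ⟨z, Q, f, hc⟩ := hP ↥K h
  exact Row.row g.gw ko pe (pf g) C S hcyc hcen f hc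

/-- **`L₃(3)`** -/
theorem l3 (g : Given.{u}) : Cut.Row.{u} (fun X _ => ∃ (F : Type) (_ : Field F) (_ : Fintype F),
    Fintype.card F = 3 ∧ Nonempty (X ≃* Matrix.ProjectiveSpecialLinearGroup (Fin 3) F)) :=
  row g fun _ _ _ ⟨_, _, _, hF, ⟨e⟩⟩ => L33Facts.exists_one_card hF e

/-- **`U₃(3)`** -/
theorem u3 (g : Given.{u}) : Cut.Row.{u} (fun X _ => ∃ (F : Type) (_ : Field F) (_ : Fintype F),
    Fintype.card F = 9 ∧ Nonempty (X ≃* PSU 3 F 3)) :=
  row g fun _ _ _ ⟨_, _, _, hF, ⟨e⟩⟩ => U33.exists_one_card hF e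

end Cfsg.Agent.OddHalf.D6.RThree.Final
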