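import Cfsg.Agent.OddHalf.D6.RThree.CycW
import Cfsg.Agent.OddHalf.D6.RThree.Facts
import Cfsg.Agent.OddHalf.D6.QThree.Outer
import Cfsg.Agent.OddHalf.D6.QThree.Sit
import Cfsg.Agent.OddHalf.Front.OfSheet

/-!
# ODD half, D6, `L₃(3)`, `U₃(3)`: from the facts on `K` to the position (helper783)

`Emb K t q z Q`: the start and the facts on `K`; `Emb.facts`: the hypotheses of the front end `CycW`.
-/

set_option autoImplicit false

namespace Cfsg.Agent.OddHalf.D6.RThree.Front

open Subgroup Cfsg Cfsg.Agent.OddHalf.Front.FE Cfsg.Agent.OddHalf.Front Cfsg.Agent.OddHalf.D8.GlueE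
open Cfsg.Agent.OddHalf.Front.Cyclic (mem_M KQ conjK conjK')


/-! ### on `K` -/

section K

variable {K : Type*} [Group K] {z : K} {Q : Subgroup K}

theorem zQ' (h : Facts.One z Q) {q : K} (hq : q ∈ Q) : q * z = z * q := by
  by_cases h1 : q = 1
  · rw [h1, one_mul, mul_one]
  by_cases h2 : q = z
  · rw [h2]
  · rw [← h.sq q hq h1 h2, mul_assoc]

theorem nQ (h : Facts.One z Q) {x : K} (hx : x * z = z * x) : ∀ q ∈ Q, x * q * x⁻¹ ∈ Q := by
  intro q hq
  exact h.aut (MulAut.conj x) (by rw [MulAut.conj_apply, hx, mul_inv_cancel_right]) q hq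

theorem pQ (h : Facts.One z Q) : IsPGroup 2 Q :=
  IsPGroup.of_card (n := 3) (by rw [h.card]; norm_num)

theorem exists_ne (h : Facts.One z Q) : ∃ q ∈ Q, q ≠ 1 ∧ q ≠ z := by
  classical
  by_contra hcon
  push Not at hcon
  have : Finite Q := Nat.finite_of_card_ne_zero (by rw [h.card]; norm_num)
  have h1 : (Q : Set K) ⊆ ({1, z} : Set K) := by
    intro x hx
    by_cases hx1 : x = 1
    · exact Or.inl hx1
    · exact Or.inr (hcon x hx hx1)
  have h2 : Nat.card Q ≤ 2 := by
    have := Set.ncard_le_ncard h1 (Set.toFinite _)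
    exact this.trans ((Set.ncard_insert_le _ _).trans (by rw [Set.ncard_singleton]))
  rw [h.card] at h2
  omega

theorem zJ (h : Facts.One z Q) : z ∈ Facts.J z := by
  obtain ⟨a, haz, hao, ha⟩ := h.ex
  obtain ⟨q, hq, hq1, hqz⟩ := exists_ne h
  set r := a * q * a⁻¹ with hr
  have hrQ : r ∈ Q := nQ h haz q hq
  have hne := ha q hq hq1 hqz
  have hai : a⁻¹ * z = z * a⁻¹ := (Commute.inv_left (show Commute a z from haz)).eq
  have hqai : (q * a⁻¹ * q⁻¹) * z = z * (q * a⁻¹ * q⁻¹) := by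
    have c1 : Commute q z := zQ' h hq
    have c2 : Commute a⁻¹ z := hai
    exact ((c1.mul_left c2).mul_left c1.inv_left).eq
  have h1 : r * q⁻¹ ∈ Facts.J z := by
    have e : r * q⁻¹ = a * (q * a⁻¹ * q⁻¹) := by rw [hr]; group
    rw [e]
    refine mul_mem (subset_closure ⟨haz, hao⟩) (subset_closure ⟨hqai, ?_⟩)
    have : orderOf (q * a⁻¹ * q⁻¹) = orderOf a⁻¹ :=
      orderOf_injective (MulAut.conj q).toMonoidHom (MulAut.conj q).injective a⁻¹
    rw [this, orderOf_inv]
    exact hao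
  have h2 : r * q⁻¹ ≠ 1 := by
    intro e
    apply hne
    rw [mul_inv_eq_one] at e
    show q * r = r * q
    rw [e]
  have h3 : r * q⁻¹ ≠ z := by
    intro e
    apply hne
    rw [mul_inv_eq_iff_eq_mul] at e
    show q * r = r * q
    rw [e, ← mul_assoc, zQ' h hq]
  have h4 := mul_mem h1 h1
  rwa [h.sq _ (Q.mul_mem hrQ (Q.inv_mem hq)) h2 h3] at h4

/-- a Sylow subgroup of `K` inside `C_K(z)` -/
theorem exists_sylow [Finite K] (h : Facts.One z Q) :
    ∃ S : Subgroup K, IsPGroup 2 S ∧ (∀ x ∈ S, x * z = z * x) ∧ Q ≤ S ∧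
      (∀ P : Subgroup K, IsPGroup 2 P → S ≤ P → P ≤ S) ∧
      ∀ p : K, p * z = z * p → IsPGroup 2 (zpowers p) → ∃ c : K, c * z = z * c ∧ c * p * c⁻¹ ∈ S := by
  have : Fact (Nat.Prime 2) := ⟨Nat.prime_two⟩
  set C := centralizer ({z} : Set K) with hC
  have hRC : Q ≤ C := fun r hr => mem_centralizer_singleton_iff.2 (zQ' h hr)
  obtain ⟨P, hP⟩ := ((pQ h).comap_of_injective C.subtype C.subtype_injective).exists_le_sylow
  refine ⟨(P : Subgroup C).map C.subtype, P.isPGroup'.map _, ?_, ?_, ?_, ?_⟩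
  · rintro _ ⟨y, -, rfl⟩
    exact mem_centralizer_singleton_iff.1 y.2
  · intro r hr
    exact ⟨⟨r, hRC hr⟩, hP hr, rfl⟩
  · intro Q' hQ hle
    have h1 : Nat.card ((P : Subgroup C).map C.subtype) = Nat.card (P : Subgroup C) :=
      Nat.card_congr ((P : Subgroup C).equivMapOfInjective _ C.subtype_injective).toEquiv.symm
    have h2 : Nat.card Q' ≤ Nat.card (P : Subgroup C) := by
      obtain ⟨Q'', hQ'⟩ := hQ.exists_le_sylow
      have h3 : Nat.card Q' ≤ Nat.card Q'' := Nat.card_le_card_of_injective _ (inclusion_injective hQ')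
      have h4 : Nat.card Q'' = Nat.card (P : Subgroup C) := by
        have h5 := Q''.card_eq_multiplicity
        have h6 := P.card_eq_multiplicity
        have h7 : (Nat.card K).factorization 2 = (Nat.card C).factorization 2 := by
          have h8 := C.index_mul_card
          have h11 : Odd C.index := h.odd
          have h9 : C.index ≠ 0 := by
            rintro h0
            rw [h0] at h11
            exact absurd h11 (by decide)
          have h10 : ¬ 2 ∣ C.index := by
            rw [Nat.odd_iff] at h11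
            omega
          rw [← h8, Nat.factorization_mul h9 Nat.card_pos.ne', Finsupp.add_apply,
            Nat.factorization_eq_zero_of_not_dvd h10, zero_add]
        exact h5.trans ((congrArg (2 ^ ·) h7).trans h6.symm)
      omega
    exact (Subgroup.eq_of_le_of_card_ge hle (by omega)).ge
  · intro p hp hpp
    have hpC : p ∈ C := mem_centralizer_singleton_iff.2 hp
    have h1 : IsPGroup 2 (zpowers (⟨p, hpC⟩ : C)) := by
      have h2 : (zpowers (⟨p, hpC⟩ : C)).map C.subtype = zpowers p := by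
        rw [MonoidHom.map_zpowers]; rfl
      have h3 : IsPGroup 2 ((zpowers (⟨p, hpC⟩ : C)).map C.subtype) := by rw [h2]; exact hpp
      intro g
      obtain ⟨k, hk⟩ := h3 ⟨_, ⟨g, g.2, rfl⟩⟩
      have hk' : (((g : C) : K)) ^ 2 ^ k = 1 := congrArg Subtype.val hk
      refine ⟨k, Subtype.ext (Subtype.ext ?_)⟩
      rw [SubmonoidClass.coe_pow, SubmonoidClass.coe_pow, hk']
      rfl
    obtain ⟨P', hP'⟩ := h1.exists_le_sylow
    obtain ⟨c, hc⟩ := MulAction.exists_smul_eq C P' P
    refine ⟨c, mem_centralizer_singleton_iff.1 c.2, ?_⟩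
    have h4 : c * ⟨p, hpC⟩ * c⁻¹ ∈ (P : Subgroup C) := by
      rw [← hc]
      have h5 : (⟨p, hpC⟩ : C) ∈ P' := hP' (mem_zpowers _)
      exact ⟨_, h5, rfl⟩
    exact ⟨_, h4, rfl⟩

end K

/-! ### in `G` -/

universe u

variable {G : Type u} [Group G]

structure Emb (K : Subgroup G) (t q : G) (z : K) (Q : Subgroup K) : Prop where
  st : Start K t q
  f : Facts.One z Q

variable {K : Subgroup G} {t q : G} {z : K} {Q : Subgroup K}

namespace Emb

theorem tK (h : Emb K t q z Q) : t ∉ K := fun h1 => h.st.t1 (h.st.cen t h1 fun y hy => h.st.Kt y hy)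

theorem comm (h : Emb K t q z Q) : t * (z : G) = z * t := (h.st.Kt z z.2).symm

/-- `Z(K) = 1` -/
theorem cen (h : Emb K t q z Q) {x : K} (hx : MulAut.conj x = 1) : x = 1 := by
  apply Subtype.ext
  apply h.st.cen x x.2
  intro y hy
  have h1 := congrArg Subtype.val (DFunLike.congr_fun hx ⟨y, hy⟩)
  have h2 : (x : G) * y * (x : G)⁻¹ = y := h1
  rw [mul_inv_eq_iff_eq_mul] at h2
  exact h2.symm

/-- elements of odd order of `C(t)` -/
theorem mem_of_odd (h : Emb K t q z Q) {g : G} (hg : g * t = t * g) (ho : Odd (orderOf g)) : g ∈ K := by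
  have hinn : (MulAut.conj : K →* MulAut K).range.Normal := OfSheet.inn_normal K
  set I : Subgroup (MulAut K) := (MulAut.conj : K →* MulAut K).range with hI
  set α : MulAut K := K.normalizerMonoidHom ⟨g, h.st.nK g hg⟩ with hα
  have h2 : α * α ∈ I := by
    rcases (Nat.dvd_prime Nat.prime_two).1 h.f.out with h1 | h1
    · have h3 : I = ⊤ := Subgroup.index_eq_one.1 h1
      rw [h3]; exact mem_top _
    · exact mul_self_mem_of_index_two h1 α
  have hgg : (g * g) * t = t * (g * g) := by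
    have c1 : Commute g t := hg
    exact c1.mul_left c1
  have h3 : g * g ∈ zpowers q ⊔ K := by
    apply OfSheet.mem_of_inn h.st hgg
    have e : K.normalizerMonoidHom ⟨g * g, h.st.nK (g * g) hgg⟩ = α * α := by
      rw [hα, ← map_mul]; rfl
    rw [e]; exact h2
  obtain ⟨n, hn⟩ := ho
  have h4 : g = (g * g) ^ (n + 1) := by
    have h5 : g ^ (2 * n + 1) = 1 := by rw [← hn]; exact pow_orderOf_eq_one g
    calc g = g ^ (2 * n + 1) * g := by rw [h5, one_mul]
      _ = g ^ (2 * (n + 1)) := by rw [← pow_succ]; congr 1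
      _ = (g * g) ^ (n + 1) := by rw [pow_mul, pow_two]
  have h5 : g ∈ zpowers q ⊔ K := by
    rw [h4]; exact pow_mem h3 _
  obtain ⟨a, ha, k, hk, e⟩ := (mem_M h.st.toStart0).1 h5
  have hak : Commute a k := (h.st.QK a ha k hk).symm
  have h6 : a ^ (2 * n + 1) * k ^ (2 * n + 1) = 1 := by
    rw [← hak.mul_pow, ← e, ← hn, pow_orderOf_eq_one]
  have h7 : a ^ (2 * n + 1) = 1 := by
    apply KQ h.st
    · have : a ^ (2 * n + 1) = (k ^ (2 * n + 1))⁻¹ := eq_inv_of_mul_eq_one_left h6
      rw [this]; exact K.inv_mem (K.pow_mem hk _)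
    · exact pow_mem ha _
  have h8 : a = 1 := by
    obtain ⟨m, hm⟩ := h.st.pQ ⟨a, ha⟩
    have hm' : a ^ 2 ^ m = 1 := congrArg Subtype.val hm
    have hcop : Nat.Coprime (2 ^ m) (2 * n + 1) := by
      apply Nat.Coprime.pow_left
      rw [Nat.coprime_two_left]
      exact ⟨n, rfl⟩
    have h9 : orderOf a ∣ Nat.gcd (2 ^ m) (2 * n + 1) :=
      Nat.dvd_gcd (orderOf_dvd_of_pow_eq_one hm') (orderOf_dvd_of_pow_eq_one h7)
    rw [hcop] at h9
    exact orderOf_eq_one_iff.1 (Nat.dvd_one.1 h9)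
  rw [e, h8, one_mul]; exact hk

/-- the subgroup generated by the elements of odd order of `C(t) ∩ C(z)` -/
def O (t z : G) : Subgroup G := closure {x : G | x * t = t * x ∧ x * z = z * x ∧ Odd (orderOf x)}

/-- it is the image of `J` -/
theorem O_le (h : Emb K t q z Q) {x : G} (hx : x ∈ O t z) : ∃ y ∈ Facts.J z, (y : G) = x := by
  have h1 : O t z ≤ (Facts.J z).map K.subtype := by
    rw [O, closure_le]
    rintro x ⟨hxt, hxz, hxo⟩
    have hxK := h.mem_of_odd hxt hxo
    refine ⟨⟨x, hxK⟩, subset_closure ⟨Subtype.ext hxz, ?_⟩, rfl⟩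
    show Odd (orderOf (⟨x, hxK⟩ : K))
    rwa [Subgroup.orderOf_mk]
  obtain ⟨y, hy, e⟩ := h1 hx
  exact ⟨y, hy, e⟩

theorem J_le (h : Emb K t q z Q) {y : K} (hy : y ∈ Facts.J z) : (y : G) ∈ O t z := by
  have h3 : (y : G) ∈ (closure {x : K | x * z = z * x ∧ Odd (orderOf x)}).map K.subtype := ⟨y, hy, rfl⟩
  rw [MonoidHom.map_closure] at h3
  refine closure_mono ?_ h3
  rintro _ ⟨x, ⟨hy1, hy2⟩, rfl⟩
  refine ⟨h.st.Kt x x.2, congrArg Subtype.val hy1, ?_⟩
  show Odd (orderOf (x : G))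
  rwa [Subgroup.orderOf_coe]

theorem isolated (h : Emb K t q z Q) (g : G)
    (h1 : g * t * g⁻¹ = t ∨ g * t * g⁻¹ = z ∨ g * t * g⁻¹ = t * z)
    (h2 : g * z * g⁻¹ = t ∨ g * z * g⁻¹ = z ∨ g * z * g⁻¹ = t * z) : g * z * g⁻¹ = z := by
  have hzO : (z : G) ∈ O t z := h.J_le (zJ h.f)
  have h4 : g⁻¹ * z * g ∈ O t z := by
    have h5 : MulAut.conj g⁻¹ (z : G) ∈ (O t z).map (MulAut.conj g⁻¹).toMonoidHom := ⟨z, hzO, rfl⟩
    rw [O, MonoidHom.map_closure] at h5
    have e : MulAut.conj g⁻¹ (z : G) = g⁻¹ * z * g := by rw [MulAut.conj_apply, inv_inv]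
    rw [e] at h5
    refine closure_mono ?_ h5
    rintro _ ⟨x, ⟨hxt, hxz, hxo⟩, rfl⟩
    obtain ⟨h6, h7⟩ := QThree.Sit.Loc.norm_cen (g := g⁻¹) (t := t) (z := z) (by rwa [inv_inv]) (by rwa [inv_inv])
      x hxt hxz
    refine ⟨h6, h7, ?_⟩
    have : orderOf ((MulAut.conj g⁻¹).toMonoidHom x) = orderOf x :=
      orderOf_injective (MulAut.conj g⁻¹).toMonoidHom (MulAut.conj g⁻¹).injective x
    rw [this]; exact hxo
  obtain ⟨y, hyJ, hy⟩ := h.O_le h4
  have h5 : y * y = 1 := by
    apply Subtype.ext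
    show (y : G) * y = 1
    rw [hy]
    have h6 : (z : G) * z = 1 := congrArg Subtype.val h.f.zz
    calc g⁻¹ * z * g * (g⁻¹ * z * g) = g⁻¹ * (z * z) * g := by group
      _ = 1 := by rw [h6]; group
  rcases h.f.jz y hyJ h5 with e | e
  · exfalso
    apply h.f.z1
    apply Subtype.ext
    show (z : G) = 1
    rw [e] at hy
    have h7 : (z : G) = g * (g⁻¹ * z * g) * g⁻¹ := by group
    rw [h7, ← hy]
    show g * 1 * g⁻¹ = 1
    group
  · rw [e] at hy
    have h7 : g * (g⁻¹ * z * g) * g⁻¹ = z := by group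
    rwa [← hy] at h7

/-- `CycW.Facts` -/
theorem facts [Finite G] (E : Emb K t q z Q) : ∃ T : Subgroup G, CycW.Facts K t q (z : G) T := by
  obtain ⟨S0, hS0p, hzc, hRS, hSmax, hSconj⟩ := exists_sylow E.f
  set S : Sylow 2 K :=
    { toSubgroup := S0
      isPGroup' := hS0p
      is_maximal' := fun {Q} hQ hle => le_antisymm (hSmax Q hQ hle) hle } with hS
  set C : Subgroup G := centralizer ({t} : Set G) with hC
  have hKC : K ≤ C := fun x hx => mem_centralizer_singleton_iff.2 (E.st.Kt x hx)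
  have hS' : IsPGroup 2 ↥((S : Subgroup K).map K.subtype) := S.isPGroup'.map _
  have hS'C : (S : Subgroup K).map K.subtype ≤ C := by
    rintro _ ⟨y, -, rfl⟩
    exact hKC y.2
  obtain ⟨TS, hTS⟩ := (hS'.comap_of_injective C.subtype C.subtype_injective).exists_le_sylow
  have hTC : (TS : Subgroup C).map C.subtype ≤ C := by
    rintro _ ⟨y, -, rfl⟩
    exact y.2
  have hpT : IsPGroup 2 ↥((TS : Subgroup C).map C.subtype) := TS.isPGroup'.map _
  have hST : (S : Subgroup K).map K.subtype ≤ (TS : Subgroup C).map C.subtype := by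
    intro x hx
    exact ⟨⟨x, hS'C hx⟩, hTS hx, rfl⟩
  have htc : ∀ x ∈ (TS : Subgroup C).map C.subtype, x * t = t * x := fun x hx =>
    mem_centralizer_singleton_iff.1 (hTC hx)
  have hTK : ∀ x (hx : x ∈ K), x ∈ (TS : Subgroup C).map C.subtype → (⟨x, hx⟩ : K) ∈ S := by
    have h1 : IsPGroup 2 ↥(((TS : Subgroup C).map C.subtype).subgroupOf K) :=
      hpT.comap_of_injective K.subtype K.subtype_injective
    have h2 := S.is_maximal' h1 (fun y hy => mem_subgroupOf.2 (hST ⟨y, hy, rfl⟩))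
    intro x hx hxT
    have h3 : (⟨x, hx⟩ : K) ∈ ((TS : Subgroup C).map C.subtype).subgroupOf K := mem_subgroupOf.2 hxT
    rw [h2] at h3
    exact h3
  have hKT : ∀ x : K, x ∈ S → (x : G) ∈ (TS : Subgroup C).map C.subtype := fun x hx => hST ⟨x, hx, rfl⟩
  refine ⟨(TS : Subgroup C).map C.subtype,
    { toStart := E.st
      pT := hpT
      tc := htc
      max := ?_
      z1 := fun e => E.f.z1 (Subtype.ext e)
      zT := hKT z (hRS E.f.zQ)
      zK := z.2
      zz := congrArg Subtype.val E.f.zz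
      zS := ?_
      P1 := ?_
      T1s := ?_
      idx := ?_
      iso := ?_ }⟩
  · intro R hR hle hRt
    have h1 : IsPGroup 2 ↥(R.subgroupOf C) := hR.comap_of_injective C.subtype C.subtype_injective
    have h2 := TS.is_maximal' h1 (fun y hy => mem_subgroupOf.2 (hle ⟨y, hy, rfl⟩))
    intro x hx
    have hxC : x ∈ C := mem_centralizer_singleton_iff.2 (hRt x hx)
    have h3 : (⟨x, hxC⟩ : C) ∈ R.subgroupOf C := mem_subgroupOf.2 hx
    rw [h2] at h3
    exact ⟨⟨x, hxC⟩, h3, rfl⟩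
  · intro x hxT hxK
    exact congrArg Subtype.val (hzc ⟨x, hxK⟩ (hTK x hxK hxT))
  · intro y hyT hyK hyy hy
    set y' : K := ⟨y, hyK⟩ with hy'
    have hyy' : y' * y' = 1 := Subtype.ext hyy
    have h1 : Facts.Triv Q (MulAut.conj y') := by
      intro r hr
      rw [MulAut.conj_apply]
      have h2 : r * y' = y' * r := Subtype.ext (hy r (hKT r (hRS hr)) r.2)
      rw [← h2, mul_inv_cancel_right]
    rcases E.f.k1 _ h1 with h2 | h2 | h2
    · exact Or.inl (congrArg Subtype.val (E.cen h2))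
    · right
      have h3 : y' * z⁻¹ = 1 := by
        apply E.cen
        rw [map_mul, h2, ← map_mul, mul_inv_cancel, map_one]
      exact congrArg Subtype.val (mul_inv_eq_one.1 h3)
    · exfalso
      apply E.f.z1
      apply E.cen
      rw [← h2, ← map_mul, hyy', map_one]
  · intro y hyt hy2 hy
    apply OfSheet.mem_of_inn E.st hyt
    set α := K.normalizerMonoidHom ⟨y, E.st.nK y hyt⟩ with hα
    have hαS : ∀ x ∈ S, α x = x := by
      intro x hx
      apply Subtype.ext
      rw [nmh_apply, ← hy x (hKT x hx) x.2]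
      group
    by_contra hcon
    obtain ⟨p, hpz, hp2, hpi⟩ := E.f.exp
    obtain ⟨c, hcz, hcS⟩ := hSconj p hpz hp2
    refine E.f.k5 α (fun r hr => hαS r (hRS hr)) hcon (c * p * c⁻¹) ?_ ?_ ?_ (hαS _ hcS)
    · have c1 : Commute c z := hcz
      have c2 : Commute p z := hpz
      exact ((c1.mul_left c2).mul_left c1.inv_left).eq
    · have e : zpowers (c * p * c⁻¹) = (zpowers p).map (MulAut.conj c).toMonoidHom := by
        rw [MonoidHom.map_zpowers]; rfl
      rw [e]
      exact hp2.map _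
    · rintro ⟨r, hr, h1⟩
      apply hpi
      have hci : c⁻¹ * z = z * c⁻¹ := (Commute.inv_left (show Commute c z from hcz)).eq
      refine ⟨c⁻¹ * r * c, ?_, ?_⟩
      · have := nQ E.f hci r hr
        rwa [inv_inv] at this
      · intro s hs
        have h2 := h1 (c * s * c⁻¹) (nQ E.f hcz s hs)
        rw [MulAut.conj_apply] at h2 ⊢
        calc p * s * p⁻¹ = c⁻¹ * (c * p * c⁻¹ * (c * s * c⁻¹) * (c * p * c⁻¹)⁻¹) * c := by group
          _ = c⁻¹ * (r * (c * s * c⁻¹) * r⁻¹) * c := by rw [h2]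
          _ = c⁻¹ * r * c * s * (c⁻¹ * r * c)⁻¹ := by group
  · intro a ha b hb haM hbM
    refine OfSheet.idx_of_out E.st ?_ hpT htc ha hb haM hbM
    intro h4
    have h5 := h4.trans E.f.out
    omega
  · intro g h1 h2
    exact E.isolated g h1 h2

/-- an element of `C(t) ∩ C(Q)` -/
theorem triv (E : Emb K t q z Q) {g : G} (hg : g * t = t * g) (hQ : ∀ r ∈ Q, g * r = r * g) :
    Facts.Triv Q (K.normalizerMonoidHom ⟨g, E.st.nK g hg⟩) := by
  intro r hr
  apply Subtype.ext
  rw [nmh_apply, hQ r hr]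
  group

/-- it is a product of an element of `⟨q⟩` and an element inducing an automorphism `α` -/
theorem cases (E : Emb K t q z Q) {g : G} (hg : g * t = t * g) (hQ : ∀ r ∈ Q, g * r = r * g) :
    g ∈ zpowers q ∨ (z : G)⁻¹ * g ∈ zpowers q ∨ (z : G)⁻¹ * (g * g) ∈ zpowers q := by
  have hgg : (g * g) * t = t * (g * g) := by
    have c1 : Commute g t := hg
    exact c1.mul_left c1
  have key : ∀ (g : G) (hg : g * t = t * g) (k : K), K.normalizerMonoidHom ⟨g, E.st.nK g hg⟩ = MulAut.conj k →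
      (k : G)⁻¹ * g ∈ zpowers q := by
    intro g hg k hk
    apply E.st.cK
    · have h6 := E.st.Kt (k : G)⁻¹ (K.inv_mem k.2)
      calc (k : G)⁻¹ * g * t = (k : G)⁻¹ * (g * t) := by group
        _ = ((k : G)⁻¹ * t) * g := by rw [hg]; group
        _ = t * ((k : G)⁻¹ * g) := by rw [h6]; group
    · exact exists_of_conj (E.st.nK g hg) hk
  rcases E.f.k1 _ (E.triv hg hQ) with h1 | h1 | h1
  · left
    have := key g hg 1 (by rw [h1, map_one])
    rwa [OneMemClass.coe_one, inv_one, one_mul] at this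
  · right; left
    exact key g hg z h1
  · right; right
    apply key (g * g) hgg z
    rw [← h1, ← map_mul]
    rfl

end Emb

end Cfsg.Agent.OddHalf.D6.RThree.Front
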