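import Cfsg.Agent.OddHalf.D6.RThree.Front
import Cfsg.Agent.OddHalf.D6.QThree.NISolv
import Cfsg.Agent.OddHalf.D6.QThree.NI

/-!
# ODD half, D6, `L₃(3)`, `U₃(3)`: the hypotheses on `X = C_G(z)` (helper783)

`Hyp z t a Q`; `Emb.hyp`: it holds in `C_G(z)`.
-/

set_option autoImplicit false

namespace Cfsg.Agent.OddHalf.D6.RThree

open Subgroup Cfsg Cfsg.Agent.OddHalf.Front.FE Cfsg.Agent.OddHalf.Front Cfsg.Agent.OddHalf.D8.GlueE
open Cfsg.Agent.OddHalf.D6.QThree.NISide
open Cfsg.Agent.OddHalf.Front.Cyclic (KQ t_mem)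

section X

variable {X : Type*} [Group X]

/-- the subgroup generated by the elements of odd order of `C_X(t)` -/
def JJ (t : X) : Subgroup X := closure {x : X | x * t = t * x ∧ Odd (orderOf x)}

/-- `y ∈ C_X(t) ∩ C_X(Q)` -/
def In (t : X) (Q : Subgroup X) (y : X) : Prop := y * t = t * y ∧ ∀ q ∈ Q, y * q = q * y

/-- the four elements of `⟨t, z⟩` -/
def Four (z t x : X) : Prop := x = 1 ∨ x = z ∨ x = t ∨ x = t * z

/-- the hypotheses on `X = C_G(z)` -/
structure Hyp (z t a : X) (Q : Subgroup X) : Prop where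
  zc : ∀ x : X, x * z = z * x
  zz : z * z = 1
  z1 : z ≠ 1
  tt : t * t = 1
  t1 : t ≠ 1
  tz : t ≠ z
  O : pPrimeCore 2 X = ⊥
  s : Side z t a Q ⊥
  ao : Odd (orderOf a)
  nQ : ∀ g, g * t = t * g → ∀ q ∈ Q, g * q * g⁻¹ ∈ Q
  Y2 : ∀ y, In t Q y → IsPGroup 2 (zpowers y)
  Yom : ∀ y, In t Q y → y * y = 1 → Four z t y
  YJ : ∀ y, In t Q y → ∀ b, b * t = t * b → Odd (orderOf b) → y * b = b * y
  SS : ∀ S : Subgroup X, (∀ y ∈ S, In t Q y) → t ∉ S → t * z ∉ S →
    (∀ y ∈ S, y = 1 ∨ y = z ∨ y * y = z) ∧ Nat.card S ≤ 8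
  sq16 : ∀ S : Subgroup X, (∀ y ∈ S, In t Q y) → (∀ y ∈ S, y * y = 1 ∨ y * y = z) → Nat.card S ≤ 16
  jz : ∀ x ∈ JJ t, x * x = 1 → x = 1 ∨ x = z
  jQ : ∀ x ∈ JJ t, (∀ q ∈ Q, x * q = q * x) → x = 1 ∨ x = z
  com : t ∈ _root_.commutator X
  sw : ∃ s : X, s * t * s⁻¹ = t * z

end X

namespace Front.Emb

universe u

variable {G : Type u} [Group G] {K : Subgroup G} {t q : G} {z : K} {Q : Subgroup K}

/-- a subgroup of `C(t) ∩ C(Q)` maps to the automorphisms trivial on `Q` -/
noncomputable def toTriv (E : Emb K t q z Q) (S : Subgroup G) (h1 : ∀ y ∈ S, y * t = t * y)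
    (h2 : ∀ y ∈ S, ∀ r ∈ Q, y * r = r * y) (y : S) : {α : MulAut K // Facts.Triv Q α} :=
  ⟨K.normalizerMonoidHom ⟨y, E.st.nK y (h1 y y.2)⟩, E.triv (h1 y y.2) (h2 y y.2)⟩

/-- the fibres of `toTriv` -/
theorem toTriv_fib (E : Emb K t q z Q) (S : Subgroup G) (h1 : ∀ y ∈ S, y * t = t * y)
    (h2 : ∀ y ∈ S, ∀ r ∈ Q, y * r = r * y) {x y : S} (hxy : E.toTriv S h1 h2 x = E.toTriv S h1 h2 y) :
    (x : G)⁻¹ * y ∈ zpowers q := by
  have h3 : K.normalizerMonoidHom ⟨x, E.st.nK x (h1 x x.2)⟩ = K.normalizerMonoidHom ⟨y, E.st.nK y (h1 y y.2)⟩ :=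
    congrArg Subtype.val hxy
  apply E.st.cK
  · have c1 : Commute (x : G) t := h1 x x.2
    have c2 : Commute (y : G) t := h1 y y.2
    exact (c1.inv_left.mul_left c2).eq
  · intro k hk
    have h4 := congrArg Subtype.val (DFunLike.congr_fun h3 ⟨k, hk⟩)
    rw [nmh_apply, nmh_apply] at h4
    have h5 : (x : G) * k * (x : G)⁻¹ = y * k * (y : G)⁻¹ := h4
    calc k * ((x : G)⁻¹ * y) = (x : G)⁻¹ * (x * k * (x : G)⁻¹) * y := by group
      _ = (x : G)⁻¹ * (y * k * (y : G)⁻¹) * y := by rw [h5]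
      _ = (x : G)⁻¹ * y * k := by group

theorem card_le_eight [Finite G] (E : Emb K t q z Q) (S : Subgroup G) (h1 : ∀ y ∈ S, y * t = t * y)
    (h2 : ∀ y ∈ S, ∀ r ∈ Q, y * r = r * y) (h3 : ∀ y ∈ S, y ∈ zpowers q → y = 1) : Nat.card S ≤ 8 := by
  have hfin : Finite (MulAut K) := inferInstance
  refine (Nat.card_le_card_of_injective (E.toTriv S h1 h2) ?_).trans E.f.k2
  intro x y hxy
  have h4 := h3 ((x : G)⁻¹ * y) (S.mul_mem (S.inv_mem x.2) y.2) (E.toTriv_fib S h1 h2 hxy)
  exact Subtype.ext (inv_mul_eq_one.1 h4)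

theorem card_le_sixteen [Finite G] (E : Emb K t q z Q) (S : Subgroup G) (h1 : ∀ y ∈ S, y * t = t * y)
    (h2 : ∀ y ∈ S, ∀ r ∈ Q, y * r = r * y) (h3 : ∀ y ∈ S, y ∈ zpowers q → y = 1 ∨ y = t) :
    Nat.card S ≤ 16 := by
  classical
  have hfin : Finite (MulAut K) := inferInstance
  by_cases htS : t ∈ S
  · -- a transversal of `⟨t⟩`
    have h5 : Nat.card S ≤ Nat.card ({α : MulAut K // Facts.Triv Q α}) * 2 := by
      have h6 : ∀ y : S, ∃ b : Bool, True := fun _ => ⟨true, trivial⟩
      set f := E.toTriv S h1 h2 with hf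
      let r : {α : MulAut K // Facts.Triv Q α} → S := fun α => if h : ∃ y, f y = α then h.choose else 1
      have hr : ∀ y : S, f (r (f y)) = f y := by
        intro y
        have h7 : ∃ x, f x = f y := ⟨y, rfl⟩
        have : r (f y) = h7.choose := dif_pos h7
        rw [this]
        exact h7.choose_spec
      let g : S → {α : MulAut K // Facts.Triv Q α} × Bool := fun y => (f y, decide ((y : G) = r (f y)))
      have hg : Function.Injective g := by
        intro x y hxy
        have e1 : f x = f y := congrArg Prod.fst hxy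
        have e2 : decide ((x : G) = r (f x)) = decide ((y : G) = r (f y)) := congrArg Prod.snd hxy
        rw [← e1] at e2
        have key : ∀ w : S, f w = f x → (w : G) = r (f x) ∨ (w : G) = r (f x) * t := by
          intro w hw
          have h8 : ((r (f x) : S) : G)⁻¹ * w ∈ zpowers q :=
            E.toTriv_fib S h1 h2 ((hr x).trans hw.symm)
          rcases h3 _ (S.mul_mem (S.inv_mem (r (f x)).2) w.2) h8 with h9 | h9
          · exact Or.inl (inv_mul_eq_one.1 h9).symm
          · right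
            rw [← h9, mul_inv_cancel_left]
        have e3 : ((x : G) = r (f x)) ↔ ((y : G) = r (f x)) := by simpa using e2
        apply Subtype.ext
        rcases key x rfl with k1 | k1 <;> rcases key y e1.symm with k2 | k2
        · rw [k1, k2]
        · exact k1.trans (e3.1 k1).symm
        · exact (e3.2 k2).trans k2.symm
        · rw [k1, k2]
      have h9 := Nat.card_le_card_of_injective g hg
      rwa [Nat.card_prod, Nat.card_eq_two_iff.2 ⟨true, false, by decide, by
        ext b; cases b <;> simp⟩] at h9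
    have := E.f.k2
    omega
  · refine (E.card_le_eight S h1 h2 ?_).trans (by norm_num)
    intro y hy hyq
    rcases h3 y hy hyq with e | e
    · exact e
    · exact absurd (e ▸ hy) htS

/-- the image of `Q` in `C_G(z)` -/
def QX (z : K) (Q : Subgroup K) : Subgroup ↥(centralizer ({(z : G)} : Set G)) :=
  (Q.map K.subtype).subgroupOf (centralizer ({(z : G)} : Set G))

theorem mem_QX {x : ↥(centralizer ({(z : G)} : Set G))} : x ∈ QX z Q ↔ ∃ r ∈ Q, (r : G) = x := by
  rw [QX, mem_subgroupOf, mem_map]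
  rfl

theorem in_iff (E : Emb K t q z Q) {ht : t ∈ centralizer ({(z : G)} : Set G)}
    {y : ↥(centralizer ({(z : G)} : Set G))} :
    In (⟨t, ht⟩ : centralizer ({(z : G)} : Set G)) (QX z Q) y ↔
      (y : G) * t = t * y ∧ ∀ r ∈ Q, (y : G) * r = r * y := by
  constructor
  · rintro ⟨h1, h2⟩
    refine ⟨congrArg Subtype.val h1, fun r hr => ?_⟩
    have hrC : (r : G) ∈ centralizer ({(z : G)} : Set G) :=
      mem_centralizer_singleton_iff.2 (congrArg Subtype.val (zQ' E.f hr))
    exact congrArg Subtype.val (h2 ⟨r, hrC⟩ (mem_QX.2 ⟨r, hr, rfl⟩))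
  · rintro ⟨h1, h2⟩
    refine ⟨Subtype.ext h1, fun r hr => ?_⟩
    obtain ⟨r', hr', e⟩ := mem_QX.1 hr
    apply Subtype.ext
    show (y : G) * r = r * y
    rw [← e]
    exact h2 r' hr'

/-- **the hypotheses hold in `C_G(z)`** -/
theorem hyp [Finite G] (E : Emb K t q z Q)
    (hO : pPrimeCore 2 ↥(centralizer ({(z : G)} : Set G)) = ⊥)
    (hcom : (⟨t, mem_centralizer_singleton_iff.2 E.comm⟩ : centralizer ({(z : G)} : Set G)) ∈
      _root_.commutator (centralizer ({(z : G)} : Set G)))
    (hsw : ∃ s : G, s * t * s⁻¹ = t * z ∧ s * z * s⁻¹ = z) :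
    ∃ a, Hyp (⟨z, mem_centralizer_singleton_iff.2 rfl⟩ : centralizer ({(z : G)} : Set G))
      ⟨t, mem_centralizer_singleton_iff.2 E.comm⟩ a (QX z Q) := by
  set X := centralizer ({(z : G)} : Set G) with hX
  have hmX : ∀ {x : G}, x ∈ X ↔ x * z = z * x := fun {x} => mem_centralizer_singleton_iff
  obtain ⟨a, haz, hao, ha⟩ := E.f.ex
  have hzz : (z : G) * z = 1 := congrArg Subtype.val E.f.zz
  have hz1 : (z : G) ≠ 1 := fun e => E.f.z1 (Subtype.ext e)
  have hzK : ∀ y ∈ zpowers q, y ∈ K → y = 1 := fun y hy hyK => KQ E.st hyK hy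
  have htz : t ≠ z := fun e => E.tK (e ▸ z.2)
  have htzc : t * (z : G) = z * t := E.comm
  have htq := E.st.tQ
  have hzinv : (z : G)⁻¹ = z := inv_eq_of_mul_eq_one_right hzz
  have haX : (a : G) ∈ X := hmX.2 (congrArg Subtype.val haz)
  -- elements of `⟨q⟩` with a trivial square
  have hqsq : ∀ y ∈ zpowers q, y * y = 1 → y = 1 ∨ y = t := by
    intro y hy hyy
    by_cases h1 : y = 1
    · exact Or.inl h1
    · exact Or.inr (E.st.uniq hy hyy h1)
  have hzq : (z : G) ∉ zpowers q := fun h => hz1 (hzK _ h z.2)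
  have hJ : ∀ x : X, x ∈ JJ (⟨t, hmX.2 E.comm⟩ : X) → (x : G) ∈ O t (z : G) := by
    intro x hx
    have h3 : (x : G) ∈ (JJ (⟨t, hmX.2 E.comm⟩ : X)).map X.subtype := ⟨x, hx, rfl⟩
    rw [JJ, MonoidHom.map_closure] at h3
    refine closure_mono ?_ h3
    rintro _ ⟨y, ⟨hy1, hy2⟩, rfl⟩
    refine ⟨congrArg Subtype.val hy1, hmX.1 y.2, ?_⟩
    show Odd (orderOf (y : G))
    rwa [Subgroup.orderOf_coe]
  refine ⟨⟨a, haX⟩,
    { zc := fun x => Subtype.ext (hmX.1 x.2)
      zz := Subtype.ext hzz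
      z1 := fun e => hz1 (congrArg Subtype.val e)
      tt := Subtype.ext E.st.tt
      t1 := fun e => E.st.t1 (congrArg Subtype.val e)
      tz := fun e => htz (congrArg Subtype.val e)
      O := hO
      s := ?_
      ao := by rwa [Subgroup.orderOf_mk, Subgroup.orderOf_coe]
      nQ := ?_
      Y2 := ?_
      Yom := ?_
      YJ := ?_
      SS := ?_
      sq16 := ?_
      jz := ?_
      jQ := ?_
      com := hcom
      sw := ?_ }⟩
  · -- `s`
    have hQX : (Q.map K.subtype) ≤ X := by
      rintro _ ⟨r, hr, rfl⟩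
      exact hmX.2 (congrArg Subtype.val (zQ' E.f hr))
    exact
      { card := by
          rw [QX, Nat.card_congr (subgroupOfEquivOfLe hQX).toEquiv, ← E.f.card]
          exact Nat.card_congr (Q.equivMapOfInjective _ K.subtype_injective).toEquiv.symm
        zQ := mem_QX.2 ⟨z, E.f.zQ, rfl⟩
        sq := by
          intro r hr h1 h2
          obtain ⟨r', hr', e⟩ := mem_QX.1 hr
          apply Subtype.ext
          show (r : G) * r = z
          rw [← e]
          refine congrArg Subtype.val (E.f.sq r' hr' (fun h => h1 ?_) (fun h => h2 ?_))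
          · apply Subtype.ext
            rw [← e, h]; rfl
          · apply Subtype.ext
            rw [← e, h]
        ct := by
          intro r hr
          obtain ⟨r', hr', e⟩ := mem_QX.1 hr
          apply Subtype.ext
          show (r : G) * t = t * r
          rw [← e]
          exact E.st.Kt r' r'.2
        a_t := Subtype.ext (E.st.Kt a a.2)
        aQ := by
          intro r hr
          obtain ⟨r', hr', e⟩ := mem_QX.1 hr
          refine mem_QX.2 ⟨a * r' * a⁻¹, nQ E.f haz r' hr', ?_⟩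
          show (a : G) * r' * (a : G)⁻¹ = a * r * (a : G)⁻¹
          rw [e]
        aD := by
          intro d hd
          rw [mem_bot] at hd
          rw [hd, mul_one, one_mul]
        act := by
          intro r hr h1 h2 h3
          obtain ⟨r', hr', e⟩ := mem_QX.1 hr
          refine ha r' hr' (fun h => h1 ?_) (fun h => h2 ?_) (Subtype.ext ?_)
          · apply Subtype.ext
            rw [← e, h]; rfl
          · apply Subtype.ext
            rw [← e, h]
          · show (r' : G) * (a * r' * (a : G)⁻¹) = a * r' * (a : G)⁻¹ * r'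
            rw [e]
            exact congrArg Subtype.val h3 }
  · -- `nQ`
    intro g hg r hr
    obtain ⟨r', hr', e⟩ := mem_QX.1 hr
    have hgt : (g : G) * t = t * g := congrArg Subtype.val hg
    set α := K.normalizerMonoidHom ⟨g, E.st.nK g hgt⟩ with hα
    have hz : α z = z := by
      apply Subtype.ext
      rw [nmh_apply, hmX.1 g.2, mul_inv_cancel_right]
    refine mem_QX.2 ⟨α r', E.f.aut α hz r' hr', ?_⟩
    rw [nmh_apply, e]
    rfl
  · -- `Y2`
    intro y hy
    obtain ⟨hyt, hyQ⟩ := E.in_iff.1 hy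
    have hq2 : ∀ w ∈ zpowers q, ∃ k : ℕ, w ^ 2 ^ k = 1 := by
      intro w hw
      obtain ⟨k, hk⟩ := E.st.pQ ⟨w, hw⟩
      exact ⟨k, congrArg Subtype.val hk⟩
    obtain ⟨k, hk⟩ : ∃ k : ℕ, (y : G) ^ 2 ^ k = 1 := by
      have hyz : Commute (y : G) z := hmX.1 y.2
      rcases E.cases hyt hyQ with h1 | h1 | h1
      · exact hq2 _ h1
      · obtain ⟨k, hk⟩ := hq2 _ h1
        refine ⟨k + 1, ?_⟩
        have h2 : (z : G)⁻¹ * y = z * y := by rw [hzinv]
        rw [h2, hyz.symm.mul_pow] at hk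
        have h3 : ((z : G) ^ 2 ^ k * (y : G) ^ 2 ^ k) ^ 2 = 1 := by rw [hk, one_pow]
        have c1 : Commute ((z : G) ^ 2 ^ k) ((y : G) ^ 2 ^ k) := (hyz.symm.pow_pow _ _)
        rw [c1.mul_pow, ← pow_mul, ← pow_mul, ← pow_succ, pow_succ', pow_mul (z : G), pow_two, hzz, one_pow,
          one_mul] at h3
        rwa [pow_succ']
      · obtain ⟨k, hk⟩ := hq2 _ h1
        refine ⟨k + 2, ?_⟩
        have hyz2 : Commute ((y : G) * y) z := hyz.mul_left hyz
        have h2 : (z : G)⁻¹ * (y * y) = z * (y * y) := by rw [hzinv]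
        rw [h2, hyz2.symm.mul_pow] at hk
        have h3 : ((z : G) ^ 2 ^ k * ((y : G) * y) ^ 2 ^ k) ^ 2 = 1 := by rw [hk, one_pow]
        have c1 : Commute ((z : G) ^ 2 ^ k) (((y : G) * y) ^ 2 ^ k) := (hyz2.symm.pow_pow _ _)
        rw [c1.mul_pow, ← pow_mul, ← pow_mul, ← pow_succ, pow_succ', pow_mul (z : G), pow_two (z : G), hzz,
          one_pow, one_mul, ← pow_two, ← pow_mul] at h3
        have e : 2 ^ (k + 2) = 2 * (2 * 2 ^ k) := by rw [pow_succ, pow_succ]; ring
        rw [e]
        exact h3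
    have h2 : y ^ 2 ^ k = 1 := Subtype.ext hk
    have : Fact (Nat.Prime 2) := ⟨Nat.prime_two⟩
    have h3 : orderOf y ∣ 2 ^ k := orderOf_dvd_of_pow_eq_one h2
    obtain ⟨m, -, hm⟩ := (Nat.dvd_prime_pow Nat.prime_two).1 h3
    exact IsPGroup.of_card (n := m) (by rw [Nat.card_zpowers, hm])
  · -- `Yom`
    intro y hy hyy
    obtain ⟨hyt, hyQ⟩ := E.in_iff.1 hy
    have hyy' : (y : G) * y = 1 := congrArg Subtype.val hyy
    have hyz : (y : G) * z = z * y := hmX.1 y.2
    rcases E.cases hyt hyQ with h1 | h1 | h1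
    · rcases hqsq _ h1 hyy' with e | e
      · exact Or.inl (Subtype.ext e)
      · exact Or.inr (Or.inr (Or.inl (Subtype.ext e)))
    · have h2 : (z : G)⁻¹ * y * ((z : G)⁻¹ * y) = 1 := by
        rw [hzinv]
        calc (z : G) * y * (z * y) = z * (y * z) * y := by group
          _ = z * (z * y) * y := by rw [hyz]
          _ = (z * z) * (y * y) := by group
          _ = 1 := by rw [hzz, hyy', one_mul]
      rcases hqsq _ h1 h2 with e | e
      · exact Or.inr (Or.inl (Subtype.ext (inv_mul_eq_one.1 e).symm))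
      · refine Or.inr (Or.inr (Or.inr (Subtype.ext ?_)))
        show (y : G) = t * z
        rw [htzc, ← e, mul_inv_cancel_left]
    · exfalso
      rw [hyy', mul_one, hzinv] at h1
      exact hzq h1
  · -- `YJ`
    intro y hy b hbt hbo
    obtain ⟨hyt, hyQ⟩ := E.in_iff.1 hy
    have hbt' : (b : G) * t = t * b := congrArg Subtype.val hbt
    have hbK : (b : G) ∈ K := E.mem_of_odd hbt' (by rwa [Subgroup.orderOf_coe])
    have h1 : (⟨b, hbK⟩ : K) ∈ Facts.J z :=
      subset_closure ⟨Subtype.ext (hmX.1 b.2), by rwa [Subgroup.orderOf_mk, Subgroup.orderOf_coe]⟩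
    have h2 := congrArg Subtype.val (E.f.k3 _ (E.triv hyt hyQ) _ h1)
    rw [nmh_apply] at h2
    have h3 : (y : G) * b * (y : G)⁻¹ = b := h2
    exact Subtype.ext (mul_inv_eq_iff_eq_mul.1 h3)
  · -- `SS`
    intro S hS htS htzS
    have hm : ∀ y ∈ S.map X.subtype, y * t = t * y ∧ ∀ r ∈ Q, y * r = r * y := by
      rintro _ ⟨y, hy, rfl⟩
      exact E.in_iff.1 (hS y hy)
    have hSq : ∀ y ∈ S.map X.subtype, y ∈ zpowers q → y = 1 := by
      rintro _ ⟨y, hy, rfl⟩ hyq
      by_contra hne
      have h1 := t_mem E.st.toStart0 hyq hne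
      obtain ⟨k, hk⟩ := mem_zpowers_iff.1 h1
      apply htS
      have h2 : y ^ k ∈ S := S.zpow_mem hy k
      have h3 : y ^ k = ⟨t, hmX.2 E.comm⟩ := Subtype.ext hk
      rwa [h3] at h2
    constructor
    · intro y hy
      have hyt := (hm y ⟨y, hy, rfl⟩).1
      have hyQ := (hm y ⟨y, hy, rfl⟩).2
      have hyz : (y : G) * z = z * y := hmX.1 y.2
      have hyy : (y : G) * y ∈ S.map X.subtype := ⟨y * y, S.mul_mem hy hy, rfl⟩
      rcases E.cases hyt hyQ with h1 | h1 | h1
      · exact Or.inl (Subtype.ext (hSq y ⟨y, hy, rfl⟩ h1))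
      · right; left
        have h2 : (z : G)⁻¹ * y * ((z : G)⁻¹ * y) = y * y := by
          rw [hzinv]
          calc (z : G) * y * (z * y) = z * (y * z) * y := by group
            _ = z * (z * y) * y := by rw [hyz]
            _ = (z * z) * (y * y) := by group
            _ = y * y := by rw [hzz, one_mul]
        have h3 : (y : G) * y = 1 := hSq _ hyy (by rw [← h2]; exact mul_mem h1 h1)
        rw [h3] at h2
        rcases hqsq _ h1 h2 with e | e
        · exact Subtype.ext (inv_mul_eq_one.1 e).symm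
        · exfalso
          apply htzS
          have h4 : y = ⟨t, hmX.2 E.comm⟩ * ⟨z, hmX.2 rfl⟩ := by
            apply Subtype.ext
            show (y : G) = t * z
            rw [htzc, ← e, mul_inv_cancel_left]
          rwa [← h4]
      · right; right
        -- `y² = z · r`, `r ∈ ⟨q⟩`
        have hyyS : y * y ∈ S := S.mul_mem hy hy
        have h2 : (z : G)⁻¹ * (y * y) * ((z : G)⁻¹ * (y * y)) = (y * y) * (y * y) := by
          rw [hzinv]
          have c : Commute ((y : G) * y) z := (show Commute (y : G) z from hyz).mul_left hyz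
          calc (z : G) * (y * y) * (z * (y * y)) = z * ((y * y) * z) * (y * y) := by group
            _ = z * (z * (y * y)) * (y * y) := by rw [c.eq]
            _ = (z * z) * ((y * y) * (y * y)) := by group
            _ = (y * y) * (y * y) := by rw [hzz, one_mul]
        have h3 : ((y : G) * y) * (y * y) = 1 :=
          hSq _ ⟨(y * y) * (y * y), S.mul_mem hyyS hyyS, rfl⟩ (by rw [← h2]; exact mul_mem h1 h1)
        rw [h3] at h2
        rcases hqsq _ h1 h2 with e | e
        · exact Subtype.ext (inv_mul_eq_one.1 e).symm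
        · exfalso
          apply htzS
          have h4 : y * y = ⟨t, hmX.2 E.comm⟩ * ⟨z, hmX.2 rfl⟩ := by
            apply Subtype.ext
            show (y : G) * y = t * z
            rw [htzc, ← e, mul_inv_cancel_left]
          rwa [← h4]
    · have h1 : Nat.card S = Nat.card (S.map X.subtype) :=
        Nat.card_congr (S.equivMapOfInjective _ X.subtype_injective).toEquiv
      rw [h1]
      exact E.card_le_eight _ (fun y hy => (hm y hy).1) (fun y hy => (hm y hy).2) hSq
  · -- `sq16`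
    intro S hS hsq
    have hm : ∀ y ∈ S.map X.subtype, y * t = t * y ∧ ∀ r ∈ Q, y * r = r * y := by
      rintro _ ⟨y, hy, rfl⟩
      exact E.in_iff.1 (hS y hy)
    have h1 : Nat.card S = Nat.card (S.map X.subtype) :=
      Nat.card_congr (S.equivMapOfInjective _ X.subtype_injective).toEquiv
    rw [h1]
    apply E.card_le_sixteen _ (fun y hy => (hm y hy).1) (fun y hy => (hm y hy).2)
    rintro _ ⟨y, hy, rfl⟩ hyq
    apply hqsq _ hyq
    rcases hsq y hy with e | e
    · exact congrArg Subtype.val e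
    · exfalso
      apply hzq
      have h2 : (y : G) * y = z := congrArg Subtype.val e
      rw [← h2]
      exact mul_mem hyq hyq
  · -- `jz`
    intro x hx hxx
    obtain ⟨y, hyJ, hy⟩ := E.O_le (hJ x hx)
    have h1 : y * y = 1 := by
      apply Subtype.ext
      show (y : G) * y = 1
      rw [hy]
      exact congrArg Subtype.val hxx
    rcases E.f.jz y hyJ h1 with e | e
    · left
      apply Subtype.ext
      rw [← hy, e]; rfl
    · right
      apply Subtype.ext
      rw [← hy, e]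
  · -- `jQ`
    intro x hx hxQ
    obtain ⟨y, hyJ, hy⟩ := E.O_le (hJ x hx)
    have h1 : ∀ r ∈ Q, y * r = r * y := by
      intro r hr
      have hrC : (r : G) ∈ X := hmX.2 (congrArg Subtype.val (zQ' E.f hr))
      have h2 := congrArg Subtype.val (hxQ ⟨r, hrC⟩ (mem_QX.2 ⟨r, hr, rfl⟩))
      apply Subtype.ext
      show (y : G) * r = r * y
      rw [hy]
      exact h2
    rcases E.f.jQ y hyJ h1 with e | e
    · left
      apply Subtype.ext
      rw [← hy, e]; rfl
    · right
      apply Subtype.ext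
      rw [← hy, e]
  · -- `sw`
    obtain ⟨s, h1, h2⟩ := hsw
    exact ⟨⟨s, hmX.2 (mul_inv_eq_iff_eq_mul.1 h2)⟩, Subtype.ext h1⟩

end Front.Emb

end Cfsg.Agent.OddHalf.D6.RThree
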