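import Cfsg.Agent.OddHalf.D6.RThree.Facts

/-!
# ODD half, D6, `L₃(3)` and `U₃(3)`: element-wise facts (helper56)

`Mod z c w g j u i q1 q2 Q`: facts on the elements of `C(z)` and one further element `g`; no automorphisms.
`Abs.lean`: `Mod.one : Mod .. → Facts.One z Q`.

Matrices (`3 × 3`): `z = diag(1,-1,-1)`, `w = diag(-1,1,-1)`, `g` the permutation matrix `e0 ↦ e1 ↦ e2 ↦ e0`,
`j = 1 ⊕ [[0,1],[-1,0]]`, `q1 = j`;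
* `L₃(3)`: `c = i = z`, `u = w`, `q2 = 1 ⊕ [[1,1],[1,-1]]`;
* `U₃(3)`: `c = diag(-1,I,I)`, `i = q2 = diag(1,I,-I)`, `u = diag(I,1,-I)`.
`J z ∩ {2-elements} = Q = ⟨q1, q2⟩ = Q₈`, `J z = SL₂(3)`; `C(C(z)) = ⟨c⟩`; `p = u⁻¹ i` generates `C(z)` modulo `J z`;
`C(z) ∩ C(w) = ⟨u, i⟩`.
-/

set_option autoImplicit false

namespace Cfsg.Agent.OddHalf.D6.RThree.Mod

open Subgroup
open Cfsg.Agent.OddHalf.D6.RThree.Facts (J)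

/-- element-wise facts -/
structure Mod {K : Type*} [Group K] (z c w g j u i q1 q2 : K) (Q : Subgroup K) : Prop where
  zz : z * z = 1
  z1 : z ≠ 1
  ww : w * w = 1
  wz : w * z = z * w
  odd : Odd (centralizer ({z} : Set K)).index
  /-- `Abs.cls_of`: from a Sylow subgroup `S` whose centre has only the involution `z` -/
  cls : ∀ α : MulAut K, ∃ x : K, α z = x * z * x⁻¹
  Qz : ∀ q ∈ Q, q * z = z * q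
  zQ : z ∈ Q
  card : Nat.card Q = 8
  sq : ∀ q ∈ Q, q ≠ 1 → q ≠ z → q * q = z
  Qn : ∀ x, x * z = z * x → ∀ q ∈ Q, x * q * x⁻¹ ∈ Q
  m1 : q1 ∈ Q
  m2 : q2 ∈ Q
  s1 : q1 * q1 = z
  s2 : q2 * q2 = z
  n12 : q1 * q2 ≠ q2 * q1
  qgen : ∀ H : Subgroup K, q1 ∈ H → q2 ∈ H → Q ≤ H
  full : ∀ a ∈ Q, ∀ b ∈ Q, a * a = z → b * b = z → a * b ≠ b * a →
    ∃ x, x * z = z * x ∧ x * q1 = a * x ∧ x * q2 = b * x
  cent : ∀ x, x * z = z * x → (∀ q ∈ Q, x * q = q * x) → ∃ k : ℕ, x = c ^ k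
  cz : ∀ x, x * z = z * x → c * x = x * c
  cc : c = z ∨ c * c = z
  QJ : Q ≤ J z
  JQ : ∀ x ∈ J z, IsPGroup 2 (zpowers x) → x ∈ Q
  ex : ∃ a : K, a * z = z * a ∧ Odd (orderOf a) ∧
    ∀ q ∈ Q, q ≠ 1 → q ≠ z → q * (a * q * a⁻¹) ≠ a * q * a⁻¹ * q
  pJ : ∀ x, x * z = z * x → ∃ k : ℕ, ∃ y ∈ J z, x = (u⁻¹ * i) ^ k * y
  p2 : IsPGroup 2 (zpowers (u⁻¹ * i))
  pq : ∃ q ∈ Q, u⁻¹ * i * q ≠ q * (u⁻¹ * i) ∧ u⁻¹ * i * q ≠ q * z * (u⁻¹ * i)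
  uz : u * z = z * u
  uw : u * w = w * u
  iQ : i ∈ Q
  iw : i * w = w * i
  ui : u * i = i * u
  A : ∀ a, a * z = z * a → a * w = w * a → ∃ m n : ℕ, a = u ^ m * i ^ n
  uJ : u ∈ J w
  Jw : ∀ v ∈ J w, v * z = z * v → v = 1 ∨ v = w ∨ v = u ∨ v = u * w
  cu : ∀ k : ℕ, u * c ^ k = 1 ∨ u * c ^ k = w ∨ u * c ^ k = u ∨ u * c ^ k = u * w → c ^ k = 1
  bu : ∀ k : ℕ, u * i⁻¹ * c ^ k = 1 ∨ u * i⁻¹ * c ^ k = w ∨ u * i⁻¹ * c ^ k = u ∨ u * i⁻¹ * c ^ k = u * w →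
    u * i⁻¹ * c ^ k = u⁻¹
  jm : j ∈ Q
  jj : j * j = z
  jw : j * w = w * z * j
  ji : j * i = i⁻¹ * j
  ju : j * u = u * i⁻¹ * j
  ci : c * (u * u) = i
  ordp : ∀ k : ℕ, c ^ k = 1 → (u⁻¹ * i) ^ k = 1
  gz : g * z = w * g
  gw : g * w = w * z * g
  gen : ∀ H : Subgroup K, (∀ x, x * z = z * x → x ∈ H) → g ∈ H → H = ⊤
  inv : ∀ b, b * z = z * b → b * w = w * b → j * g * b = b⁻¹ * (j * g) →
    ∃ k : ℕ, b * (j * (g * c ^ k)) = j * (c ^ k * g)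
  hA : j * g * (j * g) * z = z * (j * g * (j * g))
  ctr : ∀ x : K, (∀ y, x * y = y * x) → x = 1
  big : 189 ∣ Nat.card K ∨ 351 ∣ Nat.card K

end Cfsg.Agent.OddHalf.D6.RThree.Mod
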