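import Cfsg.Agent.OddHalf.D6.RThree.OrdHyp
import Cfsg.Agent.OddHalf.D6.QThree.PumpOrd.All

/-!
# The sporadic groups and the Tits group have order larger than `3024` (helper340)
-/

set_option autoImplicit false

namespace Cfsg.Agent.OddHalf.D6.RThree.Ord

open Cfsg.Agent.OddHalf.D6.QThree

universe u

theorem spor {G : Type u} [Group G] (hG : IsSporadicGroup G) : 3024 < Nat.card G := by
  rcases hG with h1 | h1 | h1 | h1 | h1 | h1 | h1 | h1 | h1 | h1 | h1 | h1 | h1 | h1 | h1 | h1 | h1 |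
    h1 | h1 | h1 | h1 | h1 | h1 | h1 | h1 | h1
  · rw [PumpOrd.m11 h1]; norm_num
  · rw [PumpOrd.m12 h1]; norm_num
  · rw [PumpOrd.m22 h1]; norm_num
  · exact lt_trans (by norm_num) (PumpOrd.lt_m23 h1)
  · exact lt_trans (by norm_num) (PumpOrd.lt_m24 h1)
  · rw [PumpOrd.j1 h1]; norm_num
  · rw [PumpOrd.j2 h1]; norm_num
  · exact lt_trans (by norm_num) (PumpOrd.lt_j3 h1)
  · exact lt_trans (by norm_num) (PumpOrd.lt_j4 h1)
  · exact lt_trans (by norm_num) (PumpOrd.lt_co1 h1)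
  · exact lt_trans (by norm_num) (PumpOrd.lt_co2 h1)
  · exact lt_trans (by norm_num) (PumpOrd.lt_co3 h1)
  · exact lt_trans (by norm_num) (PumpOrd.lt_mcl h1)
  · exact lt_trans (by norm_num) (PumpOrd.lt_hs h1)
  · exact lt_trans (by norm_num) (PumpOrd.lt_suz h1)
  · exact lt_trans (by norm_num) (PumpOrd.lt_he h1)
  · exact lt_trans (by norm_num) (PumpOrd.lt_ru h1)
  · exact lt_trans (by norm_num) (PumpOrd.lt_on h1)
  · exact lt_trans (by norm_num) (PumpOrd.lt_ly h1)
  · exact lt_trans (by norm_num) (PumpOrd.lt_fi22 h1)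
  · exact lt_trans (by norm_num) (PumpOrd.lt_fi23 h1)
  · exact lt_trans (by norm_num) (PumpOrd.lt_fi24 h1)
  · exact lt_trans (by norm_num) (PumpOrd.lt_hn h1)
  · exact lt_trans (by norm_num) (PumpOrd.lt_th h1)
  · exact lt_trans (by norm_num) (PumpOrd.lt_b h1)
  · exact lt_trans (by norm_num) (PumpOrd.lt_m h1)

theorem spBig : SpBig.{u} where
  spor := fun _ _ h => spor h
  tits := fun _ _ h => lt_trans (by norm_num) (PumpOrd.lt_tits h)

end Cfsg.Agent.OddHalf.D6.RThree.Ord
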