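import Cfsg.Agent.OddHalf.D6.RThree.OrdKnown
import Cfsg.Agent.OddHalf.D6.RThree.OrdSpor

/-!
# **(KO)** The known non-abelian simple groups of order at most `3024` (helper340)
-/

set_option autoImplicit false

namespace Cfsg.Agent.OddHalf.D6.RThree.Ord

universe u

theorem of_order {X : Type u} [Group X] (hX : IsKnownSimple' X) (hna : ¬ IsMulCommutative X)
    (h : Nat.card X ≤ 3024) :
    IsAlternating X ∨ (∃ (F : Type) (_ : Field F) (_ : Fintype F),
      Fintype.card F ∈ ({7, 8, 11, 13, 17} : Finset ℕ) ∧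
      Nonempty (X ≃* Matrix.ProjectiveSpecialLinearGroup (Fin 2) F)) :=
  small spBig hX hna h

end Cfsg.Agent.OddHalf.D6.RThree.Ord
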