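import Cfsg.Agent.OddHalf.D6.QThree.PumpArith

/-!
# Known simple groups of order at most `3024`: arithmetic of the classical orders (helper340)
-/

set_option autoImplicit false

namespace Cfsg.Agent.OddHalf.D6.RThree.OrdArith

open Finset Cfsg.Agent.OddHalf.D6.QThree

/-! ### `PSL_n(q)` -/

theorem psl_two {q c : ℕ} (hq : 2 ≤ q) (h : Nat.gcd 2 (q - 1) * ((q - 1) * c) = (q ^ 2 - 1) * (q ^ 2 - q))
    (hc : c ≤ 3024) : q ≤ 17 ∧ q ≠ 16 := by
  obtain ⟨d, rfl⟩ : ∃ d, q = d + 1 := ⟨q - 1, by omega⟩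
  have hd1 : 1 ≤ d := by omega
  have e1 : (d + 1) ^ 2 - 1 = d * (d + 2) := by
    have : (d + 1) ^ 2 = d * (d + 2) + 1 := by ring
    omega
  have e2 : (d + 1) ^ 2 - (d + 1) = d * (d + 1) := by
    have : (d + 1) ^ 2 = d * (d + 1) + (d + 1) := by ring
    omega
  rw [e1, e2, Nat.add_sub_cancel] at h
  have h' : Nat.gcd 2 d * c = d * (d + 1) * (d + 2) := by
    apply Nat.eq_of_mul_eq_mul_left (show 0 < d by omega)
    calc d * (Nat.gcd 2 d * c) = Nat.gcd 2 d * (d * c) := by ring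
      _ = d * (d + 2) * (d * (d + 1)) := h
      _ = _ := by ring
  have hb : Nat.gcd 2 d * c ≤ 2 * c := Nat.mul_le_mul_right _ (Nat.gcd_le_left _ (by norm_num))
  have hd18 : d < 18 := by
    by_contra hcon
    have h3 : 18 ≤ d := by omega
    have h4 : 18 * (18 + 1) * (18 + 2) ≤ d * (d + 1) * (d + 2) :=
      Nat.mul_le_mul (Nat.mul_le_mul h3 (by omega)) (by omega)
    omega
  interval_cases d <;> simp_all

theorem psl {n q c : ℕ} (hn : 2 ≤ n) (hq : 2 ≤ q)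
    (h : Nat.gcd n (q - 1) * ((q - 1) * c) = ∏ i : Fin n, (q ^ n - q ^ (i : ℕ)))
    (hc : c ≤ 3024) : (n = 2 ∧ q ≤ 17 ∧ q ≠ 16) ∨ (n = 3 ∧ q = 2) := by
  have hge := PumpArith.psl_ge hn hq h
  have hn4 : n < 4 := by
    by_contra hcon
    have h6 : 4 ≤ n := by omega
    have h1 : 12 ≤ n * (n - 1) := by
      calc 12 = 4 * 3 := by norm_num
        _ ≤ n * (n - 1) := Nat.mul_le_mul h6 (by omega)
    have h2 : 2 ^ 12 ≤ q ^ (n * (n - 1)) :=
      (Nat.pow_le_pow_right (by norm_num) h1).trans (Nat.pow_le_pow_left hq _)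
    have h3 : 1 ≤ (q - 1) ^ (n - 2) := Nat.one_le_pow _ _ (by omega)
    have h4 : 2 ^ 12 * 1 ≤ q ^ (n * (n - 1)) * (q - 1) ^ (n - 2) := Nat.mul_le_mul h2 h3
    omega
  interval_cases n
  · left
    refine ⟨rfl, psl_two hq ?_ hc⟩
    rw [h]
    simp [Fin.prod_univ_succ]
  · right
    have hq4 : q < 4 := by
      by_contra hcon
      have h1 : 4 ≤ q := by omega
      have h2 : 4 ^ 6 * 3 ^ 1 ≤ q ^ 6 * (q - 1) ^ 1 :=
        Nat.mul_le_mul (Nat.pow_le_pow_left h1 _) (Nat.pow_le_pow_left (by omega) _)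
      norm_num at h2 hge
      omega
    interval_cases q
    · exact ⟨rfl, rfl⟩
    · exfalso
      simp [Fin.prod_univ_succ] at h
      omega

/-! ### symplectic orders -/

theorem sp {m q c : ℕ} (hm : 2 ≤ m) (hq : 2 ≤ q) (h3 : m = 2 → 3 ≤ q)
    (h : Nat.gcd 2 (q - 1) * c = q ^ (m ^ 2) * ∏ i ∈ range m, (q ^ (2 * (i + 1)) - 1))
    (hc : c ≤ 3024) : False := by
  have hge : q ^ (2 * m ^ 2) ≤ 2 * c := by
    calc q ^ (2 * m ^ 2) = q ^ (m ^ 2) * q ^ (m ^ 2) := by rw [two_mul, pow_add]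
      _ ≤ q ^ (m ^ 2) * ∏ i ∈ range m, (q ^ (2 * (i + 1)) - 1) := Nat.mul_le_mul_left _ (PumpArith.sp_ge hq)
      _ = _ := h.symm
      _ ≤ 2 * c := Nat.mul_le_mul_right _ (Nat.gcd_le_left _ (by norm_num))
  have hm3 : m < 3 := by
    by_contra hcon
    have h1 : 18 ≤ 2 * m ^ 2 := by nlinarith
    have h2 : 2 ^ 18 ≤ q ^ (2 * m ^ 2) :=
      (Nat.pow_le_pow_right (by norm_num) h1).trans (Nat.pow_le_pow_left hq _)
    omega
  obtain rfl : m = 2 := by omega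
  have h2 : 3 ^ 8 ≤ q ^ 8 := Nat.pow_le_pow_left (h3 rfl) _
  norm_num at h2 hge
  omega

/-! ### unitary orders -/

theorem psu {n q c : ℕ} (hn : 3 ≤ n) (hq : 2 ≤ q) (h32 : ¬ (n = 3 ∧ q = 2))
    (h : Nat.gcd n (q + 1) * ((q + 1) * c) =
      q ^ (n * (n - 1) / 2) * ∏ i ∈ range n, (if Even i then q ^ (i + 1) + 1 else q ^ (i + 1) - 1))
    (hc : c ≤ 3024) : False := by
  have hge : q ^ (2 * (n * (n - 1) / 2)) ≤ (q + 1) * ((q + 1) * c) := by
    calc q ^ (2 * (n * (n - 1) / 2)) = q ^ (n * (n - 1) / 2) * q ^ (n * (n - 1) / 2) := by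
          rw [two_mul, pow_add]
      _ ≤ _ := Nat.mul_le_mul_left _ (PumpArith.psu_ge hq)
      _ = _ := h.symm
      _ ≤ _ := Nat.mul_le_mul_right _ (Nat.gcd_le_right _ (by omega))
  have hn4 : n < 5 := by
    by_contra hcon
    have h1 : 10 ≤ n * (n - 1) / 2 := by
      rw [Nat.le_div_iff_mul_le (by norm_num)]
      calc 10 * 2 = 5 * 4 := by norm_num
        _ ≤ n * (n - 1) := Nat.mul_le_mul (by omega) (by omega)
    have h2 : q ^ 20 ≤ q ^ (2 * (n * (n - 1) / 2)) := Nat.pow_le_pow_right (by omega) (by omega)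
    have h3 : q + 1 ≤ q * q := by nlinarith
    have h4 : (q + 1) * ((q + 1) * c) ≤ q * q * (q * q * c) :=
      Nat.mul_le_mul h3 (Nat.mul_le_mul h3 le_rfl)
    have h5 : q * q * (q * q * c) = q ^ 4 * c := by ring
    have h6 : q ^ 20 = q ^ 4 * q ^ 16 := by ring
    have h7 : q ^ 4 * q ^ 16 ≤ q ^ 4 * c := by omega
    have h8 : q ^ 16 ≤ c := Nat.le_of_mul_le_mul_left h7 (Nat.pow_pos (by omega))
    have h9 : 2 ^ 16 ≤ q ^ 16 := Nat.pow_le_pow_left hq _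
    norm_num at h9
    omega
  interval_cases n
  · have e : ∏ i ∈ range 3, (if Even i then q ^ (i + 1) + 1 else q ^ (i + 1) - 1)
        = (q + 1) * ((q ^ 2 - 1) * (q ^ 3 + 1)) := by
      have h1 : ¬ Even 1 := by decide
      have h2 : Even 2 := by decide
      simp only [Finset.prod_range_succ, Finset.prod_range_zero, Even.zero, if_true, h1, if_false, h2]
      ring
    have e2 : Nat.gcd 3 (q + 1) * c = q ^ 3 * ((q ^ 2 - 1) * (q ^ 3 + 1)) := by
      apply Nat.eq_of_mul_eq_mul_left (show 0 < q + 1 by omega)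
      rw [e] at h
      calc (q + 1) * (Nat.gcd 3 (q + 1) * c) = Nat.gcd 3 (q + 1) * ((q + 1) * c) := by ring
        _ = q ^ (3 * (3 - 1) / 2) * ((q + 1) * ((q ^ 2 - 1) * (q ^ 3 + 1))) := h
        _ = _ := by norm_num; ring
    have e3 : Nat.gcd 3 (q + 1) * c ≤ 3 * c := Nat.mul_le_mul_right _ (Nat.gcd_le_left _ (by norm_num))
    have hq4 : q < 4 := by
      by_contra hcon
      have h9 : 4 ≤ q := by omega
      have h1 : 4 ^ 3 ≤ q ^ 3 := Nat.pow_le_pow_left h9 _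
      have h2 : 4 ^ 2 ≤ q ^ 2 := Nat.pow_le_pow_left h9 _
      have h3 : 4 ^ 3 * (15 * 65) ≤ q ^ 3 * ((q ^ 2 - 1) * (q ^ 3 + 1)) :=
        Nat.mul_le_mul h1 (Nat.mul_le_mul (by omega) (by omega))
      norm_num at h3
      omega
    interval_cases q
    · exact h32 ⟨rfl, rfl⟩
    · norm_num at e2
      omega
  · have e : ∏ i ∈ range 4, (if Even i then q ^ (i + 1) + 1 else q ^ (i + 1) - 1)
        = (q + 1) * ((q ^ 2 - 1) * (q ^ 3 + 1) * (q ^ 4 - 1)) := by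
      have h1 : ¬ Even 1 := by decide
      have h2 : Even 2 := by decide
      have h3 : ¬ Even 3 := by decide
      simp only [Finset.prod_range_succ, Finset.prod_range_zero, Even.zero, if_true, h1, if_false, h2, h3]
      ring
    have e2 : Nat.gcd 4 (q + 1) * c = q ^ 6 * ((q ^ 2 - 1) * (q ^ 3 + 1) * (q ^ 4 - 1)) := by
      apply Nat.eq_of_mul_eq_mul_left (show 0 < q + 1 by omega)
      rw [e] at h
      calc (q + 1) * (Nat.gcd 4 (q + 1) * c) = Nat.gcd 4 (q + 1) * ((q + 1) * c) := by ring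
        _ = q ^ (4 * (4 - 1) / 2) * ((q + 1) * ((q ^ 2 - 1) * (q ^ 3 + 1) * (q ^ 4 - 1))) := h
        _ = _ := by norm_num; ring
    have e3 : Nat.gcd 4 (q + 1) * c ≤ 4 * c := Nat.mul_le_mul_right _ (Nat.gcd_le_left _ (by norm_num))
    have h1 : 2 ^ 6 ≤ q ^ 6 := Nat.pow_le_pow_left hq _
    have h2 : 2 ^ 2 ≤ q ^ 2 := Nat.pow_le_pow_left hq _
    have h3 : 2 ^ 3 ≤ q ^ 3 := Nat.pow_le_pow_left hq _
    have h4 : 2 ^ 4 ≤ q ^ 4 := Nat.pow_le_pow_left hq _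
    have h5 : 2 ^ 6 * (3 * 9 * 15) ≤ q ^ 6 * ((q ^ 2 - 1) * (q ^ 3 + 1) * (q ^ 4 - 1)) :=
      Nat.mul_le_mul h1 (Nat.mul_le_mul (Nat.mul_le_mul (by omega) (by omega)) (by omega))
    norm_num at h5
    omega

end Cfsg.Agent.OddHalf.D6.RThree.OrdArith
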