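import Cfsg.Agent.OddHalf.D6.RThree.OrdHyp
import Cfsg.Agent.OddHalf.Orders.ExcFi23

/-!
# Known simple groups of order at most `3024`: the exceptional groups of Lie type are larger (helper340)
-/

set_option autoImplicit false

namespace Cfsg.Agent.OddHalf.D6.RThree.Ord

open Cfsg.Agent.OddHalf.Orders

universe u

variable {X : Type u} [Group X]

theorem g2 (hX : Lie.IsoChevG2 X) : 3024 < Nat.card X := by
  by_contra hcon
  have hN : Nat.card X ≤ 3024 := by omega
  obtain ⟨F, _, _, h3, ⟨e⟩⟩ := hX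
  have h : Nat.card X = Orders.g2 (Fintype.card F) := (Nat.card_congr e.toEquiv).trans (S1059.result rfl)
  have hq : 2 ≤ Fintype.card F := Fintype.one_lt_card
  refine big (D := 1) hq ((le_g2 hq).trans ?_) hN (by norm_num)
  rw [one_mul, h]

theorem f4 (hX : Lie.IsoF4 X) : 3024 < Nat.card X := by
  by_contra hcon
  have hN : Nat.card X ≤ 3024 := by omega
  obtain ⟨F, _, _, ⟨e⟩⟩ := hX
  have h : Nat.card X = Orders.f4 (Fintype.card F) := (Nat.card_congr e.toEquiv).trans (S1062.result rfl)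
  have hq : 2 ≤ Fintype.card F := Fintype.one_lt_card
  refine big (D := 1) hq ((le_f4 hq).trans ?_) hN (by norm_num)
  rw [one_mul, h]

theorem td4 (hX : Lie.Iso3D4 X) : 3024 < Nat.card X := by
  by_contra hcon
  have hN : Nat.card X ≤ 3024 := by omega
  obtain ⟨F, _, _, q, hpp, hF, ⟨e⟩⟩ := hX
  have h : Nat.card X = d4 q := (Nat.card_congr e.toEquiv).trans (S1067.result hpp hF)
  have hq : 2 ≤ q := hpp.two_le
  refine big (D := 1) hq ((le_d4 hq).trans ?_) hN (by norm_num)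
  rw [one_mul, h]

theorem suz (hX : Lie.IsoSuzuki X) : 3024 < Nat.card X := by
  by_contra hcon
  have hN : Nat.card X ≤ 3024 := by omega
  obtain ⟨F, _, _, m, hm, hF, ⟨e⟩⟩ := hX
  have h : Nat.card X = sz (2 ^ (2 * m + 1)) :=
    (Nat.card_congr e.toEquiv).trans (S1163.result hm hF).1
  have hq : 2 ^ 3 ≤ 2 ^ (2 * m + 1) := Nat.pow_le_pow_right (by norm_num) (by omega)
  have h3 : (2 ^ 3) ^ 2 * (2 ^ 3 - 1) * ((2 ^ 3) ^ 2 + 1) ≤ sz (2 ^ (2 * m + 1)) := by
    unfold sz
    exact Nat.mul_le_mul (Nat.mul_le_mul (Nat.pow_le_pow_left hq _) (by omega))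
      (Nat.add_le_add_right (Nat.pow_le_pow_left hq _) _)
  rw [← h] at h3
  norm_num at h3
  omega

theorem ree2 (hX : Lie.IsoRee X) : 3024 < Nat.card X := by
  by_contra hcon
  have hN : Nat.card X ≤ 3024 := by omega
  obtain ⟨F, _, _, m, hm, hF, ⟨e⟩⟩ := hX
  have h : Nat.card X = ree (3 ^ (2 * m + 1)) :=
    (Nat.card_congr e.toEquiv).trans (S1069.result hF)
  have hq : 3 ^ 3 ≤ 3 ^ (2 * m + 1) := Nat.pow_le_pow_right (by norm_num) (by omega)
  have h3 : (3 ^ 3) ^ 3 * (3 ^ 3 - 1) * ((3 ^ 3) ^ 3 + 1) ≤ ree (3 ^ (2 * m + 1)) := by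
    unfold ree
    exact Nat.mul_le_mul (Nat.mul_le_mul (Nat.pow_le_pow_left hq _) (by omega))
      (Nat.add_le_add_right (Nat.pow_le_pow_left hq _) _)
  rw [← h] at h3
  norm_num at h3
  omega

theorem tf4 (hX : Lie.Iso2F4 X) : 3024 < Nat.card X := by
  by_contra hcon
  have hN : Nat.card X ≤ 3024 := by omega
  obtain ⟨F, _, _, m, hm, hF, ⟨e⟩⟩ := hX
  have h : Nat.card X = f42 (2 ^ (2 * m + 1)) :=
    (Nat.card_congr e.toEquiv).trans (S1068.result hF)
  have hq : 2 ≤ 2 ^ (2 * m + 1) := by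
    calc 2 = 2 ^ 1 := rfl
      _ ≤ _ := Nat.pow_le_pow_right (by norm_num) (by omega)
  have h3 : (2 ^ (2 * m + 1)) ^ 24 ≤ Nat.card X := by
    rw [h]
    generalize 2 ^ (2 * m + 1) = q at hq
    exact mul_pow_le (mul_pow_le (mul_pow_le (mul_pow_le (b := 0) le_rfl (by rw [pow_zero]; omega))
      (pow_le_add q 3)) (pow_le_sub hq 3)) (pow_le_add q 6)
  exact big (D := 1) hq (by rw [one_mul]; exact h3) hN (by norm_num)

/-- the exceptional groups of Lie type -/
theorem exceptional (hS : SpBig.{u}) (hX : IsExceptionalLieType X) : 3024 < Nat.card X := by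
  by_contra hcon
  have hN : Nat.card X ≤ 2044735236646502400 := by omega
  rcases hX with h | h | h | h | h | h | h | h | h | h | h
  · exact hcon (g2 h)
  · exact hcon (f4 h)
  · exact e6_fi23 h hN
  · exact e7_fi23 h hN
  · exact e8_fi23 h hN
  · exact e26_fi23 h hN
  · exact hcon (td4 h)
  · exact hcon (suz h)
  · exact hcon (ree2 h)
  · exact hcon (tf4 h)
  · exact hcon (hS.tits X h)

end Cfsg.Agent.OddHalf.D6.RThree.Ord
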