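import Cfsg.Prelude.Def_Classification2

/-!
# Known simple groups of order at most `3024`: the sporadic groups and the Tits group (helper340)

`SpBig`: all these groups have order larger than `3024`. It is proved in `OrdSpor.lean` from `PumpOrd/*.lean`.
-/

set_option autoImplicit false

namespace Cfsg.Agent.OddHalf.D6.RThree.Ord

universe u

/-- Every sporadic group and the Tits group have order larger than `3024`. -/
structure SpBig : Prop where
  spor : ∀ (G : Type u) [Group G], IsSporadicGroup G → 3024 < Nat.card G
  tits : ∀ (G : Type u) [Group G], Lie.IsoTits G → 3024 < Nat.card G

end Cfsg.Agent.OddHalf.D6.RThree.Ord
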