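import Cfsg.Agent.OddHalf.D6.RThree.OrdArith
import Cfsg.Agent.OddHalf.D6.RThree.OrdExc
import Cfsg.Agent.OddHalf.D6.QThree.PumpKnown
import Cfsg.Agent.S0252
import Cfsg.Agent.S0253
import Cfsg.Agent.S0254
import Cfsg.Agent.S0255

/-!
# The known non-abelian simple groups of order at most `3024` (helper340)
-/

set_option autoImplicit false

namespace Cfsg.Agent.OddHalf.D6.RThree.Ord

open Cfsg.Agent.OddHalf.D6.QThree

universe u

/-- alternating, or `PSL(2,q)` with `q ∈ {7, 8, 11, 13, 17}` -/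
def Small (X : Type u) [Group X] : Prop :=
  IsAlternating X ∨ (∃ (F : Type) (_ : Field F) (_ : Fintype F), Fintype.card F ∈ ({7, 8, 11, 13, 17} : Finset ℕ) ∧
    Nonempty (X ≃* Matrix.ProjectiveSpecialLinearGroup (Fin 2) F))

variable {X : Type u} [Group X]

theorem psl (hX : IsPSL X) (hc : Nat.card X ≤ 3024) : Small X := by
  obtain ⟨F, _, _, n, hn, hn2, ⟨e⟩⟩ := hX
  have h1 := Cfsg.Agent.S0243.result (F := F) rfl n hn
  rw [← Nat.card_congr e.toEquiv] at h1
  have hq : 2 ≤ Fintype.card F := Fintype.one_lt_card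
  rcases OrdArith.psl hn hq h1 hc with ⟨rfl, h17, h16⟩ | ⟨rfl, h2⟩
  · have hpp : IsPrimePow (Fintype.card F) := Fintype.isPrimePow_card_of_field
    have h4 : 4 ≤ Fintype.card F := hn2 rfl
    obtain ⟨q, hqq⟩ : ∃ q, q = Fintype.card F := ⟨_, rfl⟩
    rw [← hqq] at h4 h17 h16 hpp
    interval_cases q
    · obtain ⟨e'⟩ := Cfsg.Agent.S0252.result (F := F) hqq.symm
      exact Or.inl ⟨5, le_rfl, ⟨e.trans e'⟩⟩
    · obtain ⟨e'⟩ := Cfsg.Agent.S0253.result (F := F) hqq.symm
      exact Or.inl ⟨5, le_rfl, ⟨e.trans e'⟩⟩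
    · exact absurd hpp (by decide +kernel)
    · exact Or.inr ⟨F, _, _, by rw [← hqq]; decide, ⟨e⟩⟩
    · exact Or.inr ⟨F, _, _, by rw [← hqq]; decide, ⟨e⟩⟩
    · obtain ⟨e'⟩ := Cfsg.Agent.S0254.result (F := F) hqq.symm
      exact Or.inl ⟨6, by norm_num, ⟨e.trans e'⟩⟩
    · exact absurd hpp (by decide +kernel)
    · exact Or.inr ⟨F, _, _, by rw [← hqq]; decide, ⟨e⟩⟩
    · exact absurd hpp (by decide +kernel)
    · exact Or.inr ⟨F, _, _, by rw [← hqq]; decide, ⟨e⟩⟩
    · exact absurd hpp (by decide +kernel)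
    · exact absurd hpp (by decide +kernel)
    · exact absurd rfl h16
    · exact Or.inr ⟨F, _, _, by rw [← hqq]; decide, ⟨e⟩⟩
  · have : Fact (Nat.Prime 7) := ⟨by norm_num⟩
    have e7 : Fintype.card (ZMod 7) = 7 := ZMod.card 7
    obtain ⟨e'⟩ := Cfsg.Agent.S0255.result (F := ZMod 7) (K := F) e7 h2
    exact Or.inr ⟨ZMod 7, _, _, by rw [e7]; decide, ⟨e.trans e'.symm⟩⟩

theorem psp (hX : IsPSp X) (hc : Nat.card X ≤ 3024) : False := by
  obtain ⟨F, _, _, m, hm, hm3, ⟨e⟩⟩ := hX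
  have h1 := Pump.card_psp F m (by omega)
  rw [← Nat.card_congr e.toEquiv] at h1
  have hq : 2 ≤ Fintype.card F := Fintype.one_lt_card
  exact OrdArith.sp hm hq hm3 h1 hc

theorem psu (hX : IsPSU X) (hc : Nat.card X ≤ 3024) : False := by
  obtain ⟨F, _, _, n, q, hF, hn, h32, ⟨e⟩⟩ := hX
  have h1 := Cfsg.Agent.S0280.result hF n (by omega)
  rw [← Nat.card_congr e.toEquiv] at h1
  have hq : 2 ≤ q := by
    have h2 : 2 ≤ Fintype.card F := Fintype.one_lt_card
    rw [hF] at h2
    by_contra hcon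
    have : q = 0 ∨ q = 1 := by omega
    rcases this with rfl | rfl <;> norm_num at h2
  exact OrdArith.psu hn hq h32 h1 hc

theorem cyclic (hX : IsPrimeCyclic X) : IsMulCommutative X := by
  have h2 : Nat.Prime (Nat.card X) := hX
  have : Fact (Nat.card X).Prime := ⟨h2⟩
  have : IsCyclic X := isCyclic_of_prime_card (p := Nat.card X) rfl
  exact IsCyclic.isMulCommutative

/-- **(KO), from the bounds for the sporadic groups** -/
theorem small (hS : SpBig.{u}) (hX : IsKnownSimple' X) (hna : ¬ IsMulCommutative X) (hc : Nat.card X ≤ 3024) :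
    Small X := by
  rcases hX with h | h | h | h | h | h | h | h | h | h
  · exact absurd (cyclic h) hna
  · exact Or.inl h
  · exact psl h hc
  · exact (psp h hc).elim
  · exact (psu h hc).elim
  · exact absurd (Pump.omegaOdd h) (by omega)
  · exact absurd (Pump.omegaPlus h) (by omega)
  · exact absurd (Pump.omegaMinus h) (by omega)
  · exact absurd (exceptional hS h) (by omega)
  · exact absurd (hS.spor X h) (by omega)

end Cfsg.Agent.OddHalf.D6.RThree.Ord
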