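import Cfsg.Agent.OddHalf.D6.RThree.Comp

/-!
# ODD half, D6, `L₃(3)`, `U₃(3)`: `Q ≤ O₂(X)` (helper783)

`axb`: the `A × B` lemma for an involution and an element of odd order; `Hyp.Q_le`.
-/

set_option autoImplicit false

namespace Cfsg.Agent.OddHalf.D6.RThree

open Subgroup Cfsg
open Cfsg.Agent.OddHalf.D6.QThree.NISide

/-- **`A × B` lemma** -/
theorem axb {X : Type*} [Group X] [Finite X] {F : Subgroup X} {t a : X} (tt : t * t = 1) (hF : IsPGroup 2 F)
    (htF : ∀ f ∈ F, t * f * t⁻¹ ∈ F) (haF : ∀ f ∈ F, a * f * a⁻¹ ∈ F) (hat : a * t = t * a)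
    (ho : Odd (orderOf a)) (h : ∀ f ∈ F, f * t = t * f → f * a = a * f) : ∀ f ∈ F, f * a = a * f := by
  have : Fact (Nat.Prime 2) := ⟨Nat.prime_two⟩
  have ti : t⁻¹ = t := inv_eq_of_mul_eq_one_right tt
  let P : Subgroup X :=
    { carrier := {x | x ∈ F ∨ x * t ∈ F}
      one_mem' := Or.inl F.one_mem
      mul_mem' := by
        rintro x y (hx | hx) (hy | hy)
        · exact Or.inl (F.mul_mem hx hy)
        · right
          show x * y * t ∈ F
          rw [mul_assoc]; exact F.mul_mem hx hy
        · right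
          have : x * y * t = (x * t) * (t * y * t⁻¹) := by
            rw [ti]
            calc x * y * t = x * (1 * (y * t)) := by group
              _ = x * (t * t * (y * t)) := by rw [tt]
              _ = x * t * (t * y * t) := by group
          show x * y * t ∈ F
          rw [this]; exact F.mul_mem hx (htF y hy)
        · left
          have h1 := htF _ hy
          have : x * y = (x * t) * (t * (y * t) * t⁻¹) := by
            calc x * y = x * (1 * y) := by group
              _ = x * (t * t * y) := by rw [tt]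
              _ = (x * t) * (t * (y * t) * t⁻¹) := by group
          show x * y ∈ F
          rw [this]; exact F.mul_mem hx h1
      inv_mem' := by
        rintro x (hx | hx)
        · exact Or.inl (F.inv_mem hx)
        · right
          have h1 := htF _ (F.inv_mem hx)
          have : x⁻¹ * t = t * (x * t)⁻¹ * t⁻¹ := by
            rw [mul_inv_rev, ti]
            calc x⁻¹ * t = 1 * x⁻¹ * t := by group
              _ = t * t * x⁻¹ * t := by rw [tt]
              _ = t * (t * x⁻¹) * t := by group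
          show x⁻¹ * t ∈ F
          rw [this]; exact h1 }
  have hmP : ∀ x, x ∈ P ↔ x ∈ F ∨ x * t ∈ F := fun x => Iff.rfl
  have hFP : F ≤ P := fun x hx => Or.inl hx
  have htP : t ∈ P := Or.inr (by rw [tt]; exact F.one_mem)
  have hPp : IsPGroup 2 P := by
    have htN : zpowers t ≤ normalizer (F : Set X) := by
      rw [zpowers_le, mem_normalizer_iff]
      intro b
      refine ⟨fun hb => htF b hb, fun hb => ?_⟩
      have h1 := htF _ hb
      have h2 : t * (t * b * t⁻¹) * t⁻¹ = b := by
        calc t * (t * b * t⁻¹) * t⁻¹ = (t * t) * b * (t * t)⁻¹ := by group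
          _ = b := by rw [tt]; group
      rwa [h2] at h1
    have h1 : IsPGroup 2 ↥(F ⊔ zpowers t : Subgroup X) :=
      IsPGroup.to_sup_of_normal_left' hF (QThree.NI.isPGroup_zp tt) htN
    refine h1.to_le fun x hx => ?_
    rcases hx with hx | hx
    · exact (le_sup_left : F ≤ _) hx
    · have e : x = x * t * t := by rw [mul_assoc, tt, mul_one]
      rw [e]
      exact mul_mem ((le_sup_left : F ≤ F ⊔ zpowers t) hx) ((le_sup_right : zpowers t ≤ F ⊔ zpowers t) (mem_zpowers t))
  set E : Subgroup P := (centralizer ({a} : Set X)).subgroupOf P with hE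
  have hmE : ∀ x : P, x ∈ E ↔ (x : X) * a = a * x := fun x => by
    rw [hE, mem_subgroupOf, mem_centralizer_singleton_iff]
  have htE : (⟨t, htP⟩ : P) ∈ E := (hmE _).2 hat.symm
  -- elements of `F` normalising `E`
  have key : ∀ n : P, (n : X) ∈ F → (∀ e ∈ E, n * e * n⁻¹ ∈ E) → n ∈ E := by
    intro n hnF hn
    have h1 := (hmE _).1 (hn _ htE)
    have h2 : (n : X) * t * (n : X)⁻¹ * a = a * (n * t * (n : X)⁻¹) := h1
    set w : X := (n : X)⁻¹ * (a * n * a⁻¹) with hw
    have hwF : w ∈ F := F.mul_mem (F.inv_mem hnF) (haF _ hnF)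
    have hta : t * a⁻¹ = a⁻¹ * t := ((show Commute a t from hat).inv_left.eq).symm
    have hwt : w * t = t * w := by
      have h3 : a * (n * t * (n : X)⁻¹) * a⁻¹ = n * t * (n : X)⁻¹ := by rw [← h2]; group
      calc w * t = (n : X)⁻¹ * (a * n * (a⁻¹ * t)) := by rw [hw]; group
        _ = (n : X)⁻¹ * (a * n * (t * a⁻¹)) := by rw [hta]
        _ = (n : X)⁻¹ * (a * (n * t * (n : X)⁻¹) * a⁻¹) * (a * n * a⁻¹) := by group
        _ = (n : X)⁻¹ * (n * t * (n : X)⁻¹) * (a * n * a⁻¹) := by rw [h3]
        _ = t * w := by rw [hw]; group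
    have hwa : Commute w a := h w hwF hwt
    have h4 : a * n = n * w * a := by rw [hw]; group
    have h5 : ∀ k : ℕ, a ^ k * n = n * w ^ k * a ^ k := by
      intro k
      induction k with
      | zero => group
      | succ k ih =>
        calc a ^ (k + 1) * n = a * (a ^ k * n) := by rw [pow_succ']; group
          _ = (a * n) * w ^ k * a ^ k := by rw [ih]; group
          _ = n * w * (a * w ^ k) * a ^ k := by rw [h4]; group
          _ = n * w * (w ^ k * a) * a ^ k := by rw [(hwa.pow_left k).eq]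
          _ = n * w ^ (k + 1) * a ^ (k + 1) := by rw [pow_succ' w, pow_succ' a]; group
    have h6 := h5 (orderOf a)
    rw [pow_orderOf_eq_one, one_mul, mul_one] at h6
    have h7 : w ^ orderOf a = 1 := (mul_eq_left.1 h6.symm)
    have h8 : w = 1 := by
      obtain ⟨k, hk⟩ := hF ⟨w, hwF⟩
      have hk' : w ^ 2 ^ k = 1 := congrArg Subtype.val hk
      have h9 : Nat.Coprime (2 ^ k) (orderOf a) := Nat.Coprime.pow_left _ (Nat.coprime_two_left.2 ho)
      exact orderOf_eq_one_iff.1 (Nat.eq_one_of_dvd_coprimes h9 (orderOf_dvd_of_pow_eq_one hk')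
        (orderOf_dvd_of_pow_eq_one h7))
    rw [hmE, h4, h8, mul_one]
  have hnil : Group.IsNilpotent P := hPp.isNilpotent
  have hEt : E = ⊤ := by
    by_contra hne
    have h1 := Group.normalizerCondition_of_isNilpotent (G := P) E (lt_top_iff_ne_top.2 hne)
    obtain ⟨n, hn, hnE⟩ := SetLike.exists_of_lt h1
    have hn' : ∀ e ∈ E, n * e * n⁻¹ ∈ E := fun e he => (mem_normalizer_iff.1 hn e).1 he
    rcases n.2 with hnF | hnF
    · exact hnE (key n hnF hn')
    · apply hnE
      have h2 : n * ⟨t, htP⟩ ∈ E := by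
        refine key (n * ⟨t, htP⟩) hnF fun e he => ?_
        have h3 := hn' _ (E.mul_mem (E.mul_mem htE he) (E.inv_mem htE))
        have h4 : n * ⟨t, htP⟩ * e * (n * ⟨t, htP⟩)⁻¹ = n * (⟨t, htP⟩ * e * (⟨t, htP⟩ : P)⁻¹) * n⁻¹ := by group
        rw [h4]; exact h3
      have h3 := E.mul_mem h2 (E.inv_mem htE)
      rwa [mul_inv_cancel_right] at h3
  intro f hf
  have h1 : (⟨f, hFP hf⟩ : P) ∈ E := by rw [hEt]; exact mem_top _
  exact (hmE _).1 h1

namespace Hyp

variable {X : Type*} [Group X] {z t a : X} {Q : Subgroup X}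

/-- **`Q ≤ F`** -/
theorem Q_le [Finite X] (h : Hyp z t a Q) {F : Subgroup X} (hn : F.Normal) (hp : IsPGroup 2 F)
    (hself : ∀ g : X, (∀ x ∈ F, g * x = x * g) → g ∈ F) : Q ≤ F := by
  by_contra hQF
  -- `Q ∩ F ≤ ⟨z⟩`
  have hQ1 : ∀ q ∈ Q, q ∈ F → q = 1 ∨ q = z := by
    intro q hq hqF
    by_contra hcon
    push Not at hcon
    exact hQF (h.s.gen h.zc h.zz h.z1 hq hcon.1 hcon.2 hqF (hn.conj_mem q hqF a))
  have ha : ∀ f ∈ F, f * a = a * f := by
    refine axb h.tt hp (fun f hf => hn.conj_mem f hf t) (fun f hf => hn.conj_mem f hf a) h.s.a_t h.ao ?_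
    intro d hd hdt
    obtain ⟨r, hr, hy⟩ := h.rad (N := F ⊓ centralizer ({t} : Set X))
      (fun n hn' => mem_centralizer_singleton_iff.1 hn'.2) (hp.to_le inf_le_left) (by
        intro g hg n hn'
        refine ⟨hn.conj_mem n hn'.1 g, mem_centralizer_singleton_iff.2 ?_⟩
        have c1 : Commute g t := hg
        have c2 : Commute n t := mem_centralizer_singleton_iff.1 hn'.2
        exact ((c1.mul_left c2).mul_left c1.inv_left).eq) d ⟨hd, mem_centralizer_singleton_iff.2 hdt⟩
    set y := d * r with hyd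
    have hdy : d = y * r⁻¹ := by rw [hyd, mul_inv_cancel_right]
    have cya : Commute y a := h.YJ y hy a h.s.a_t h.ao
    have hr'Q : a * r * a⁻¹ ∈ Q := h.s.aQ r hr
    have e1 : d⁻¹ * (a * d * a⁻¹) = r * (a * r * a⁻¹)⁻¹ := by
      calc d⁻¹ * (a * d * a⁻¹) = r * y⁻¹ * ((a * y) * r⁻¹ * a⁻¹) := by rw [hdy]; group
        _ = r * y⁻¹ * ((y * a) * r⁻¹ * a⁻¹) := by rw [cya.eq]
        _ = r * (a * r * a⁻¹)⁻¹ := by group
    have h1 : r * (a * r * a⁻¹)⁻¹ ∈ F := by
      rw [← e1]
      exact F.mul_mem (F.inv_mem hd) (hn.conj_mem d hd a)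
    have hrz : r = 1 ∨ r = z := by
      by_contra hcon
      push Not at hcon
      have hne := h.s.act r hr hcon.1 hcon.2
      rcases hQ1 _ (Q.mul_mem hr (Q.inv_mem hr'Q)) h1 with e | e
      · apply hne
        rw [mul_inv_eq_one] at e
        rw [← e]
      · apply hne
        rw [mul_inv_eq_iff_eq_mul] at e
        have c1 : Commute (z * (a * r * a⁻¹)) (a * r * a⁻¹) :=
          (show Commute (a * r * a⁻¹) z from h.zc _).symm.mul_left (Commute.refl _)
        rw [← e] at c1
        exact c1.eq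
    have cra : Commute r a := by
      rcases hrz with e | e
      · rw [e]; exact Commute.one_left a
      · rw [e]; exact (show Commute a z from h.zc a).symm
    rw [hdy]
    exact (cya.mul_left cra.inv_left).eq
  have haF : a ∈ F := hself a fun x hx => (ha x hx).symm
  have ha1 : a = 1 := eq_one_of_odd (hp.to_le (zpowers_le.2 haF)) h.ao
  obtain ⟨q, hq, hq1, hqz⟩ := h.s.exists_ne
  apply h.s.act q hq hq1 hqz
  rw [ha1]
  group

end Hyp

end Cfsg.Agent.OddHalf.D6.RThree
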