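import Cfsg.Agent.OddHalf.D6.RThree.Hyp
import Cfsg.Agent.Lib.NormalAbelian

/-!
# ODD half, D6, `L₃(3)`, `U₃(3)`: the normal 2-subgroups of `C_X(t)` (helper783)

`Hyp.rad`: they lie in `Q Y`, `Y = C_X(t) ∩ C(Q)`.
-/

set_option autoImplicit false

namespace Cfsg.Agent.OddHalf.D6.RThree

open Subgroup Cfsg
open Cfsg.Agent.OddHalf.D6.QThree.NISide

variable {X : Type*} [Group X] {z t a : X} {Q : Subgroup X}

namespace Hyp

theorem zinv (h : Hyp z t a Q) : z⁻¹ = z := inv_eq_of_mul_eq_one_right h.zz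

theorem tinv (h : Hyp z t a Q) : t⁻¹ = t := inv_eq_of_mul_eq_one_right h.tt

theorem mem_zp (h : Hyp z t a Q) {x : X} : x ∈ zpowers z ↔ x = 1 ∨ x = z := by
  constructor
  · intro hx
    obtain ⟨k, rfl⟩ := mem_zpowers_iff.1 hx
    rcases Int.even_or_odd k with ⟨m, rfl⟩ | ⟨m, rfl⟩
    · left
      rw [← two_mul, zpow_mul, zpow_ofNat, pow_two, h.zz, one_zpow]
    · right
      rw [zpow_add, zpow_mul, zpow_ofNat, pow_two, h.zz, one_zpow, one_mul, zpow_one]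
  · rintro (rfl | rfl)
    · exact one_mem _
    · exact mem_zpowers _

theorem zn (h : Hyp z t a Q) : (zpowers z).Normal := by
  refine ⟨fun n hn g => ?_⟩
  have h1 : g * n * g⁻¹ = n := by
    rcases h.mem_zp.1 hn with rfl | rfl
    · rw [mul_one, mul_inv_cancel]
    · rw [h.zc g, mul_inv_cancel_right]
  rw [h1]; exact hn

/-- commuting modulo `⟨z⟩` -/
theorem mod_iff (h : Hyp z t a Q) [hn : (zpowers z).Normal] {x y : X} :
    QuotientGroup.mk' (zpowers z) x * QuotientGroup.mk' (zpowers z) y =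
      QuotientGroup.mk' (zpowers z) y * QuotientGroup.mk' (zpowers z) x ↔
    x * y * x⁻¹ = y ∨ x * y * x⁻¹ = y * z := by
  rw [← map_mul, ← map_mul]
  have e0 : QuotientGroup.mk' (zpowers z) (x * y) = QuotientGroup.mk' (zpowers z) (y * x) ↔
      (y * x)⁻¹ * (x * y) = 1 ∨ (y * x)⁻¹ * (x * y) = z := by
    rw [eq_comm, ← h.mem_zp]
    exact QuotientGroup.eq
  rw [e0]
  constructor
  · rintro (e | e)
    · left
      have e1 : x * y = y * x := (inv_mul_eq_one.1 e).symm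
      rw [e1, mul_inv_cancel_right]
    · right
      have e1 : x * y = y * x * z := by rw [← e]; group
      rw [e1, mul_assoc (y * x), ← h.zc x⁻¹, ← mul_assoc, mul_inv_cancel_right]
  · rintro (e | e)
    · left
      rw [inv_mul_eq_one]
      exact (mul_inv_eq_iff_eq_mul.1 e).symm
    · right
      have e1 : x * y = y * z * x := mul_inv_eq_iff_eq_mul.1 e
      rw [e1, mul_assoc y z x, ← h.zc x]
      group

/-- a 2-group acting on `Q` fixes an element of order 4 of `Q` modulo `⟨z⟩` -/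
theorem exists_fixed [Finite X] (h : Hyp z t a Q) {W : Subgroup X} (hW : IsPGroup 2 W)
    (hWQ : ∀ w ∈ W, ∀ q ∈ Q, w * q * w⁻¹ ∈ Q) :
    ∃ q ∈ Q, q ≠ 1 ∧ q ≠ z ∧ ∀ w ∈ W, w * q * w⁻¹ = q ∨ w * q * w⁻¹ = q * z := by
  have : Fact (Nat.Prime 2) := ⟨Nat.prime_two⟩
  have hzn := h.zn
  set π := QuotientGroup.mk' (zpowers z) with hπ
  have hWn : W ≤ normalizer (Q : Set X) := by
    intro w hw
    rw [mem_normalizer_iff]
    intro q
    refine ⟨fun hq => hWQ w hw q hq, fun hq => ?_⟩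
    have h1 := hWQ w⁻¹ (W.inv_mem hw) _ hq
    have e : w⁻¹ * (w * q * w⁻¹) * w⁻¹⁻¹ = q := by group
    rwa [e] at h1
  have hP : IsPGroup 2 ↥(W ⊔ Q : Subgroup X) := IsPGroup.to_sup_of_normal_right' hW h.s.pQ hWn
  set P : Subgroup (X ⧸ zpowers z) := (W ⊔ Q).map π with hPd
  have hPp : IsPGroup 2 P := hP.map π
  set V : Subgroup P := (Q.map π).subgroupOf P with hV
  have hQP : Q.map π ≤ P := map_mono le_sup_right
  have hVn : V.Normal := by
    refine ⟨?_⟩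
    rintro ⟨_, x, hx, rfl⟩ hn ⟨_, g, hg, rfl⟩
    rw [hV, mem_subgroupOf] at hn ⊢
    obtain ⟨q, hq, e⟩ := hn
    have hg' : g ∈ normalizer (Q : Set X) := (sup_le hWn le_normalizer) hg
    refine ⟨g * q * g⁻¹, (mem_normalizer_iff.1 hg' q).1 hq, ?_⟩
    rw [map_mul, map_mul, map_inv, e]
    rfl
  obtain ⟨i, hi, hi1, hiz⟩ := h.s.exists_ne
  have hker : ∀ {x : X}, π x = 1 ↔ x = 1 ∨ x = z := by
    intro x
    rw [← MonoidHom.mem_ker, hπ, QuotientGroup.ker_mk', h.mem_zp]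
  have hVne : V ≠ ⊥ := by
    intro e
    have h1 : (⟨π i, hQP ⟨i, hi, rfl⟩⟩ : P) ∈ V := mem_subgroupOf.2 ⟨i, hi, rfl⟩
    rw [e, mem_bot] at h1
    rcases hker.1 (congrArg Subtype.val h1) with e1 | e1
    · exact hi1 e1
    · exact hiz e1
  have hnil : Group.IsNilpotent P := hPp.isNilpotent
  have h2 := Cfsg.Agent.Lib.NormalAbelian.normal_inf_center_ne_bot V hVne
  obtain ⟨v, hv1⟩ := Subgroup.ne_bot_iff_exists_ne_one.1 h2
  obtain ⟨q, hq, hqv⟩ := mem_subgroupOf.1 (mem_inf.1 v.2).1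
  have hvne : π q ≠ 1 := by
    intro e
    apply hv1
    apply Subtype.ext
    apply Subtype.ext
    show (((v : P)) : X ⧸ zpowers z) = 1
    rw [← hqv, e]
  refine ⟨q, hq, fun e => hvne (by rw [e, map_one]), fun e => hvne (hker.2 (Or.inr e)), ?_⟩
  intro w hw
  rw [← h.mod_iff]
  have hwP : π w ∈ P := ⟨w, (le_sup_left : W ≤ W ⊔ Q) hw, rfl⟩
  have h3 := congrArg Subtype.val (mem_center_iff.1 (mem_inf.1 v.2).2 ⟨π w, hwP⟩)
  have h4 : π w * ((v : P) : X ⧸ zpowers z) = (v : P) * π w := h3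
  rw [← hqv] at h4
  exact h4

/-- **normal 2-subgroups of `C_X(t)`** -/
theorem rad [Finite X] (h : Hyp z t a Q) {N : Subgroup X} (hNt : ∀ n ∈ N, n * t = t * n) (hN : IsPGroup 2 N)
    (hNn : ∀ g, g * t = t * g → ∀ n ∈ N, g * n * g⁻¹ ∈ N) : ∀ n ∈ N, ∃ r ∈ Q, In t Q (n * r) := by
  have hzn := h.zn
  obtain ⟨q, hq, hq1, hqz, hfix⟩ := h.exists_fixed hN fun w hw => h.nQ w (hNt w hw)
  set j := a * q * a⁻¹ with hj
  have hjQ : j ∈ Q := h.s.aQ q hq
  have hqj : q * j ≠ j * q := h.s.act q hq hq1 hqz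
  intro n hn
  have hnj : n * j * n⁻¹ = j ∨ n * j * n⁻¹ = j * z := by
    have hai : a⁻¹ * t = t * a⁻¹ := (Commute.inv_left (show Commute a t from h.s.a_t)).eq
    have h1 := hNn a⁻¹ hai n hn
    have e : n * j * n⁻¹ = a * ((a⁻¹ * n * a⁻¹⁻¹) * q * (a⁻¹ * n * a⁻¹⁻¹)⁻¹) * a⁻¹ := by
      rw [hj]; group
    rcases hfix _ h1 with h2 | h2
    · left; rw [e, h2]
    · right
      rw [e, h2, hj]
      calc a * (q * z) * a⁻¹ = a * q * (z * a⁻¹) := by group
        _ = a * q * a⁻¹ * z := by rw [← h.zc a⁻¹]; group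
  set H : Subgroup X := Q ⊓ (centralizer ({QuotientGroup.mk' (zpowers z) n} : Set (X ⧸ zpowers z))).comap
    (QuotientGroup.mk' (zpowers z)) with hH
  have hmH : ∀ x, x ∈ H ↔ x ∈ Q ∧ (n * x * n⁻¹ = x ∨ n * x * n⁻¹ = x * z) := by
    intro x
    rw [hH, mem_inf, mem_comap, mem_centralizer_singleton_iff, ← h.mod_iff, eq_comm (a := _ * _)]
  have h1 : Q ≤ H := by
    refine h.s.le_of_two h.zc h.zz h.z1 inf_le_left ((hmH z).2 ⟨h.s.zQ, ?_⟩) ((hmH q).2 ⟨hq, hfix n hn⟩)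
      ((hmH j).2 ⟨hjQ, hnj⟩) hqj
    left
    rw [h.zc n, mul_inv_cancel_right]
  obtain ⟨r, hr, hrq⟩ := h.s.exists_inner h.zc h.zz h.z1 (g := n) fun x hx => ((hmH x).1 (h1 hx)).2
  refine ⟨r, hr, ?_, hrq⟩
  have c1 : Commute n t := hNt n hn
  have c2 : Commute r t := h.s.ct r hr
  exact (c1.mul_left c2).eq

end Hyp

end Cfsg.Agent.OddHalf.D6.RThree
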