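import Cfsg.Agent.OddHalf.D6.RThree.Elem
import Cfsg.Agent.OddHalf.D6.RThree.QLe
import Cfsg.Agent.OddHalf.D6.Cut
import Cfsg.Agent.OddHalf.D8.HS.Elim
import Cfsg.Agent.OddHalf.D8.JTwo.Large

/-!
# ODD half, D6: the rows `L₃(3)` and `U₃(3)` (helper783)
-/

set_option autoImplicit false

namespace Cfsg.Agent.OddHalf.D6.RThree.Row

open Subgroup Cfsg Cfsg.Agent.OddHalf.Iface Cfsg.Agent.OddHalf.Front.FE
open Cfsg.Agent.OddHalf.D5

universe u

/-- **E** -/
def PE : Prop :=
  ∀ {X : Type u} [Group X] [Finite X] {z t a : X} {Q : Subgroup X}, Hyp z t a Q → ∀ {F : Subgroup X},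
    F.Normal → IsPGroup 2 F → z ∈ F → (∀ x ∈ F, x * x = 1 ∨ x * x = z) →
    (∀ x ∈ F, ∀ y ∈ F, x * y = y * x ∨ x * y = z * (y * x)) →
    (∀ x ∈ F, (∀ y ∈ F, x * y = y * x) → x = 1 ∨ x = z) →
    (∀ g : X, (∀ x ∈ F, g * x = x * g) → g ∈ F) → Nat.card F ≤ 128

/-- **F** -/
def PF : Prop :=
  ∀ {G : Type u} [Group G], Ctx G → ∀ {z : G}, orderOf z = 2 → Odd (centralizer ({z} : Set G)).index →
    SixAut.SymHyp z → (SixAut.SymF z (SixAut.SymHyp.FF z) → Nat.card ↥(SixAut.SymHyp.FF z) ≤ 128) →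
    (189 ∣ Nat.card G ∨ 351 ∣ Nat.card G) → False

/-- `F*(X)` is a 2-group -/
theorem isPGroup_star {X : Type*} [Group X] [Finite X] (hO : pPrimeCore 2 X = ⊥)
    (hn : ∀ L : Subgroup X, ¬ IsComponent L) : IsPGroup 2 ↥(generalizedFittingSubgroup X) := by
  have : Fact (Nat.Prime 2) := ⟨Nat.prime_two⟩
  have h1 : layer X = ⊥ := by
    rw [eq_bot_iff]
    exact Cfsg.Agent.SignalizersComponents.Components.layer_le_iff.mpr fun L hL => absurd hL (hn L)
  have h2 : generalizedFittingSubgroup X = pCore 2 X := by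
    rw [generalizedFittingSubgroup, h1, bot_sup_eq,
      Cfsg.Agent.SignalizersComponents.PConstrained.fittingSubgroup_eq_pCore_of_pPrimeCore_eq_bot 2 hO]
  rw [h2]
  exact Cfsg.Agent.Lib.Cores.pCore_isPGroup 2

/-- **the row** -/
theorem row (hGW : SylowSp4.Hyps.GW.{u}) (hKO : KO.{u}) (hE : PE.{u}) (hF : PF.{u}) {G : Type u} [Group G]
    (C : Ctx G) {K : Subgroup G} (S : Std G K) (hcyc : Cyc K) (hcen : center ↥K = ⊥) {z : ↥K}
    {Q : Subgroup ↥K} (f : Facts.One z Q) (hK : Nat.card K ≤ 6048) : False := by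
  have hfin := C.fin
  have hsimp := C.simple
  obtain ⟨t, q, st⟩ := exists_start C S hcyc hcen
  have E : Front.Emb K t q z Q := ⟨st, f⟩
  obtain ⟨T, F⟩ := E.facts
  obtain ⟨Fr, Sy, hTS, hSz, ⟨x, hxS, hxN, hxT, hxt, hxz⟩, hnc, htH⟩ :=
    CycW.main F (commutator_eq_top C) (index_ne_two C)
  have hz1 : (z : G) ≠ 1 := fun e => f.z1 (Subtype.ext e)
  have hzz : (z : G) * z = 1 := congrArg Subtype.val f.zz
  have hz : orderOf (z : G) = 2 := orderOf_eq_prime (by rw [pow_two]; exact hzz) hz1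
  have hO := Soft.core_eq_bot (C.bal z hz)
  obtain ⟨a, h⟩ := E.hyp hO htH ⟨x, hxt, hxz⟩
  have hno := no_comp hKO hGW C S hK hz fun M hM => h.z_mem hM
  have hP := isPGroup_star hO hno
  have hJ := not_normal hGW C hz h
  have hsym : SixAut.SymHyp (z : G) := by
    refine ⟨hP, fun A hA h2 b hb => ?_⟩
    rcases h.elem hJ hA h2 b hb with e | e
    · left; rw [e]; rfl
    · right; rw [e]
  refine hF C hz ?_ hsym ?_ ?_
  · -- the index of `C(z)` is odd
    have h1 : (Sy : Subgroup G) ≤ centralizer ({(z : G)} : Set G) := fun s hs =>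
      mem_centralizer_singleton_iff.2 (hSz s hs)
    have : Fact (Nat.Prime 2) := ⟨Nat.prime_two⟩
    have h2 := Sy.not_dvd_index
    have h3 : (centralizer ({(z : G)} : Set G)).index ∣ (Sy : Subgroup G).index := index_dvd_of_le h1
    rw [← Nat.not_even_iff_odd, even_iff_two_dvd]
    exact fun h4 => h2 (h4.trans h3)
  · intro hsF
    rw [SixAut.SymHyp.card_FF]
    have hmem : ∀ {b : ↥(centralizer ({(z : G)} : Set G))},
        b ∈ generalizedFittingSubgroup ↥(centralizer ({(z : G)} : Set G)) → (b : G) ∈ SixAut.SymHyp.FF (z : G) :=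
      fun {b} hb => ⟨b, hb, rfl⟩
    have hN : (generalizedFittingSubgroup ↥(centralizer ({(z : G)} : Set G))).Normal :=
      ClassificationK.GF2Basics.genFitting_normal_of_isPGroup hP
    have hinj : ∀ {b : ↥(centralizer ({(z : G)} : Set G))}, (b : G) ∈ SixAut.SymHyp.FF (z : G) →
        b ∈ generalizedFittingSubgroup ↥(centralizer ({(z : G)} : Set G)) := by
      rintro b ⟨c, hc, e⟩
      have : c = b := Subtype.ext e
      rwa [← this]
    refine hE h hN hP (hinj hsF.zF) ?_ ?_ ?_ ?_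
    · intro x hx
      rcases hsF.sq x (hmem hx) with e | e
      · exact Or.inl (Subtype.ext e)
      · exact Or.inr (Subtype.ext e)
    · intro x hx y hy
      rcases hsF.comm x (hmem hx) y (hmem hy) with e | e
      · exact Or.inl (Subtype.ext e)
      · exact Or.inr (Subtype.ext e)
    · intro x hx hc
      rcases hsF.cen x (hmem hx) (by
        rintro _ ⟨y, hy, rfl⟩
        exact congrArg Subtype.val (hc y hy)) with e | e
      · exact Or.inl (Subtype.ext e)
      · exact Or.inr (Subtype.ext e)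
    · intro g hg
      apply hinj
      apply hsF.self
      rintro _ ⟨y, hy, rfl⟩
      exact congrArg Subtype.val (hg y hy)
  · have h1 : Nat.card K ∣ Nat.card G := card_subgroup_dvd_card K
    rcases f.big with h2 | h2
    · exact Or.inl (h2.trans h1)
    · exact Or.inr (h2.trans h1)

end Cfsg.Agent.OddHalf.D6.RThree.Row
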