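import Cfsg.Agent.OddHalf.D6.RThree.Abs
import Cfsg.Agent.OddHalf.D4.Small.Core

/-!
# ODD half, D6, `L₃(3)` and `U₃(3)`: transport of the facts, the field `cls` (helper56)
-/

set_option autoImplicit false

namespace Cfsg.Agent.OddHalf.D6.RThree.Trans

open Subgroup
open Cfsg.Agent.OddHalf.D6.RThree.Facts
open Cfsg.Agent.OddHalf.D4.Small (Core)

/-- the field `cls` of `Mod` -/
theorem cls_of {K : Type*} [Group K] [Finite K] {S R : Subgroup K} {z : K} (h : Core K S R z) (α : MulAut K) :
    ∃ x : K, α z = x * z * x⁻¹ := by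
  haveI : Fact (Nat.Prime 2) := ⟨Nat.prime_two⟩
  have hodd : ¬ 2 ∣ (S.map α.toMonoidHom).index := by
    have h1 : (S.map α.toMonoidHom).index = S.index := by
      rw [index_map_of_bijective α.bijective]
    rw [h1]
    exact fun h2 => (Nat.not_even_iff_odd.mpr h.odd) (even_iff_two_dvd.mpr h2)
  have h2 : IsPGroup 2 (S.map α.toMonoidHom) := h.two.map _
  obtain ⟨x, hx⟩ := MulAction.exists_smul_eq K h.syl (h2.toSylow hodd)
  have hx' : ∀ s ∈ S, ∃ s' ∈ S, x * s * x⁻¹ = α s' := by
    intro s hs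
    have h3 : x * s * x⁻¹ ∈ ((x • h.syl : Sylow 2 K) : Subgroup K) := by
      rw [Sylow.coe_subgroup_smul]
      exact ⟨s, hs, rfl⟩
    rw [hx] at h3
    obtain ⟨s', hs', e⟩ := h3
    exact ⟨s', hs', e.symm⟩
  have hy' : ∀ s ∈ S, ∃ s' ∈ S, x⁻¹ * α s * x = s' := by
    intro s hs
    have h3 : α s ∈ ((x • h.syl : Sylow 2 K) : Subgroup K) := by
      rw [hx]
      exact ⟨s, hs, rfl⟩
    rw [Sylow.coe_subgroup_smul] at h3
    obtain ⟨s', hs', e⟩ := h3
    refine ⟨s', hs', ?_⟩
    have e' : x * s' * x⁻¹ = α s := e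
    rw [← e']; group
  refine ⟨x, ?_⟩
  obtain ⟨y, hy, hyz⟩ := hy' z (h.RS h.zR)
  have h4 : y = z := by
    apply h.uniq y hy
    · rw [← hyz]
      calc x⁻¹ * α z * x * (x⁻¹ * α z * x) = x⁻¹ * (α z * α z) * x := by group
        _ = 1 := by rw [← map_mul, h.z2, map_one]; group
    · intro h5
      rw [h5] at hyz
      apply h.z1
      apply α.injective
      rw [map_one]
      calc α z = x * (x⁻¹ * α z * x) * x⁻¹ := by group
        _ = 1 := by rw [hyz]; group
    · intro s hs
      obtain ⟨s', hs', e⟩ := hx' s hs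
      have e1 : s = x⁻¹ * α s' * x := by rw [← e]; group
      have e2 := h.zc s' hs'
      rw [e1, ← hyz]
      calc x⁻¹ * α s' * x * (x⁻¹ * α z * x) = x⁻¹ * α (s' * z) * x := by rw [map_mul]; group
        _ = x⁻¹ * α (z * s') * x := by rw [e2]
        _ = x⁻¹ * α z * x * (x⁻¹ * α s' * x) := by rw [map_mul]; group
  have h5 : x⁻¹ * α z * x = z := hyz.trans h4
  calc α z = x * (x⁻¹ * α z * x) * x⁻¹ := by group
    _ = x * z * x⁻¹ := by rw [h5]

section map

variable {K L : Type*} [Group K] [Group L] {z : K} {Q : Subgroup K}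

/-- the automorphism of `K` -/
def pull (e : K ≃* L) : MulAut L →* MulAut K := (MulAut.congr e.symm).toMonoidHom

theorem pull_apply (e : K ≃* L) (α : MulAut L) (x : K) : pull e α x = e.symm (α (e x)) := rfl

theorem e_pull (e : K ≃* L) (α : MulAut L) (x : K) : e (pull e α x) = α (e x) := by
  rw [pull_apply, e.apply_symm_apply]

theorem pull_inj (e : K ≃* L) : Function.Injective (pull e) := (MulAut.congr e.symm).injective

theorem pull_conj (e : K ≃* L) (x : K) : pull e (MulAut.conj (e x)) = MulAut.conj x := by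
  ext y
  rw [pull_apply, MulAut.conj_apply, MulAut.conj_apply]
  apply e.injective
  rw [e.apply_symm_apply, map_mul, map_mul, map_inv]

theorem pull_surj (e : K ≃* L) : Function.Surjective (pull e) := (MulAut.congr e.symm).surjective

theorem mem_map (e : K ≃* L) {x : K} : e x ∈ Q.map e.toMonoidHom ↔ x ∈ Q := by
  constructor
  · rintro ⟨y, hy, h⟩
    rw [← e.injective h]; exact hy
  · intro hx; exact ⟨x, hx, rfl⟩

theorem triv_pull (e : K ≃* L) {α : MulAut L} : Triv (Q.map e.toMonoidHom) α ↔ Triv Q (pull e α) := by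
  constructor
  · intro h q hq
    apply e.injective
    rw [e_pull]
    exact h _ ((mem_map e).2 hq)
  · rintro h _ ⟨q, hq, rfl⟩
    show α (e q) = e q
    rw [← e_pull, h q hq]

theorem inner_pull (e : K ≃* L) {α : MulAut L} : Inner (Q.map e.toMonoidHom) α ↔ Inner Q (pull e α) := by
  constructor
  · rintro ⟨_, ⟨r, hr, rfl⟩, h⟩
    refine ⟨r, hr, fun q hq => ?_⟩
    apply e.injective
    rw [e_pull, map_mul, map_mul, map_inv]
    exact h _ ((mem_map e).2 hq)
  · rintro ⟨r, hr, h⟩
    refine ⟨e r, (mem_map e).2 hr, ?_⟩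
    rintro _ ⟨q, hq, rfl⟩
    show α (e q) = e r * e q * (e r)⁻¹
    rw [← e_pull, h q hq, map_mul, map_mul, map_inv]

theorem range_pull (e : K ≃* L) {α : MulAut L} : α ∈ (MulAut.conj : L →* MulAut L).range ↔
    pull e α ∈ (MulAut.conj : K →* MulAut K).range := by
  constructor
  · rintro ⟨x, rfl⟩
    obtain ⟨x, rfl⟩ := e.surjective x
    exact ⟨x, (pull_conj e x).symm⟩
  · rintro ⟨x, hx⟩
    refine ⟨e x, pull_inj e ?_⟩
    rw [pull_conj, hx]

theorem J_map (e : K ≃* L) : J (e z) = (J z).map e.toMonoidHom := by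
  unfold J
  rw [MonoidHom.map_closure]
  congr 1
  ext y
  constructor
  · rintro ⟨h1, h2⟩
    obtain ⟨x, rfl⟩ := e.surjective y
    refine ⟨x, ⟨?_, ?_⟩, rfl⟩
    · apply e.injective; rw [map_mul, map_mul, h1]
    · rwa [MulEquiv.orderOf_eq] at h2
  · rintro ⟨x, ⟨h1, h2⟩, rfl⟩
    refine ⟨?_, ?_⟩
    · show e x * e z = e z * e x
      rw [← map_mul, h1, map_mul]
    · show Odd (orderOf (e x))
      rwa [MulEquiv.orderOf_eq]

theorem two_map {A B : Type*} [Group A] [Group B] (f : A →* B) {x : A} (h : IsPGroup 2 (zpowers x)) :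
    IsPGroup 2 (zpowers (f x)) := by
  obtain ⟨n, hn⟩ := Abs.exists_two_pow h
  apply Abs.two_pow (n := n)
  rw [← map_pow, hn, map_one]

theorem one_map (h : One z Q) (e : K ≃* L) : One (e z) (Q.map e.toMonoidHom) where
  zz := by rw [← map_mul, h.zz, map_one]
  z1 := fun h1 => h.z1 ((map_eq_one_iff e e.injective).1 h1)
  odd := by
    have h1 : centralizer ({e z} : Set L) = (centralizer ({z} : Set K)).map e.toMonoidHom := by
      ext y
      obtain ⟨x, rfl⟩ := e.surjective y
      rw [mem_centralizer_singleton_iff]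
      constructor
      · intro h1
        refine ⟨x, mem_centralizer_singleton_iff.2 ?_, rfl⟩
        apply e.injective; rw [map_mul, map_mul, h1]
      · rintro ⟨x', h1, h2⟩
        have h3 : x' = x := e.injective h2
        rw [h3] at h1
        rw [← map_mul, mem_centralizer_singleton_iff.1 h1, map_mul]
    rw [h1, index_map_of_bijective e.bijective]
    exact h.odd
  zQ := (mem_map e).2 h.zQ
  card := by
    rw [← h.card]
    exact (Nat.card_congr (Q.equivMapOfInjective e.toMonoidHom e.injective).toEquiv).symm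
  sq := by
    rintro _ ⟨q, hq, rfl⟩ h1 h2
    show e q * e q = e z
    rw [← map_mul, h.sq q hq (fun h3 => h1 (by rw [h3]; exact map_one e)) (fun h3 => h2 (by rw [h3]; rfl))]
  aut := by
    rintro α hα _ ⟨q, hq, rfl⟩
    show α (e q) ∈ _
    rw [← e_pull]
    exact (mem_map e).2 (h.aut _ (by apply e.injective; rw [e_pull, hα]) q hq)
  ex := by
    obtain ⟨a, h1, h2, h3⟩ := h.ex
    refine ⟨e a, by rw [← map_mul, h1, map_mul], by rwa [MulEquiv.orderOf_eq], ?_⟩
    rintro _ ⟨q, hq, rfl⟩ h4 h5 h6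
    apply h3 q hq (fun h7 => h4 (by rw [h7]; exact map_one e)) (fun h7 => h5 (by rw [h7]; rfl))
    apply e.injective
    simp only [map_mul, map_inv]
    exact h6
  jQ := by
    intro y hy h1
    rw [J_map] at hy
    obtain ⟨x, hx, rfl⟩ := hy
    rcases h.jQ x hx (fun q hq => by
      apply e.injective
      rw [map_mul, map_mul]
      exact h1 _ ((mem_map e).2 hq)) with h2 | h2
    · left; rw [h2]; exact map_one e
    · right; rw [h2]; rfl
  jz := by
    intro y hy h1
    rw [J_map] at hy
    obtain ⟨x, hx, rfl⟩ := hy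
    have h1' : e x * e x = 1 := h1
    rcases h.jz x hx (by
      apply e.injective
      rw [map_mul, h1', map_one]) with h2 | h2
    · left; rw [h2]; exact map_one e
    · right; rw [h2]; rfl
  out := by
    have h1 : (MulAut.conj : L →* MulAut L).range = ((MulAut.conj : K →* MulAut K).range).comap (pull e) := by
      ext α
      rw [mem_comap]
      exact range_pull e
    rw [h1, index_comap_of_surjective _ (pull_surj e)]
    exact h.out
  k1 := by
    intro α hα
    rcases h.k1 _ ((triv_pull e).1 hα) with h1 | h1 | h1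
    · left; apply pull_inj e; rw [h1, map_one]
    · right; left; apply pull_inj e; rw [h1, pull_conj]
    · right; right; apply pull_inj e; rw [map_mul, h1, pull_conj]
  k2 := by
    have h1 : Nat.card {α : MulAut L // Triv (Q.map e.toMonoidHom) α} = Nat.card {α : MulAut K // Triv Q α} :=
      Nat.card_congr ((MulAut.congr e.symm).toEquiv.subtypeEquiv fun α => triv_pull e)
    rw [h1]
    exact h.k2
  k3 := by
    intro α hα y hy
    rw [J_map] at hy
    obtain ⟨x, hx, rfl⟩ := hy
    show α (e x) = e x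
    rw [← e_pull, h.k3 _ ((triv_pull e).1 hα) x hx]
  exp := by
    obtain ⟨p, h1, h2, h3⟩ := h.exp
    refine ⟨e p, by rw [← map_mul, h1, map_mul], two_map e.toMonoidHom h2, ?_⟩
    rw [inner_pull, pull_conj]
    exact h3
  k5 := by
    intro α hα hn y hy h2 hI h3
    obtain ⟨x, rfl⟩ := e.surjective y
    refine h.k5 _ ((triv_pull e).1 hα) (fun h4 => hn ((range_pull e).2 h4)) x ?_ ?_ ?_ ?_
    · apply e.injective; rw [map_mul, map_mul, hy]
    · have := two_map e.symm.toMonoidHom h2
      change IsPGroup 2 (zpowers (e.symm (e x))) at this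
      rwa [e.symm_apply_apply] at this
    · rw [inner_pull, pull_conj] at hI
      exact hI
    · apply e.injective; rw [e_pull, h3]
  sq4 := by
    intro γ κ h1 h2 h3 h4 h5 h6 h7
    obtain ⟨r, hr, β, h8, h9, h10⟩ := h.sq4 (pull e γ) (pull e κ) (by apply e.injective; rw [e_pull, h1])
      (two_map (pull e) h2) (fun h8 => h3 ((inner_pull e).2 h8)) ((triv_pull e).1 h4)
      (by rw [← map_mul, h5, pull_conj]) (by rw [← map_mul, h6, map_mul]) (by
        intro x hx
        have e1 : pull e (MulAut.conj (e x) * κ * (MulAut.conj (e x))⁻¹) =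
            MulAut.conj x * pull e κ * (MulAut.conj x)⁻¹ := by
          rw [map_mul, map_mul, map_inv, pull_conj]
        rcases h7 (e x) (by rw [← map_mul, hx, map_mul]) with h8 | h8
        · left; rw [← e1, h8]
        · right; rw [← e1, h8, map_mul, pull_conj])
    obtain ⟨β, rfl⟩ := pull_surj e β
    refine ⟨e r, (mem_map e).2 hr, β, (triv_pull e).2 h8, ?_, ?_⟩
    · apply pull_inj e; rw [map_mul, h9, pull_conj]
    · apply pull_inj e; rw [map_mul, h10, map_mul, pull_conj]
  q8 := by
    intro γ κ₁ κ₂ h1 h2 h3 h4 h5 h6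
    obtain ⟨κ, h7, h8, h9⟩ := h.q8 (pull e γ) (pull e κ₁) (pull e κ₂) (by apply e.injective; rw [e_pull, h1])
      (two_map (pull e) h2) (fun h8 => h3 ((inner_pull e).2 h8)) ((triv_pull e).1 h4) ((triv_pull e).1 h5)
      (fun h7 => h6 (pull_inj e (by rw [map_mul, map_mul, h7])))
    obtain ⟨κ, rfl⟩ := pull_surj e κ
    refine ⟨κ, (triv_pull e).2 h7, fun h10 => h8 ?_, fun h10 => h9 ?_⟩
    · rw [← map_inv, ← map_mul, ← map_mul, h10]
    · rw [← map_inv, ← map_mul, ← map_mul, h10, map_mul, pull_conj]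
  big := by
    rw [← Nat.card_congr e.toEquiv]
    exact h.big

/-- the form for the typists -/
theorem exists_one (h : One z Q) (e : L ≃* K) : ∃ (z : L) (Q : Subgroup L), One z Q :=
  ⟨_, _, one_map h e.symm⟩

end map

end Cfsg.Agent.OddHalf.D6.RThree.Trans
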